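import Mathlib
import Cfsg.Prelude.Def_Classical

set_option autoImplicit false

namespace Cfsg.Agent.H57

open Matrix QuadraticMap

variable {F : Type*} [Field F]

/-- Gram matrix in a second basis: the determinant changes by a square. -/
theorem gram_det_change {V ι κ : Type*} [AddCommGroup V] [Module F V] [Fintype ι] [DecidableEq ι]
    [Fintype κ] [DecidableEq κ] (B : LinearMap.BilinForm F V) (b : Module.Basis ι F V)
    (c : Module.Basis κ F V) :
    ∃ d : F, d ≠ 0 ∧ (Matrix.of fun i j => B (b i) (b j)).det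
      = d ^ 2 * (Matrix.of fun i j => B (c i) (c j)).det := by
  let e : κ ≃ ι := c.indexEquiv b
  let c' := c.reindex e
  have hc : (Matrix.of fun i j => B (c i) (c j))
      = (Matrix.of fun i j => B (c' i) (c' j)).submatrix e e := by
    ext i j; simp [c', Module.Basis.reindex_apply]
  rw [hc, Matrix.det_submatrix_equiv_self]
  have h1 : (Matrix.of fun i j => B (b i) (b j)) = LinearMap.BilinForm.toMatrix b B := by
    ext i j; simp [LinearMap.BilinForm.toMatrix_apply]
  have h2 : (Matrix.of fun i j => B (c' i) (c' j)) = LinearMap.BilinForm.toMatrix c' B := by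
    ext i j; simp [LinearMap.BilinForm.toMatrix_apply]
  rw [h1, h2, ← LinearMap.BilinForm.toMatrix_mul_basis_toMatrix (b := c') b B, det_mul, det_mul,
    det_transpose]
  refine ⟨(c'.toMatrix b).det, ?_, by ring⟩
  have := congrArg Matrix.det (Module.Basis.toMatrix_mul_toMatrix_flip c' b)
  rw [det_mul, det_one] at this
  exact left_ne_zero_of_mul_eq_one this

theorem isSquare_mul_sq_iff {d x : F} (hd : d ≠ 0) : IsSquare (d ^ 2 * x) ↔ IsSquare x := by
  constructor
  · rintro ⟨r, hr⟩
    refine ⟨r / d, ?_⟩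
    field_simp
    linear_combination hr
  · intro h
    exact (IsSquare.sq d).mul h

theorem det_hyperbolicGram (m : ℕ) :
    (Matrix.fromBlocks 0 1 1 0 : Matrix (Fin m ⊕ Fin m) (Fin m ⊕ Fin m) F).det = (-1) ^ m := by
  have h : (Matrix.fromBlocks 0 1 1 0 : Matrix (Fin m ⊕ Fin m) (Fin m ⊕ Fin m) F)
      = Matrix.fromBlocks 1 (-1) 0 1 * Matrix.fromBlocks 1 0 1 1 * Matrix.fromBlocks 1 (-1) 0 1
        * Matrix.fromBlocks 1 0 0 (-1) := by
    simp [Matrix.fromBlocks_multiply]
  rw [h, det_mul, det_mul, det_mul, det_fromBlocks_zero₂₁, det_fromBlocks_zero₁₂,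
    det_fromBlocks_zero₁₂]
  simp [det_neg]

theorem gram_quadFormPlus (m : ℕ) :
    (Matrix.of fun i j : Fin m ⊕ Fin m =>
      polar (Cfsg.quadFormPlus m F) (Pi.single i 1) (Pi.single j 1))
      = Matrix.fromBlocks 0 1 1 0 := by
  ext i j
  rcases i with i | i <;> rcases j with j | j <;>
    simp [polar, Cfsg.quadFormPlus, Pi.single_apply, Matrix.one_apply, Finset.sum_add_distrib,
      add_mul, mul_add, eq_comm]

theorem gram_quadFormMinus (m : ℕ) (a b : F) :
    (Matrix.of fun i j : (Fin m ⊕ Fin m) ⊕ Fin 2 =>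
      polar (Cfsg.quadFormMinus m F a b) (Pi.single i 1) (Pi.single j 1))
      = Matrix.fromBlocks (Matrix.fromBlocks 0 1 1 0) 0 0 !![2, a; a, 2 * b] := by
  ext i j
  rcases i with (i | i) | i <;> rcases j with (j | j) | j <;>
    (try fin_cases i) <;> (try fin_cases j) <;>
    simp [polar, Cfsg.quadFormMinus, Pi.single_apply, Matrix.one_apply, Finset.sum_add_distrib,
      add_mul, mul_add, eq_comm] <;> ring

theorem card_odd_two_ne_zero [Fintype F] (hq : Odd (Fintype.card F)) : (2 : F) ≠ 0 := by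
  intro h
  have : ringChar F = 2 := by
    have : ringChar F ∣ 2 := ringChar.dvd (by exact_mod_cast h)
    exact (Nat.prime_two.eq_one_or_self_of_dvd _ this).resolve_left (CharP.ringChar_ne_one)
  exact absurd (FiniteField.even_card_of_char_two this) (by rw [← Nat.even_iff]; exact Nat.not_even_iff_odd.2 hq)

theorem disc_nonsquare [Fintype F] (hq : Odd (Fintype.card F)) {a b : F}
    (hab : ∀ z₁ z₂ : F, z₁ ^ 2 + a * z₁ * z₂ + b * z₂ ^ 2 = 0 → z₁ = 0 ∧ z₂ = 0) :
    ¬ IsSquare (a ^ 2 - 4 * b) := by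
  rintro ⟨s, hs⟩
  have h2 := card_odd_two_ne_zero hq
  have := hab ((-a + s) / 2) 1 (by field_simp; linear_combination -hs)
  exact one_ne_zero this.2

theorem isSquare_neg_one_pow_iff [Fintype F] (hq : Odd (Fintype.card F)) (m : ℕ) :
    IsSquare ((-1 : F) ^ m) ↔ Even (m * (Fintype.card F - 1) / 2) := by
  obtain ⟨k, hk⟩ := hq
  rw [hk, show m * (2 * k + 1 - 1) / 2 = m * k by
    rw [show 2 * k + 1 - 1 = k * 2 by omega, ← mul_assoc, Nat.mul_div_cancel _ (by norm_num)]]
  have hneg : IsSquare (-1 : F) ↔ Even k := by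
    rw [FiniteField.isSquare_neg_one_iff, hk, Nat.even_iff]; omega
  rcases Nat.even_or_odd m with hm | hm
  · simp [hm.neg_one_pow, Nat.even_mul, hm]
  · rw [hm.neg_one_pow, hneg, Nat.even_mul]
    simp [Nat.not_even_iff_odd.2 hm]

theorem isSquare_mul_nonsquare [Fintype F] {x y : F} (hx : x ≠ 0) (hy : y ≠ 0)
    (hns : ¬ IsSquare y) : IsSquare (x * y) ↔ ¬ IsSquare x := by
  classical
  rw [← quadraticChar_one_iff_isSquare (mul_ne_zero hx hy), map_mul,
    quadraticChar_neg_one_iff_not_isSquare.2 hns, ← quadraticChar_neg_one_iff_not_isSquare]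
  constructor <;> intro h <;> linarith

end Cfsg.Agent.H57
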