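import Mathlib
import Cfsg.Prelude.Def_Classical

set_option autoImplicit false

namespace Cfsg.Agent.H57

open Matrix

variable {F : Type*} [Field F]

/-- block diagonal invertible matrix -/
def blockGL {α β : Type} [Fintype α] [DecidableEq α] [Fintype β] [DecidableEq β] :
    GL α F × GL β F →* GL (α ⊕ β) F where
  toFun p :=
    ⟨fromBlocks (p.1 : Matrix α α F) 0 0 (p.2 : Matrix β β F),
      fromBlocks ((p.1⁻¹ : GL α F) : Matrix α α F) 0 0 ((p.2⁻¹ : GL β F) : Matrix β β F),
      by simp [fromBlocks_multiply, ← Units.val_mul],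
      by simp [fromBlocks_multiply, ← Units.val_mul]⟩
  map_one' := by ext1; simp
  map_mul' p q := by ext1; simp [fromBlocks_multiply]

theorem blockGL_coe {α β : Type} [Fintype α] [DecidableEq α] [Fintype β] [DecidableEq β]
    (p : GL α F × GL β F) : (blockGL p : Matrix (α ⊕ β) (α ⊕ β) F)
      = fromBlocks (p.1 : Matrix α α F) 0 0 (p.2 : Matrix β β F) := rfl

/-- the orthogonal sum of two functions -/
abbrev sumForm {k l : ℕ} (f : (Fin k → F) → F) (g : (Fin l → F) → F) :
    (Fin k ⊕ Fin l → F) → F :=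
  fun v => f (v ∘ Sum.inl) + g (v ∘ Sum.inr)

/-- the isometries of the summands act on the orthogonal sum -/
def sumIso {k l : ℕ} (f : (Fin k → F) → F) (g : (Fin l → F) → F) :
    ↥(Cfsg.isometryGroup F f) × ↥(Cfsg.isometryGroup F g) →*
      ↥(Cfsg.isometryGroup F (sumForm f g)) :=
  ((blockGL (F := F)).comp ((Cfsg.isometryGroup F f).subtype.prodMap
    (Cfsg.isometryGroup F g).subtype)).codRestrict _ (fun p => by
      intro v w
      show f _ + g _ = f _ + g _
      have h1 := p.1.2 (v ∘ Sum.inl) 0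
      have h2 := p.2.2 (v ∘ Sum.inr) 0
      simp only [Units.coeHom_apply] at h1 h2
      simp only [MonoidHom.comp_apply, Units.coeHom_apply, blockGL_coe, MonoidHom.coe_prodMap,
        Prod.map_fst, Prod.map_snd, Subgroup.coe_subtype, fromBlocks_mulVec, zero_mulVec,
        add_zero, zero_add, Sum.elim_comp_inl, Sum.elim_comp_inr, h1, h2])

theorem sumIso_coe {k l : ℕ} (f : (Fin k → F) → F) (g : (Fin l → F) → F)
    (p : ↥(Cfsg.isometryGroup F f) × ↥(Cfsg.isometryGroup F g)) :
    ((sumIso f g p : GL (Fin k ⊕ Fin l) F) : Matrix (Fin k ⊕ Fin l) (Fin k ⊕ Fin l) F)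
      = fromBlocks ((p.1 : GL (Fin k) F) : Matrix (Fin k) (Fin k) F) 0 0
          ((p.2 : GL (Fin l) F) : Matrix (Fin l) (Fin l) F) := rfl

theorem mem_commutator_map {G H : Type*} [Group G] [Group H] (φ : G →* H) {x : G}
    (hx : x ∈ commutator G) : φ x ∈ commutator H := by
  have h : (commutator G).map φ ≤ commutator H := by
    rw [commutator_def, commutator_def, Subgroup.map_commutator]
    exact Subgroup.commutator_mono le_top le_top
  exact h (Subgroup.mem_map_of_mem φ hx)

theorem sumIso_mem_omega {k l : ℕ} (f : (Fin k → F) → F) (g : (Fin l → F) → F)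
    {x : ↥(Cfsg.isometryGroup F f)} {y : ↥(Cfsg.isometryGroup F g)}
    (hx : x ∈ Cfsg.Omega F f) (hy : y ∈ Cfsg.Omega F g) :
    sumIso f g (x, y) ∈ Cfsg.Omega F (sumForm f g) := by
  have h : ((x, y) : _ × _) = (x, 1) * (1, y) := by simp
  rw [h, map_mul]
  exact mul_mem (mem_commutator_map ((sumIso f g).comp (MonoidHom.inl _ _)) hx)
    (mem_commutator_map ((sumIso f g).comp (MonoidHom.inr _ _)) hy)

end Cfsg.Agent.H57
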