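import Cfsg.Agent.H37.Chev.GLForm
import Cfsg.Agent.H37.CartanMap
import Cfsg.Agent.Chevalley.Torus
import Cfsg.Prelude.Def_ChevAutomorphisms

/-!
The fixed points of a field automorphism on a tabulated Chevalley group with unimodular Cartan
matrix: they form the group of the fixed field.
-/

set_option autoImplicit false

namespace Cfsg.Agent.H57.ChevFixed

open Cfsg.Lie Cfsg.Agent.H37 Cfsg.Agent.H37.RootSys Cfsg.Agent.H37.Chev

variable {D : ChevalleyDatum} {F F₀ : Type*} [Field F] [Field F₀]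

theorem glMap_xU (K : Chevalley.Cert D) (f : F₀ →+* F) (r : ℕ) (t : F₀) :
    Matrix.GeneralLinearGroup.map f (K.xU F₀ r t) = K.xU F r (f t) :=
  Units.ext (x_map f r t)

theorem glMap_group_le (K : Chevalley.Cert D) (f : F₀ →+* F) {g : GL D.Idx F₀}
    (hg : g ∈ D.group F₀) : Matrix.GeneralLinearGroup.map f g ∈ D.group F := by
  rw [K.group_eq] at hg
  induction hg using Subgroup.closure_induction with
  | mem g hg =>
    obtain ⟨r, t, -, rfl⟩ := hg
    rw [glMap_xU]; exact K.xU_mem_group F r (f t)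
  | one => rw [map_one]; exact one_mem _
  | mul a b _ _ ha hb => rw [map_mul]; exact mul_mem ha hb
  | inv a _ ha => rw [map_inv]; exact inv_mem ha

/-- The map of groups given by a map of fields. -/
noncomputable def mapHom (K : Chevalley.Cert D) (f : F₀ →+* F) :
    ↥(D.group F₀) →* ↥(D.group F) :=
  ((Matrix.GeneralLinearGroup.map f).comp (D.group F₀).subtype).codRestrict _
    fun g => glMap_group_le K f g.2

theorem coe_mapHom (K : Chevalley.Cert D) (f : F₀ →+* F) (g : ↥(D.group F₀)) :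
    (mapHom K f g : GL D.Idx F) = Matrix.GeneralLinearGroup.map f (g : GL D.Idx F₀) := rfl

theorem mapHom_xG (K : Chevalley.Cert D) (f : F₀ →+* F) (r : ℕ) (t : F₀) :
    mapHom K f (xG K F₀ r t) = xG K F r (f t) := Subtype.ext (glMap_xU K f r t)

theorem mapHom_injective (K : Chevalley.Cert D) (f : F₀ →+* F) :
    Function.Injective (mapHom K f) := by
  intro a b h
  have h' := congrArg (fun g : ↥(D.group F) => ((g : GL D.Idx F) : Matrix D.Idx D.Idx F)) h
  refine Subtype.ext (Units.ext (Matrix.map_injective f.injective ?_))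
  exact h'

/-- A field automorphism of the group is the entrywise one. -/
theorem eq_mapHom (K : Chevalley.Cert D) (φ : MulAut ↥(D.group F)) (σ : F ≃+* F)
    (h : ∀ (g : ↥(D.group F)) (r : ℕ) (t : F), r < D.nroots →
      ((g : GL D.Idx F) : Matrix D.Idx D.Idx F) = D.x F r t →
        ((φ g : GL D.Idx F) : Matrix D.Idx D.Idx F) = D.x F r (σ t))
    (g : ↥(D.group F)) : φ g = mapHom K (σ : F →+* F) g := by
  have key : ∀ z : GL D.Idx F, z ∈ D.group F → ∃ hz : z ∈ D.group F,
      φ ⟨z, hz⟩ = mapHom K (σ : F →+* F) ⟨z, hz⟩ := by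
    intro z hz
    rw [K.group_eq] at hz
    induction hz using Subgroup.closure_induction with
    | mem z hz =>
      obtain ⟨r, t, hr, rfl⟩ := hz
      refine ⟨K.xU_mem_group F r t, ?_⟩
      refine Eq.trans ?_ (mapHom_xG K (σ : F →+* F) r t).symm
      exact Subtype.ext (Units.ext (h ⟨_, K.xU_mem_group F r t⟩ r t hr (K.coe_xU F r t)))
    | one => exact ⟨one_mem _, (map_one φ).trans (map_one _).symm⟩
    | mul a b _ _ ha hb =>
      obtain ⟨ha', ea⟩ := ha
      obtain ⟨hb', eb⟩ := hb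
      refine ⟨mul_mem ha' hb', ?_⟩
      show φ (⟨a, ha'⟩ * ⟨b, hb'⟩) = mapHom K (σ : F →+* F) (⟨a, ha'⟩ * ⟨b, hb'⟩)
      rw [map_mul, map_mul, ea, eb]
    | inv a _ ha =>
      obtain ⟨ha', ea⟩ := ha
      refine ⟨inv_mem ha', ?_⟩
      show φ (⟨a, ha'⟩⁻¹) = mapHom K (σ : F →+* F) (⟨a, ha'⟩⁻¹)
      rw [map_inv, map_inv, ea]
  obtain ⟨_, e⟩ := key g.1 g.2
  exact e

theorem glMap_torus (f : F₀ →+* F) (v : Fin D.rank → F₀ˣ) :
    Matrix.GeneralLinearGroup.map f (Chevalley.torus D F₀ v) =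
      Chevalley.torus D F fun m => Units.map (f : F₀ →* F) (v m) := by
  apply Units.ext
  show (Matrix.diagonal fun x => ((∏ m : Fin D.rank, v m ^ Chevalley.pe (D.simple m) x : F₀ˣ) : F₀)).map f
      = Matrix.diagonal fun x =>
        ((∏ m : Fin D.rank, Units.map (f : F₀ →* F) (v m) ^ Chevalley.pe (D.simple m) x : Fˣ) : F)
  rw [Matrix.diagonal_map (map_zero f)]
  congr 1
  funext x
  simp only [← map_zpow, ← map_prod]
  rfl

theorem torus_injective (K : Chevalley.Cert D) {A : Matrix (Fin D.rank) (Fin D.rank) ℤ}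
    (hA : ∀ i j, A i j = D.cartan i.val (D.simple j.val)) (C : KerCert A 1 0) :
    Function.Injective (Chevalley.torus D F) := by
  rw [injective_iff_map_eq_one]
  intro v hv
  have hker : (fun m => Additive.ofMul (v m)) ∈ (cartanHom A (Additive Fˣ)).ker := by
    rw [AddMonoidHom.mem_ker]
    funext j
    have hlt : D.simple j.val < D.nroots := (K.simple_lt j.val j.isLt).1
    have h1 : (∏ m : Fin D.rank,
        v m ^ Chevalley.pe (D.simple m) (Sum.inr ⟨D.simple j.val, hlt⟩ : D.Idx)) = 1 := by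
      have h2 := Chevalley.dU_inj (hv.trans Chevalley.dU_one.symm)
      exact congrFun h2 (Sum.inr ⟨D.simple j.val, hlt⟩)
    rw [cartanHom_apply, Pi.zero_apply, ← ofMul_one, ← h1, ofMul_prod]
    refine Finset.sum_congr rfl fun m _ => ?_
    rw [hA, ofMul_zpow]
    congr 1
    exact (K.pairing_simple m.isLt _).symm
  have := (C.mem_ker_iff.1 hker).2
  funext m
  have h2 := this m
  simp only [Finset.univ_eq_empty, Finset.sum_empty] at h2
  exact Additive.ofMul.injective h2

section Fixed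

variable (Q : Chev.Data D F) (σ : F ≃+* F) (ι : F₀ →+* F) (hι : ∀ x, σ x = x ↔ x ∈ ι.range)

include hι in
theorem fixed_XS {S : Finset ℕ} (hS : Q.sys.toUnip.Closed S) :
    ∀ (m k : ℕ), S.sup id < k + m → ∀ g ∈ XS (xG Q.K F) {r | r ∈ S ∧ k ≤ r},
      mapHom Q.K (σ : F →+* F) g = g → g ∈ (mapHom Q.K ι).range := by
  intro m
  induction m with
  | zero =>
    intro k hk g hg _
    have : {r | r ∈ S ∧ k ≤ r} = ∅ := by
      refine Set.eq_empty_iff_forall_notMem.2 fun r hr => ?_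
      have := Finset.le_sup (f := id) hr.1
      simp only [id_eq] at this
      have := hr.2
      omega
    rw [this, XS_empty, Subgroup.mem_bot] at hg
    subst hg
    exact one_mem _
  | succ m ih =>
    intro k hk g hg hfix
    by_cases hkS : k ∈ S
    · obtain ⟨t, p, hp, rfl⟩ := Q.sys.toUnip.exists_head hS hkS hg
      have hstab : XS (xG Q.K F) {r | r ∈ S ∧ k < r} ≤
          (XS (xG Q.K F) {r | r ∈ S ∧ k < r}).comap (mapHom Q.K (σ : F →+* F)) :=
        XS_le fun r hr u => by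
          rw [Subgroup.mem_comap, mapHom_xG]
          exact x_mem_XS hr _
      rw [map_mul] at hfix
      have e : mapHom Q.K (σ : F →+* F) (Q.sys.toUnip.x k t) = Q.sys.toUnip.x k (σ t) :=
        mapHom_xG Q.K (σ : F →+* F) k t
      rw [e] at hfix
      obtain ⟨h1, h2⟩ := Q.sys.toUnip.head_unique hS hkS (hstab hp) hp hfix
      obtain ⟨t₀, rfl⟩ := (hι t).1 h1
      exact mul_mem ⟨xG Q.K F₀ k t₀, mapHom_xG Q.K ι k t₀⟩ (ih (k + 1) (by omega) p hp h2)
    · rw [Unip.tail_of_not_mem hkS] at hg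
      exact ih (k + 1) (by omega) g hg hfix

include hι in
theorem fixed_XS_all {S : Finset ℕ} (hS : Q.sys.toUnip.Closed S) {g : ↥(D.group F)}
    (hg : g ∈ XS (xG Q.K F) (↑S : Set ℕ)) (hfix : mapHom Q.K (σ : F →+* F) g = g) :
    g ∈ (mapHom Q.K ι).range :=
  fixed_XS Q σ ι hι hS (S.sup id + 1) 0 (by omega) g
    (XS_mono (S' := {r | r ∈ S ∧ 0 ≤ r}) (fun _ hr => ⟨hr, Nat.zero_le _⟩) hg) hfix

include Q in
theorem exists_rep_range (f : F₀ →+* F) (w : Q.X.M.Group) :
    ∃ h ∈ Q.amb.H, ∃ n ∈ (mapHom Q.K f).range, Q.sys.rep w = h * n := by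
  refine Sys.gen_induction (p := fun w =>
    ∃ h ∈ Q.amb.H, ∃ n ∈ (mapHom Q.K f).range, Q.sys.rep w = h * n) ?_ ?_ w
  · exact ⟨1, one_mem _, 1, one_mem _, by rw [Q.sys.rep_one, one_mul]⟩
  · rintro i w ⟨h₀, hh₀, n, hn, e⟩
    obtain ⟨k, hk, e1⟩ := Q.sys.rep_mul (Q.X.M.simple i) w
    obtain ⟨a, ha, e2⟩ := Q.sys.rep_simple i
    refine ⟨k⁻¹ * a * (Q.sys.ns i * h₀ * (Q.sys.ns i)⁻¹), mul_mem (mul_mem (inv_mem hk) ha)
      (Q.sys.n_conj_H i i.isLt h₀ hh₀), Q.sys.ns i * n, mul_mem ?_ hn, ?_⟩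
    · refine ⟨(⟨Q.K.nS F₀ i, Q.K.wU_mem F₀ fun p _ => Q.K.xU_mem_group F₀ p.1 p.2⟩ :
        ↥(D.group F₀)), Subtype.ext ?_⟩
      show Matrix.GeneralLinearGroup.map f (Q.K.nS F₀ i) = Q.K.nS F i
      simp only [Chevalley.Cert.nS, Chevalley.Cert.nU_eq, map_mul, glMap_xU, map_neg, map_one,
        map_inv₀]
    · rw [eq_inv_mul_iff_mul_eq.2 e1.symm, e2, e]
      group

include Q in
theorem H_stable (f : F →+* F) {h : ↥(D.group F)} (hh : h ∈ Q.amb.H) :
    mapHom Q.K f h ∈ Q.amb.H := by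
  show Matrix.GeneralLinearGroup.map f (h : GL D.Idx F) ∈ D.diagonalSubgroup F
  have hh' : (h : GL D.Idx F) ∈ D.diagonalSubgroup F := hh
  rw [Q.K.diagonalSubgroup_eq F] at hh' ⊢
  obtain ⟨v, e⟩ := hh'
  exact ⟨_, by rw [← e, glMap_torus]⟩

include hι in
theorem fixed_H (hinj : Function.Injective (Chevalley.torus D F)) {h : ↥(D.group F)}
    (hh : h ∈ Q.amb.H) (hfix : mapHom Q.K (σ : F →+* F) h = h) :
    h ∈ (mapHom Q.K ι).range := by
  have hh' : (h : GL D.Idx F) ∈ D.diagonalSubgroup F := hh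
  rw [Q.K.diagonalSubgroup_eq F] at hh'
  obtain ⟨v, e⟩ := hh'
  have e2 := congrArg Subtype.val hfix
  rw [coe_mapHom, ← e, glMap_torus] at e2
  have e3 := hinj e2
  have hv : ∀ m, ∃ u : F₀ˣ, Units.map (ι : F₀ →* F) u = v m := by
    intro m
    have : σ (v m : F) = v m := congrArg Units.val (congrFun e3 m)
    obtain ⟨x, hx⟩ := (hι _).1 this
    have hx0 : x ≠ 0 := fun h0 => (v m).ne_zero (by rw [← hx, h0, map_zero])
    exact ⟨Units.mk0 x hx0, Units.ext hx⟩
  choose u hu using hv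
  have hmem : Chevalley.torus D F₀ u ∈ D.group F₀ :=
    diagonal_le_group Q.ord (by rw [Q.K.diagonalSubgroup_eq F₀]; exact ⟨u, rfl⟩)
  refine ⟨⟨_, hmem⟩, Subtype.ext ?_⟩
  rw [coe_mapHom, glMap_torus, ← e]
  congr 1
  funext m
  exact hu m

include hι in
theorem fixed_le_range (hinj : Function.Injective (Chevalley.torus D F)) {g : ↥(D.group F)}
    (hfix : mapHom Q.K (σ : F →+* F) g = g) : g ∈ (mapHom Q.K ι).range := by
  obtain ⟨u, hu, h, hh, w, v, hv, rfl⟩ := Q.amb.exists_eq g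
  obtain ⟨h₀, hh₀, n, ⟨n₀, hn₀⟩, e⟩ := exists_rep_range Q ι w
  set s := mapHom Q.K (σ : F →+* F)
  have hσn : s n = n := by
    rw [← hn₀]
    refine Subtype.ext (Units.ext ?_)
    ext a b
    exact (hι _).2 ⟨_, rfl⟩
  have hstab : ∀ S : Set ℕ, XS (xG Q.K F) S ≤ (XS (xG Q.K F) S).comap s := fun S =>
    XS_le fun r hr t => by rw [Subgroup.mem_comap, mapHom_xG]; exact x_mem_XS hr _
  have hn : Q.amb.n w = h₀ * n := e
  have key : u * h * Q.amb.n w * v = s u * (s (h * h₀) * h₀⁻¹) * Q.amb.n w * s v := by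
    conv_lhs => rw [← hfix]
    rw [hn, map_mul, map_mul, map_mul, map_mul, map_mul, hσn]
    group
  obtain ⟨-, h1, h2, h3⟩ := Q.amb.unique hu (hstab _ hu) hh
    (mul_mem (H_stable Q _ (mul_mem hh hh₀)) (inv_mem hh₀)) hv (hstab _ hv) key
  rw [show u * h * Q.amb.n w * v = u * (h * h₀) * n * v by rw [hn]; group]
  refine mul_mem (mul_mem (mul_mem ?_ ?_) ⟨n₀, hn₀⟩) ?_
  · exact fixed_XS_all Q σ ι hι (Q.sys.P_eq ▸ Q.sys.toUnip.closed_P) hu h1.symm
  · exact fixed_H Q σ ι hι hinj (mul_mem hh hh₀) (mul_inv_eq_iff_eq_mul.1 h2.symm)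
  · exact fixed_XS_all Q σ ι hι (Q.sys.closed_flip w) hv h3.symm

include Q in
theorem orderOf_eq [Finite F] (φ : MulAut ↥(D.group F))
    (h : ∀ g, φ g = mapHom Q.K (σ : F →+* F) g) : orderOf φ = orderOf σ := by
  refine orderOf_eq_orderOf_iff.2 fun k => ?_
  have hk : ∀ (k : ℕ) (r : ℕ) (t : F), (φ ^ k) (xG Q.K F r t) = xG Q.K F r ((σ ^ k) t) := by
    intro k
    induction k with
    | zero => intro r t; rfl
    | succ k ih =>
      intro r t
      rw [pow_succ', MulAut.mul_apply, ih, h, mapHom_xG, pow_succ']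
      rfl
  constructor
  · intro hφ
    refine RingEquiv.ext fun t => ?_
    have h0 : 0 < D.rank := Q.ord.rank_pos
    have hr := (Q.K.simple_lt 0 h0).1
    have e := hk k (D.simple 0) t
    rw [hφ, MulAut.one_apply] at e
    have e' := congrArg Subtype.val e
    rw [coe_xG, coe_xG, ← mul_inv_eq_one, Q.K.xU_inv, Q.K.xU_add, Q.K.xU_eq_one_iff F hr] at e'
    show (σ ^ k) t = t
    linear_combination -e'
  · intro hσ
    refine MulEquiv.ext fun g => ?_
    have h' : ∀ (k : ℕ) (g : ↥(D.group F)),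
        (φ ^ k) g = mapHom Q.K ((σ ^ k : F ≃+* F) : F →+* F) g := by
      intro k
      induction k with
      | zero =>
        intro g
        refine Subtype.ext (Units.ext ?_)
        ext a b
        rfl
      | succ k ih =>
        intro g
        rw [pow_succ', MulAut.mul_apply, ih, h]
        refine Subtype.ext (Units.ext ?_)
        ext a b
        rw [pow_succ']
        rfl
    rw [h', hσ]
    refine Subtype.ext (Units.ext ?_)
    ext a b
    rfl

end Fixed

/-- The statement for one type, given its data and the unimodularity of its Cartan matrix. -/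
theorem fixed_points_iso [Fintype F] (Q : Chev.Data D F)
    {A : Matrix (Fin D.rank) (Fin D.rank) ℤ}
    (hA : ∀ i j, A i j = D.cartan i.val (D.simple j.val)) (C : KerCert A 1 0)
    (φ : MulAut ↥(D.group F)) (hφ : D.IsFieldAut φ) (r : ℕ) (hr : r.Prime) (ho : orderOf φ = r) :
    ∃ (F₁ : Type) (_ : Field F₁) (_ : Fintype F₁), Fintype.card F = Fintype.card F₁ ^ r ∧
      Nonempty (↥((MulEquiv.toMonoidHom φ).eqLocus (MonoidHom.id ↥(D.group F))) ≃* ↥(D.group F₁)) := by
  classical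
  obtain ⟨σ, hσ⟩ := hφ
  have hmap := eq_mapHom Q.K φ σ hσ
  have hord : orderOf σ = r := by rw [← ho, orderOf_eq Q σ φ hmap]
  let K : Subfield F := FixedPoints.subfield (Subgroup.zpowers σ) F
  have hK : ∀ x : F, x ∈ K ↔ σ x = x := by
    intro x
    constructor
    · intro hx
      exact hx ⟨σ, Subgroup.mem_zpowers σ⟩
    · intro hx s
      have : Subgroup.zpowers σ ≤ MulAction.stabilizer (F ≃+* F) x := by
        rw [Subgroup.zpowers_le]; exact hx
      exact this s.2
  have hKc : Fintype.card F = Fintype.card K ^ r := by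
    haveI : Finite (F ≃+* F) := Finite.of_injective (fun f => (f : F → F)) DFunLike.coe_injective
    haveI : Fintype (Subgroup.zpowers σ) := Fintype.ofFinite _
    have hfr : Module.finrank K F = r := by
      rw [← hord, ← Nat.card_zpowers, Nat.card_eq_fintype_card]
      exact FixedPoints.finrank_eq_card (Subgroup.zpowers σ) F
    rw [Module.card_eq_pow_finrank (K := K) (V := F), hfr]
  let e : Fin (Fintype.card K) ≃ K := (Fintype.equivFin K).symm
  letI : Field (Fin (Fintype.card K)) := e.field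
  refine ⟨Fin (Fintype.card K), inferInstance, inferInstance, ?_, ?_⟩
  · rw [hKc, Fintype.card_congr e]
  let ι : Fin (Fintype.card K) →+* F := K.subtype.comp e.ringEquiv.toRingHom
  have hι : ∀ x, σ x = x ↔ x ∈ ι.range := by
    intro x
    rw [← hK]
    constructor
    · exact fun hx => ⟨e.symm ⟨x, hx⟩, congrArg Subtype.val (e.apply_symm_apply ⟨x, hx⟩)⟩
    · rintro ⟨y, rfl⟩; exact (e.ringEquiv y).2
  have hrange : (mapHom Q.K ι).range =
      (MulEquiv.toMonoidHom φ).eqLocus (MonoidHom.id ↥(D.group F)) := by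
    refine le_antisymm ?_ fun g hg => ?_
    · rintro _ ⟨g, rfl⟩
      show φ (mapHom Q.K ι g) = mapHom Q.K ι g
      rw [hmap]
      refine Subtype.ext (Units.ext ?_)
      ext a b
      exact (hι _).2 ⟨_, rfl⟩
    · have hg' : φ g = g := hg
      rw [hmap] at hg'
      exact fixed_le_range Q σ ι hι (torus_injective Q.K hA C) hg'
  exact ⟨((MonoidHom.ofInjective (mapHom_injective Q.K ι)).trans
    (MulEquiv.subgroupCongr hrange)).symm⟩

end Cfsg.Agent.H57.ChevFixed
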