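import Mathlib
import Cfsg.Agent.Orthogonal.StdForms
import Cfsg.Agent.H57.Discriminant

set_option autoImplicit false

namespace Cfsg.Agent.H57

open QuadraticMap Orthogonal

variable {F : Type*} [Field F] [Finite F]

/-- weights `1, …, 1, d` -/
def lastWeight (n : ℕ) (d : F) : Fin (n + 1) → F := Fin.snoc (fun _ => 1) d

theorem exists_diag (h2 : (2 : F) ≠ 0) {V : Type*} [AddCommGroup V] [Module F V]
    [FiniteDimensional F V] (Q : QuadraticForm F V) (hQ : Nondeg Q) :
    ∀ (n : ℕ), Module.finrank F V = n + 1 →
      ∃ (d : F) (b : Module.Basis (Fin (n + 1)) F V), d ≠ 0 ∧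
        (∀ i, Q (b i) = lastWeight n d i) ∧ ∀ i j, i ≠ j → polar Q (b i) (b j) = 0 := by
  suffices H : ∀ (n : ℕ) (W : Submodule F V), Module.finrank F W = n + 1 → Nondeg (restr Q W) →
      ∃ (d : F) (v : Fin (n + 1) → V), d ≠ 0 ∧ (∀ i, v i ∈ W) ∧
        (∀ i, Q (v i) = lastWeight n d i) ∧ ∀ i j, i ≠ j → polar Q (v i) (v j) = 0 by
    intro n hn
    obtain ⟨d, v, hd, -, h1, h2'⟩ := H n ⊤ (by rw [finrank_top]; exact hn) (nondeg_restr_top hQ)
    have hne : ∀ i, Q (v i) ≠ 0 := fun i => by
      rw [h1]
      induction i using Fin.lastCases with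
      | last => simpa [lastWeight] using hd
      | cast i => simp [lastWeight]
    have hli : LinearIndependent F v := by
      refine Fintype.linearIndependent_iff.2 fun c hc i => ?_
      have h := congrArg (fun x => Q.polarBilin (v i) x) hc
      simp only [map_sum, map_smul, polarBilin_apply_apply, smul_eq_mul, map_zero] at h
      rw [Finset.sum_eq_single i (fun j _ hj => by rw [h2' i j hj.symm, mul_zero])
        (by simp), polar_self'] at h
      exact (mul_eq_zero.1 h).resolve_right (mul_ne_zero h2 (hne i))
    refine ⟨d, basisOfLinearIndependentOfCardEqFinrank hli (by simp [hn]), hd, fun i => ?_,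
      fun i j hij => ?_⟩
    · simpa using h1 i
    · simpa using h2' i j hij
  intro n
  induction n with
  | zero =>
    intro W hW hWn
    obtain ⟨x, hx⟩ : ∃ x : W, x ≠ 0 := by
      have : Nontrivial W := Module.nontrivial_of_finrank_pos (R := F) (by omega)
      exact exists_ne 0
    have hQx : Q (x : V) ≠ 0 := fun h => hx (hWn x fun y => by
      obtain ⟨c, rfl⟩ := (finrank_eq_one_iff_of_nonzero' x hx).1 hW y
      rw [polar_smul_right', polar_self', restr_apply, h, mul_zero, mul_zero])
    refine ⟨Q (x : V), fun _ => x, hQx, fun _ => x.2, fun i => ?_,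
      fun i j hij => absurd (Fin.ext (by omega)) hij⟩
    rw [show i = Fin.last 0 from Fin.ext (by simp), lastWeight, Fin.snoc_last]
  | succ n ih =>
    intro W hW hWn
    obtain ⟨x, hx⟩ := hWn.exists_value (by omega) 1
    have hx1 : Q (x : V) = 1 := hx
    set L : Submodule F W := Submodule.span F {x} with hL
    have hx0 : x ≠ 0 := fun h => by rw [h, QuadraticMap.map_zero] at hx; exact zero_ne_one hx
    have hLn : Nondeg (restr (restr Q W) L) := by
      rintro ⟨y, hy⟩ h
      obtain ⟨c, rfl⟩ := Submodule.mem_span_singleton.1 hy
      have := h ⟨x, Submodule.mem_span_singleton_self x⟩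
      rw [polar_restr, polar_smul_left', polar_self', restr_apply, hx1, mul_one] at this
      have hc : c = 0 := (mul_eq_zero.1 this).resolve_right h2
      exact Subtype.ext (by simp [hc])
    have hP := hWn.finrank_perp_singleton hx0
    have hnd := hWn.nondeg_perp hLn
    set W' : Submodule F V := (perp (restr Q W) L).map W.subtype with hW'
    have hW'n : Module.finrank F W' = n + 1 := by
      rw [hW', Submodule.finrank_map_subtype_eq]; rw [← hL] at hP; omega
    have hW'd : Nondeg (restr Q W') := by
      rintro ⟨y, hy⟩ h
      obtain ⟨y', hy', rfl⟩ := hy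
      have := hnd ⟨y', hy'⟩ fun z => by
        rw [polar_restr, polar_restr]
        have := h ⟨(z : W), ⟨(z : W), z.2, rfl⟩⟩
        rwa [polar_restr] at this
      exact Subtype.ext (by simpa using congrArg (fun w : perp (restr Q W) L => ((w : W) : V)) this)
    obtain ⟨d, v, hd, hv, h1, h2'⟩ := ih W' hW'n hW'd
    have hvW : ∀ i, v i ∈ W := fun i => by
      obtain ⟨y, -, hy⟩ := hv i; rw [← hy]; exact y.2
    have hxv : ∀ i, polar Q (x : V) (v i) = 0 := fun i => by
      obtain ⟨y, hy, hyv⟩ := hv i
      rw [← hyv]
      have := (mem_perp_span_singleton (restr Q W)).1 hy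
      rwa [polar_restr] at this
    refine ⟨d, Fin.cons (x : V) v, hd, fun i => ?_, fun i => ?_, fun i j hij => ?_⟩
    · induction i using Fin.cases with
      | zero => simp
      | succ i => simpa using hvW i
    · have hw : lastWeight (n + 1) d = Fin.cons 1 (lastWeight n d) := by
        rw [lastWeight, lastWeight, Fin.cons_snoc_eq_snoc_cons]
        congr 1
        funext k
        induction k using Fin.cases <;> simp
      rw [hw]
      induction i using Fin.cases with
      | zero => simpa using hx1
      | succ i => simpa using h1 i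
    · induction i using Fin.cases with
      | zero =>
        induction j using Fin.cases with
        | zero => exact absurd rfl hij
        | succ j => simpa using hxv j
      | succ i =>
        induction j using Fin.cases with
        | zero => simpa [polar_comm (⇑Q) (v i)] using hxv i
        | succ j => simpa using h2' i j (fun h => hij (by rw [h]))

end Cfsg.Agent.H57
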