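import Mathlib
import Cfsg.Agent.Unitary.Field

/-!
A field `K` with `q²` elements over a field `F` with `q` elements: an embedding, coordinates, roots
of quadratics, and conjugation of `K`-matrices into `F`-matrices along a semilinear bijection.
-/

set_option autoImplicit false

namespace Cfsg.Agent.H57

variable {K F : Type*} [Field K] [Fintype K] [Field F] [Fintype F] {q : ℕ}

theorem exists_incl (hK : Fintype.card K = q ^ 2) (hF : Fintype.card F = q) :
    ∃ _ι : F →+* K, True := by
  obtain ⟨p, hcF, n, hpF, hcard⟩ := FiniteField.card' F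
  obtain ⟨p', f, hp', -, hc, hq⟩ := Unitary.exists_char_pow hK
  rw [hcard] at hF
  have hpp : p = p' := by
    have hdvd : p ∣ p' ^ f := by rw [← hq, ← hF]; exact dvd_pow_self p n.2.ne'
    exact (Nat.prime_dvd_prime_iff_eq hpF hp').1 (hpF.dvd_of_dvd_pow hdvd)
  subst hpp
  have : Fact p.Prime := ⟨hp'⟩
  letI : Algebra (ZMod p) F := ZMod.algebra F p
  letI : Algebra (ZMod p) K := ZMod.algebra K p
  have hfF : p ^ Module.finrank (ZMod p) F = q := by
    rw [← hF, ← hcard, Module.card_eq_pow_finrank (K := ZMod p) (V := F), ZMod.card]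
  have hfK : p ^ Module.finrank (ZMod p) K = q ^ 2 := by
    rw [← hK, Module.card_eq_pow_finrank (K := ZMod p) (V := K), ZMod.card]
  have hdiv : Module.finrank (ZMod p) F ∣ Module.finrank (ZMod p) K := by
    rw [← hfF, ← pow_mul] at hfK
    exact ⟨2, Nat.pow_right_injective hp'.two_le hfK⟩
  obtain ⟨φ⟩ := FiniteField.nonempty_algHom_of_finrank_dvd hdiv
  exact ⟨φ.toRingHom, trivial⟩

variable (ι : F →+* K)

theorem incl_pow_q (hF : Fintype.card F = q) (x : F) : ι x ^ q = ι x := by
  subst hF
  rw [← map_pow, FiniteField.pow_card]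

theorem mem_range_of_pow_q (hK : Fintype.card K = q ^ 2) (hF : Fintype.card F = q) {x : K}
    (hx : x ^ q = x) : ∃ c, ι c = x := by
  classical
  have hq := Unitary.two_le_q hK
  have h1 : (Finset.univ.image ι) = (Polynomial.X ^ q - Polynomial.X : Polynomial K).roots.toFinset := by
    refine Finset.eq_of_subset_of_card_le ?_ ?_
    · intro y hy
      obtain ⟨c, -, rfl⟩ := Finset.mem_image.1 hy
      rw [Multiset.mem_toFinset, Polynomial.mem_roots (FiniteField.X_pow_card_sub_X_ne_zero K hq)]
      simp [incl_pow_q ι hF c]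
    · rw [Finset.card_image_of_injective _ ι.injective, Finset.card_univ, hF]
      refine (Multiset.toFinset_card_le _).trans ((Polynomial.card_roots' _).trans ?_)
      rw [FiniteField.X_pow_card_sub_X_natDegree_eq K hq]
  have hx' : x ∈ (Polynomial.X ^ q - Polynomial.X : Polynomial K).roots.toFinset := by
    rw [Multiset.mem_toFinset, Polynomial.mem_roots (FiniteField.X_pow_card_sub_X_ne_zero K hq)]
    simp [hx]
  rw [← h1] at hx'
  obtain ⟨c, -, hc⟩ := Finset.mem_image.1 hx'
  exact ⟨c, hc⟩

theorem exists_not_range (hK : Fintype.card K = q ^ 2) (hF : Fintype.card F = q) :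
    ∃ θ : K, ∀ c, ι c ≠ θ := by
  by_contra h
  push Not at h
  have := Fintype.card_le_of_surjective ι h
  rw [hK, hF] at this
  have hq := Unitary.two_le_q hK
  nlinarith

variable {ι} {θ : K}

theorem coord_injective (hθ : ∀ c, ι c ≠ θ) :
    Function.Injective fun z : F × F => ι z.1 + θ * ι z.2 := by
  rintro ⟨a, b⟩ ⟨c, d⟩ h
  simp only at h
  by_cases hbd : b = d
  · subst hbd
    rw [add_left_inj] at h
    rw [ι.injective h]
  · refine absurd ?_ (hθ ((c - a) / (b - d)))
    have hne : ι b - ι d ≠ 0 := sub_ne_zero.2 fun e => hbd (ι.injective e)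
    rw [map_div₀, map_sub, map_sub, div_eq_iff hne]
    linear_combination -h

/-- coordinates with respect to `1, θ` -/
noncomputable def crd (hK : Fintype.card K = q ^ 2) (hF : Fintype.card F = q)
    (hθ : ∀ c, ι c ≠ θ) : K ≃+ F × F :=
  (AddEquiv.ofBijective
    (AddMonoidHom.mk' (fun z : F × F => ι z.1 + θ * ι z.2) fun a b => by simp; ring)
    ((Fintype.bijective_iff_injective_and_card _).2 ⟨coord_injective hθ, by
      rw [Fintype.card_prod, hF, hK, sq]⟩)).symm

variable (hK : Fintype.card K = q ^ 2) (hF : Fintype.card F = q) (hθ : ∀ c, ι c ≠ θ)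

theorem crd_spec (x : K) : ι (crd hK hF hθ x).1 + θ * ι (crd hK hF hθ x).2 = x :=
  (crd hK hF hθ).symm_apply_apply x

theorem crd_eq {x : K} {a b : F} (h : ι a + θ * ι b = x) : crd hK hF hθ x = (a, b) :=
  coord_injective hθ ((crd_spec hK hF hθ x).trans h.symm)

theorem crd_smul (c : F) (x : K) :
    crd hK hF hθ (ι c * x) = (c * (crd hK hF hθ x).1, c * (crd hK hF hθ x).2) := by
  refine crd_eq hK hF hθ ?_
  conv_rhs => rw [← crd_spec hK hF hθ x]
  rw [map_mul, map_mul]; ring

theorem crd_snd_incl (c : F) : (crd hK hF hθ (ι c)).2 = 0 := by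
  rw [crd_eq hK hF hθ (x := ι c) (a := c) (b := 0) (by simp)]

omit hθ in
theorem exists_root_quadratic (ι : F →+* K) (hK : Fintype.card K = q ^ 2)
    (hF : Fintype.card F = q) (a b : F) (hr : ∀ t : F, t ^ 2 + a * t + b ≠ 0) :
    ∃ x : K, x ^ 2 + ι a * x + ι b = 0 ∧ ∀ c, ι c ≠ x := by
  classical
  let P : Polynomial F := Polynomial.X ^ 2 + Polynomial.C a * Polynomial.X + Polynomial.C b
  have hdeg : P.natDegree = 2 := by simp only [P]; compute_degree!
  have hP0 : P ≠ 0 := fun h => by rw [h] at hdeg; simp at hdeg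
  have hirr : Irreducible P := by
    refine Polynomial.irreducible_of_degree_le_three_of_not_isRoot ?_ fun x hx => hr x ?_
    · rw [hdeg]; simp
    · simpa [P] using hx
  have : Fact (Irreducible P) := ⟨hirr⟩
  letI : Algebra F K := ι.toAlgebra
  have hfin : Module.finrank F (AdjoinRoot P) = 2 := by
    rw [(AdjoinRoot.powerBasis hP0).finrank]; simpa using hdeg
  have : Module.Finite F (AdjoinRoot P) := (AdjoinRoot.powerBasis hP0).finite
  have : Finite (AdjoinRoot P) := Module.finite_of_finite F
  have hfinK : Module.finrank F K = 2 := by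
    have h := Module.card_eq_pow_finrank (K := F) (V := K)
    rw [hK, hF] at h
    exact (Nat.pow_right_injective (Unitary.two_le_q hK) h).symm
  obtain ⟨φ⟩ := FiniteField.nonempty_algHom_of_finrank_dvd (F := F) (K := AdjoinRoot P) (L := K)
    (by rw [hfin, hfinK])
  have hroot : φ (AdjoinRoot.root P) ^ 2 + ι a * φ (AdjoinRoot.root P) + ι b = 0 := by
    have h0 : Polynomial.aeval (φ (AdjoinRoot.root P)) P = 0 := by
      rw [Polynomial.aeval_algHom_apply, AdjoinRoot.aeval_eq, AdjoinRoot.mk_self, map_zero]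
    have hev : Polynomial.aeval (φ (AdjoinRoot.root P)) P
        = φ (AdjoinRoot.root P) ^ 2 + ι a * φ (AdjoinRoot.root P) + ι b := by
      generalize φ (AdjoinRoot.root P) = y
      simp [P, RingHom.algebraMap_toAlgebra]
    rw [← hev]; exact h0
  refine ⟨_, hroot, fun c hc => hr c (ι.injective ?_)⟩
  rw [map_add, map_add, map_mul, map_pow, map_zero, hc]; exact hroot

theorem conj_root (hK : Fintype.card K = q ^ 2) (hF : Fintype.card F = q) {a b : F}
    (hroot : θ ^ 2 + ι a * θ + ι b = 0) (hθ : ∀ c, ι c ≠ θ) :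
    θ + θ ^ q = -ι a ∧ θ * θ ^ q = ι b := by
  have h1 : (θ ^ q) ^ 2 + ι a * θ ^ q + ι b = 0 := by
    have h := congrArg (Unitary.frob hK) hroot
    simp only [map_add, map_mul, map_pow, map_zero] at h
    simp only [Unitary.frob_apply, incl_pow_q ι hF] at h
    exact h
  have hne : θ ^ q ≠ θ := fun h => by
    obtain ⟨c, hc⟩ := mem_range_of_pow_q ι hK hF h
    exact hθ c hc
  have h2 : θ ^ q + θ + ι a = 0 := by
    have : (θ ^ q - θ) * (θ ^ q + θ + ι a) = 0 := by linear_combination h1 - hroot
    exact (mul_eq_zero.1 this).resolve_left (sub_ne_zero.2 hne)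
  exact ⟨by linear_combination h2, by linear_combination θ * h2 - hroot⟩

/-! ### conjugation into `F`-matrices -/

variable {n l : Type} [Fintype n] [DecidableEq n] [Fintype l] [DecidableEq l]

omit hθ in
/-- conjugate a `K`-matrix into an `F`-matrix along a semilinear additive bijection -/
theorem exists_semilinear_hom (ι : F →+* K) (L : (n → K) ≃+ (l → F))
    (hL : ∀ (c : F) (v : n → K), L (ι c • v) = c • L v) :
    ∃ φ : GL n K →* GL l F, Function.Injective φ ∧ ∀ (g : GL n K) (v : n → K),
      (φ g : Matrix l l F).mulVec (L v) = L ((g : Matrix n n K).mulVec v) := by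
  have hLs : ∀ (c : F) (u : l → F), L.symm (c • u) = ι c • L.symm u := fun c u => by
    rw [L.symm_apply_eq, hL, L.apply_symm_apply]
  let lin : Matrix n n K → ((l → F) →ₗ[F] (l → F)) := fun M =>
    { toFun := fun u => L (M.mulVec (L.symm u))
      map_add' := fun u v => by rw [map_add, Matrix.mulVec_add, map_add]
      map_smul' := fun c u => by rw [hLs, Matrix.mulVec_smul, hL]; rfl }
  let φM : Matrix n n K →* Matrix l l F :=
    { toFun := fun M => LinearMap.toMatrix' (lin M)
      map_one' := by
        rw [show lin 1 = LinearMap.id from LinearMap.ext fun u => by simp [lin],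
          LinearMap.toMatrix'_id]
      map_mul' := fun M N => by
        rw [← LinearMap.toMatrix'_comp]
        congr 1
        refine LinearMap.ext fun u => ?_
        simp [lin, Matrix.mulVec_mulVec] }
  have happ : ∀ (M : Matrix n n K) (v : n → K), (φM M).mulVec (L v) = L (M.mulVec v) := fun M v => by
    show (LinearMap.toMatrix' (lin M)).mulVec (L v) = _
    rw [LinearMap.toMatrix'_mulVec]; simp [lin]
  refine ⟨Units.map φM, ?_, fun g v => happ _ v⟩
  intro g h e
  apply Units.ext
  refine Matrix.ext_iff_mulVec.2 fun v => L.injective ?_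
  have e' : φM (g : Matrix n n K) = φM (h : Matrix n n K) := congrArg Units.val e
  rw [← happ, ← happ, e']

end Cfsg.Agent.H57
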