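import Mathlib
import Cfsg.Prelude.Def_Classical
import Cfsg.Prelude.Def_ClassicalGeometry
import Cfsg.Agent.H57.QuadExt
import Cfsg.Agent.Symplectic.Std
import Cfsg.Agent.Orthogonal.StdForms

set_option autoImplicit false

namespace Cfsg.Agent.H57

variable {K F : Type*} [Field K] [Fintype K] [Field F] [Fintype F] {q : ℕ}

/-- `K^(2a) ≅ F^(4a)` carrying `τ ∘ f_K` to the symplectic form over `F` -/
theorem exists_coords_symp (ι : F →+* K) (hK : Fintype.card K = q ^ 2) (hF : Fintype.card F = q)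
    (a : ℕ) : ∃ (T : K → F) (L : (Fin a ⊕ Fin a → K) ≃+ (Fin (2 * a) ⊕ Fin (2 * a) → F)),
      (∀ (c : F) v, L (ι c • v) = c • L v) ∧
      ∀ u v, Cfsg.sympForm (2 * a) F (L u) (L v) = T (Cfsg.sympForm a K u v) := by
  classical
  obtain ⟨θ, hθ⟩ := exists_not_range ι hK hF
  let C := crd hK hF hθ
  let τ : K →+ F := AddMonoidHom.mk' (fun x => (C x).2) (fun x y => by rw [map_add]; rfl)
  have τsmul : ∀ (c : F) x, τ (ι c * x) = c * τ x := fun c x => by
    show (C (ι c * x)).2 = _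
    rw [crd_smul]; rfl
  let e : Fin a ⊕ Fin a ≃ Fin (2 * a) := finSumFinEquiv.trans (finCongr (two_mul a).symm)
  let f : (Fin a ⊕ Fin a → K) →+ (Fin (2 * a) ⊕ Fin (2 * a) → F) :=
    AddMonoidHom.mk' (fun v => Sum.elim
      (fun i => Sum.elim (fun j => τ (v (.inl j))) (fun j => τ (θ * v (.inl j))) (e.symm i))
      (fun i => Sum.elim (fun j => (C (v (.inr j))).1) (fun j => (C (v (.inr j))).2) (e.symm i)))
      (fun v w => by
        funext s
        rcases s with i | i <;> rcases hi : e.symm i with j | j <;> simp [hi, mul_add])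
  have hinj : Function.Injective f := by
    refine (injective_iff_map_eq_zero f).2 fun v h => ?_
    funext s
    rcases s with j | j
    · have h1 : τ (v (.inl j)) = 0 := by simpa [f] using congrFun h (.inl (e (.inl j)))
      have h2 : τ (θ * v (.inl j)) = 0 := by simpa [f] using congrFun h (.inl (e (.inr j)))
      set y := v (Sum.inl j)
      have hy := crd_spec hK hF hθ y
      rw [show (crd hK hF hθ y).2 = 0 from h1] at hy
      simp only [map_zero, mul_zero, add_zero] at hy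
      rw [← hy, mul_comm, τsmul] at h2
      have hθ1 : τ θ = 1 := by
        show (C θ).2 = 1
        rw [crd_eq hK hF hθ (x := θ) (a := 0) (b := 1) (by simp)]
      rw [hθ1, mul_one] at h2
      rw [← hy, h2, map_zero]; rfl
    · have h1 : (C (v (.inr j))).1 = 0 := by simpa [f] using congrFun h (.inr (e (.inl j)))
      have h2 : (C (v (.inr j))).2 = 0 := by simpa [f] using congrFun h (.inr (e (.inr j)))
      exact C.injective ((Prod.ext h1 h2).trans (map_zero C).symm)
  have hbij : Function.Bijective f := (Fintype.bijective_iff_injective_and_card f).2 ⟨hinj, by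
    simp only [Fintype.card_pi, Finset.prod_const, Finset.card_univ, hK, hF, Fintype.card_sum,
      Fintype.card_fin]
    rw [← pow_mul]; ring_nf⟩
  refine ⟨τ, AddEquiv.ofBijective f hbij, fun c v => ?_, fun u v => ?_⟩
  · show f (ι c • v) = c • f v
    funext s
    rcases s with i | i <;> rcases hi : e.symm i with j | j <;>
      simp [f, C, hi, τsmul, crd_smul, mul_left_comm θ]
  · show Cfsg.sympForm (2 * a) F (f u) (f v) = _
    have key : ∀ x y : K, (C x).1 * τ y + (C x).2 * τ (θ * y) = τ (x * y) := fun x y => by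
      conv_rhs => rw [← crd_spec hK hF hθ x]
      rw [add_mul, map_add, τsmul, show θ * ι (crd hK hF hθ x).2 * y
        = ι (crd hK hF hθ x).2 * (θ * y) by ring, τsmul]
    rw [Symplectic.sympForm_eq, Symplectic.sympForm_eq, map_sum, ← e.sum_comp,
      Fintype.sum_sum_type, ← Finset.sum_add_distrib]
    refine Finset.sum_congr rfl fun j _ => ?_
    simp only [f, AddMonoidHom.mk'_apply, Sum.elim_inl, Sum.elim_inr, e.symm_apply_apply]
    rw [map_sub, ← key (u (Sum.inr j)) (v (Sum.inl j)),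
      mul_comm (u (Sum.inl j)) (v (Sum.inr j)), ← key (v (Sum.inr j)) (u (Sum.inl j))]
    ring

/-- base change of isometries of the minus form to the plus form over `K` -/
theorem exists_base_change (hK : Fintype.card K = q ^ 2) (hF : Fintype.card F = q)
    (ι : F →+* K) (k : ℕ) (a c : F) (hr : ∀ t : F, t ^ 2 + a * t + c ≠ 0) :
    ∃ φ : ↥(Cfsg.isometryGroup F (Cfsg.quadFormMinus k F a c)) →*
      ↥(Cfsg.isometryGroup K (Cfsg.quadFormPlus (k + 1) K)), Function.Injective φ := by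
  classical
  obtain ⟨θ, hroot, hθ⟩ := exists_root_quadratic ι hK hF a c hr
  obtain ⟨hs, hn⟩ := conj_root hK hF hroot hθ
  set Q := Orthogonal.formMinus F k a c with hQdef
  set QK := Orthogonal.formMinus K k (ι a) (ι c) with hQK
  have hmap : ∀ v : (Fin k ⊕ Fin k) ⊕ Fin 2 → F, QK (fun i => ι (v i)) = ι (Q v) := fun v => by
    simp [hQK, hQdef, Orthogonal.formMinus_coe, Cfsg.quadFormMinus]
  have hne : θ ^ q - θ ≠ 0 := fun h => by
    obtain ⟨x, hx⟩ := mem_range_of_pow_q ι hK hF (sub_eq_zero.1 h)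
    exact hθ x hx
  let P : ((Fin k ⊕ Fin k) ⊕ Fin 2 → K) →ₗ[K] (Fin (k + 1) ⊕ Fin (k + 1) → K) :=
    { toFun := fun v => Sum.elim
        (Fin.cons (v (.inr 0) - θ * v (.inr 1)) (fun i => v (.inl (.inl i))))
        (Fin.cons (v (.inr 0) - θ ^ q * v (.inr 1)) (fun i => v (.inl (.inr i))))
      map_add' := fun u v => by
        funext s
        rcases s with i | i <;> refine Fin.cases ?_ (fun j => ?_) i <;> simp <;> ring
      map_smul' := fun r v => by
        funext s
        rcases s with i | i <;> refine Fin.cases ?_ (fun j => ?_) i <;> simp <;> ring }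
  have hP : ∀ v, Cfsg.quadFormPlus (k + 1) K (P v) = QK v := fun v => by
    simp [P, hQK, Orthogonal.formMinus_coe, Cfsg.quadFormPlus, Cfsg.quadFormMinus,
      Fin.sum_univ_succ]
    linear_combination (-(v (Sum.inr 0) * v (Sum.inr 1))) * hs + (v (Sum.inr 1) ^ 2) * hn
  have hPinj : Function.Injective P := by
    refine LinearMap.ker_eq_bot.1 (eq_bot_iff.2 fun v hv => ?_)
    rw [LinearMap.mem_ker] at hv
    have h0 : v (.inr 0) - θ * v (.inr 1) = 0 := by simpa [P] using congrFun hv (.inl 0)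
    have h1 : v (.inr 0) - θ ^ q * v (.inr 1) = 0 := by simpa [P] using congrFun hv (.inr 0)
    have e1 : v (.inr 1) = 0 := by
      have : (θ ^ q - θ) * v (.inr 1) = 0 := by linear_combination h0 - h1
      exact (mul_eq_zero.1 this).resolve_left hne
    rw [Submodule.mem_bot]
    funext s
    rcases s with (i | i) | j
    · simpa [P] using congrFun hv (.inl i.succ)
    · simpa [P] using congrFun hv (.inr i.succ)
    · fin_cases j
      · simpa [e1] using h0
      · exact e1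
  let E : ((Fin k ⊕ Fin k) ⊕ Fin 2 → K) ≃ₗ[K] (Fin (k + 1) ⊕ Fin (k + 1) → K) :=
    LinearMap.linearEquivOfInjective P hPinj (by simp; omega)
  let φM : Matrix ((Fin k ⊕ Fin k) ⊕ Fin 2) ((Fin k ⊕ Fin k) ⊕ Fin 2) F →*
      Matrix (Fin (k + 1) ⊕ Fin (k + 1)) (Fin (k + 1) ⊕ Fin (k + 1)) K :=
    { toFun := fun M => LinearMap.toMatrix' ((E.toLinearMap.comp (Matrix.toLin' (M.map ι))).comp
        E.symm.toLinearMap)
      map_one' := by
        rw [Matrix.map_one _ (map_zero ι) (map_one ι), Matrix.toLin'_one]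
        rw [show (E.toLinearMap.comp LinearMap.id).comp E.symm.toLinearMap = LinearMap.id from
          LinearMap.ext fun u => by simp, LinearMap.toMatrix'_id]
      map_mul' := fun M N => by
        rw [Matrix.map_mul, Matrix.toLin'_mul, ← LinearMap.toMatrix'_comp]
        congr 1
        exact LinearMap.ext fun u => by simp }
  have hφapp : ∀ M u, (φM M).mulVec (E u) = E ((M.map ι).mulVec u) := fun M u => by
    show (LinearMap.toMatrix' _).mulVec _ = _
    rw [LinearMap.toMatrix'_mulVec]; simp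
  have hiso : ∀ g : ↥(Cfsg.isometryGroup F (Cfsg.quadFormMinus k F a c)), ∀ u,
      QK ((((g : GL ((Fin k ⊕ Fin k) ⊕ Fin 2) F) : Matrix ((Fin k ⊕ Fin k) ⊕ Fin 2) ((Fin k ⊕ Fin k) ⊕ Fin 2) F).map ι).mulVec u) = QK u := by
    intro g
    have hcol : ∀ s : (Fin k ⊕ Fin k) ⊕ Fin 2,
        (((g : GL ((Fin k ⊕ Fin k) ⊕ Fin 2) F) : Matrix ((Fin k ⊕ Fin k) ⊕ Fin 2) ((Fin k ⊕ Fin k) ⊕ Fin 2) F).map ι).mulVec (Pi.single s 1)
          = fun i => ι (((g : GL ((Fin k ⊕ Fin k) ⊕ Fin 2) F) : Matrix ((Fin k ⊕ Fin k) ⊕ Fin 2) ((Fin k ⊕ Fin k) ⊕ Fin 2) F).mulVec (Pi.single s 1) i) := fun s => by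
      funext i; simp
    have hg : ∀ v, Q (((g : GL ((Fin k ⊕ Fin k) ⊕ Fin 2) F) : Matrix ((Fin k ⊕ Fin k) ⊕ Fin 2) ((Fin k ⊕ Fin k) ⊕ Fin 2) F).mulVec v) = Q v := fun v => g.2 v 0
    have heq : QK.comp (Matrix.mulVecLin (((g : GL ((Fin k ⊕ Fin k) ⊕ Fin 2) F) : Matrix ((Fin k ⊕ Fin k) ⊕ Fin 2) ((Fin k ⊕ Fin k) ⊕ Fin 2) F).map ι)) = QK := by
      refine Orthogonal.qf_ext (Pi.basisFun K _) (fun i => ?_) (fun i j _ => ?_)
      · rw [Pi.basisFun_apply, QuadraticMap.comp_apply, Matrix.mulVecLin_apply, hcol, hmap, hg,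
          ← hmap]
        congr 1; funext t; simp [Pi.single_apply, apply_ite ι]
      · have h1 : ∀ u v : (Fin k ⊕ Fin k) ⊕ Fin 2 → F,
            QuadraticMap.polar QK (fun t => ι (u t)) (fun t => ι (v t))
              = ι (QuadraticMap.polar Q u v) := fun u v => by
          simp only [QuadraticMap.polar, map_sub, ← hmap]
          rw [show ((fun t => ι (u t)) + fun t => ι (v t)) = fun t => ι ((u + v) t) by
            funext t; simp]
        have hs1 : ∀ s : (Fin k ⊕ Fin k) ⊕ Fin 2,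
            (Pi.single s 1 : _ → K) = fun t => ι ((Pi.single s 1 : _ → F) t) := fun s => by
          funext t; simp [Pi.single_apply, apply_ite ι]
        rw [Pi.basisFun_apply, Pi.basisFun_apply]
        show QuadraticMap.polar (fun x => QK ((((g : GL ((Fin k ⊕ Fin k) ⊕ Fin 2) F) : Matrix ((Fin k ⊕ Fin k) ⊕ Fin 2) ((Fin k ⊕ Fin k) ⊕ Fin 2) F).map ι).mulVec x)) _ _ = _
        simp only [QuadraticMap.polar, Matrix.mulVec_add]
        show QuadraticMap.polar QK _ _ = QuadraticMap.polar QK _ _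
        rw [hcol, hcol, h1, hs1 i, hs1 j, h1]
        congr 1
        simp only [QuadraticMap.polar, ← Matrix.mulVec_add, hg]
    exact fun u => DFunLike.congr_fun heq u
  have hmem : ∀ g : ↥(Cfsg.isometryGroup F (Cfsg.quadFormMinus k F a c)),
      Units.map φM (g : GL ((Fin k ⊕ Fin k) ⊕ Fin 2) F) ∈ Cfsg.isometryGroup K (Cfsg.quadFormPlus (k + 1) K) := by
    intro g v _
    obtain ⟨u, rfl⟩ := E.surjective v
    show Cfsg.quadFormPlus (k + 1) K ((φM _).mulVec (E u)) = Cfsg.quadFormPlus (k + 1) K (E u)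
    rw [hφapp]
    show Cfsg.quadFormPlus (k + 1) K (P _) = Cfsg.quadFormPlus (k + 1) K (P u)
    rw [hP, hP, hiso]
  refine ⟨((Units.map φM).comp (Cfsg.isometryGroup F _).subtype).codRestrict _ hmem, ?_⟩
  intro g h e
  have e' : φM ((g : GL ((Fin k ⊕ Fin k) ⊕ Fin 2) F) : Matrix ((Fin k ⊕ Fin k) ⊕ Fin 2) ((Fin k ⊕ Fin k) ⊕ Fin 2) F) = φM ((h : GL ((Fin k ⊕ Fin k) ⊕ Fin 2) F) : Matrix ((Fin k ⊕ Fin k) ⊕ Fin 2) ((Fin k ⊕ Fin k) ⊕ Fin 2) F) :=
    congrArg (fun x : ↥(Cfsg.isometryGroup K (Cfsg.quadFormPlus (k + 1) K)) =>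
      ((x : GL (Fin (k + 1) ⊕ Fin (k + 1)) K) : Matrix (Fin (k + 1) ⊕ Fin (k + 1)) (Fin (k + 1) ⊕ Fin (k + 1)) K)) e
  apply Subtype.ext; apply Units.ext
  have hmapeq : ((g : GL ((Fin k ⊕ Fin k) ⊕ Fin 2) F) : Matrix ((Fin k ⊕ Fin k) ⊕ Fin 2) ((Fin k ⊕ Fin k) ⊕ Fin 2) F).map ι = ((h : GL ((Fin k ⊕ Fin k) ⊕ Fin 2) F) : Matrix ((Fin k ⊕ Fin k) ⊕ Fin 2) ((Fin k ⊕ Fin k) ⊕ Fin 2) F).map ι :=
    Matrix.ext_iff_mulVec.2 fun v => E.injective (by rw [← hφapp, ← hφapp, e'])
  exact Matrix.map_injective ι.injective hmapeq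

end Cfsg.Agent.H57
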