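import Mathlib

set_option autoImplicit false

namespace Cfsg.Agent.H57

open Polynomial

variable {K : Type*} [Field K]

/-- the polynomials `P_i` of the fixed-point equation -/
noncomputable def langPoly (q : ℕ) (a : ℕ → K) : ℕ → K[X]
  | 0 => C (a 0) * X ^ q
  | i + 1 => langPoly q a i ^ q + C (a (i + 1)) * X ^ q

theorem langPoly_dvd (q : ℕ) (hq : 1 ≤ q) (a : ℕ → K) (i : ℕ) :
    (X : K[X]) ^ q ∣ langPoly q a i := by
  induction i with
  | zero => exact dvd_mul_left _ _
  | succ i ih =>
    refine dvd_add (ih.trans (dvd_pow_self _ (by omega))) (dvd_mul_left _ _)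

theorem langPoly_eq_zero (q : ℕ) (hq : 2 ≤ q) (a : ℕ → K) :
    ∀ i, langPoly q a i = 0 → ∀ j ≤ i, a j = 0 := by
  intro i
  induction i with
  | zero =>
    intro h j hj
    have := congrArg (fun P => Polynomial.coeff P q) h
    simp [langPoly] at this
    rwa [Nat.le_zero.1 hj]
  | succ i ih =>
    intro h j hj
    have hd : (X : K[X]) ^ (q * q) ∣ langPoly q a i ^ q := by
      rw [pow_mul]; exact pow_dvd_pow_of_dvd (langPoly_dvd q (by omega) a i) q
    have hc : (langPoly q a i ^ q).coeff q = 0 :=
      Polynomial.X_pow_dvd_iff.1 hd q (by nlinarith)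
    have ha : a (i + 1) = 0 := by
      have := congrArg (fun P => Polynomial.coeff P q) h
      simpa [langPoly, hc] using this
    rcases Nat.lt_or_eq_of_le hj with hj' | rfl
    · apply ih _ j (by omega)
      have : langPoly q a i ^ q = 0 := by simpa [langPoly, ha] using h
      exact pow_eq_zero_iff (by omega) |>.1 this
    · exact ha

theorem exists_lang_root [IsAlgClosed K] (q : ℕ) (hq : 2 ≤ q) (a : ℕ → K) (m : ℕ)
    (h : langPoly q a m ≠ 0) : ∃ y : K, y ≠ 0 ∧ (langPoly q a m).eval y = y := by
  obtain ⟨S, hS⟩ := langPoly_dvd q (by omega) a m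
  have hS0 : S ≠ 0 := by rintro rfl; simp [hS] at h
  set R : K[X] := X ^ (q - 1) * S - 1 with hR
  have hdeg : R.degree ≠ 0 := by
    intro h0
    have hle : (X ^ (q - 1) * S : K[X]).degree ≤ 0 := by
      have : (X ^ (q - 1) * S : K[X]) = R + 1 := by rw [hR]; ring
      rw [this]
      exact (degree_add_le _ _).trans (max_le h0.le degree_one_le)
    rw [degree_mul, degree_X_pow, degree_eq_natDegree hS0, ← Nat.cast_add] at hle
    have : q - 1 + S.natDegree ≤ 0 := by exact_mod_cast hle
    omega
  obtain ⟨y, hy⟩ := IsAlgClosed.exists_root R hdeg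
  have h1 : y ^ (q - 1) * S.eval y = 1 := by
    simpa [hR, IsRoot, sub_eq_zero] using hy
  refine ⟨y, ?_, ?_⟩
  · rintro rfl
    rw [zero_pow (by omega), zero_mul] at h1
    exact zero_ne_one h1
  · rw [hS, eval_mul, eval_pow, eval_X]
    calc y ^ q * S.eval y = y * (y ^ (q - 1) * S.eval y) := by
          rw [← mul_assoc, ← pow_succ', Nat.sub_add_cancel (by omega)]
      _ = y := by rw [h1, mul_one]

variable {V : Type*} [AddCommGroup V] [Module K V]

theorem span_fixed_semilinear [IsAlgClosed K] [FiniteDimensional K V] (q : ℕ) (hq : 2 ≤ q)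
    (φ : V →+ V) (hφ : ∀ (c : K) (v : V), φ (c • v) = c ^ q • φ v)
    (hinj : Function.Injective φ) : Submodule.span K {v | φ v = v} = ⊤ := by
  classical
  set W := Submodule.span K {v | φ v = v} with hW
  have hstable : ∀ w ∈ W, φ w ∈ W := by
    intro w hw
    induction hw using Submodule.span_induction with
    | mem x hx => rw [show φ x = x from hx]; exact Submodule.subset_span hx
    | zero => simp
    | add x y _ _ hx hy => rw [map_add]; exact add_mem hx hy
    | smul c x _ hx => rw [hφ]; exact W.smul_mem _ hx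
  have hsurj : ∀ w ∈ W, ∃ w' ∈ W, φ w' = w := by
    intro w hw
    induction hw using Submodule.span_induction with
    | mem x hx => exact ⟨x, Submodule.subset_span hx, hx⟩
    | zero => exact ⟨0, zero_mem _, map_zero _⟩
    | add x y _ _ hx hy =>
      obtain ⟨x', hx', ex⟩ := hx
      obtain ⟨y', hy', ey⟩ := hy
      exact ⟨x' + y', add_mem hx' hy', by rw [map_add, ex, ey]⟩
    | smul c x _ hx =>
      obtain ⟨x', hx', ex⟩ := hx
      obtain ⟨d, hd⟩ := IsAlgClosed.exists_pow_nat_eq c (n := q) (by omega)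
      exact ⟨d • x', W.smul_mem _ hx', by rw [hφ, ex, hd]⟩
  have hsolve : ∀ w ∈ W, ∀ c : K, ∃ d ∈ W, φ d - d = c • w := by
    intro w hw
    induction hw using Submodule.span_induction with
    | mem x hx =>
      intro c
      have hdeg : ((X : K[X]) ^ q - X - C c).degree ≠ 0 := by
        have hl : (X + C c : K[X]).degree < ((X : K[X]) ^ q).degree := by
          rw [degree_X_add_C, degree_X_pow]; exact_mod_cast hq
        rw [sub_sub, degree_sub_eq_left_of_degree_lt hl, degree_X_pow]
        exact_mod_cast (by omega : q ≠ 0)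
      obtain ⟨d, hd⟩ := IsAlgClosed.exists_root _ hdeg
      have hd' : d ^ q - d = c := by simpa [IsRoot, sub_eq_zero] using hd
      exact ⟨d • x, W.smul_mem _ (Submodule.subset_span hx),
        by rw [hφ, show φ x = x from hx, ← sub_smul, hd']⟩
    | zero => intro c; exact ⟨0, zero_mem _, by simp⟩
    | add x y _ _ hx hy =>
      intro c
      obtain ⟨x', hx', ex⟩ := hx c
      obtain ⟨y', hy', ey⟩ := hy c
      exact ⟨x' + y', add_mem hx' hy', by rw [map_add, smul_add, ← ex, ← ey]; abel⟩
    | smul c' x _ hx => intro c; rw [smul_smul]; exact hx _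
  by_contra hne
  obtain ⟨v, -, hv⟩ := SetLike.exists_of_lt (lt_top_iff_ne_top.2 hne)
  let U : ℕ → Submodule K V := fun j =>
    W ⊔ Submodule.span K (Set.range fun i : Fin j => φ^[(i : ℕ)] v)
  have hU_mono : ∀ j, U j ≤ U (j + 1) := fun j => by
    refine sup_le_sup_left (Submodule.span_mono ?_) _
    rintro x ⟨i, rfl⟩
    exact ⟨i.castSucc, rfl⟩
  have hU_mem : ∀ j, φ^[j] v ∈ U (j + 1) := fun j =>
    le_sup_right (a := W) (Submodule.subset_span ⟨Fin.last j, rfl⟩)
  have hex : ∃ j, φ^[j] v ∈ U j := by
    by_contra hno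
    push Not at hno
    have hlt : ∀ j, j ≤ Module.finrank K (U j) := by
      intro j
      induction j with
      | zero => exact Nat.zero_le _
      | succ j ih =>
        have hlt' : U j < U (j + 1) :=
          lt_of_le_of_ne (hU_mono j) (fun h => hno j (h ▸ hU_mem j))
        exact lt_of_le_of_lt ih (Submodule.finrank_lt_finrank_of_lt hlt')
    have h1 := hlt (Module.finrank K V + 1)
    have h2 := Submodule.finrank_le (U (Module.finrank K V + 1))
    omega
  rcases Nat.eq_zero_or_pos (Nat.find hex) with h0 | h0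
  · have := Nat.find_spec hex
    rw [h0] at this
    have hU0 : U 0 = W := by simp [U, Set.range_eq_empty]
    rw [hU0] at this
    exact hv this
  obtain ⟨m, hm⟩ : ∃ m, Nat.find hex = m + 1 := ⟨Nat.find hex - 1, by omega⟩
  have hspec := Nat.find_spec hex
  have hmin : φ^[m] v ∉ U m := Nat.find_min hex (by omega)
  rw [hm] at hspec
  obtain ⟨w, hw, s, hs, hws⟩ := Submodule.mem_sup.1 hspec
  obtain ⟨a', ha'⟩ := (Submodule.mem_span_range_iff_exists_fun K).1 hs
  set a : ℕ → K := fun i => if h : i < m + 1 then a' ⟨i, h⟩ else 0 with ha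
  have hrel : φ^[m + 1] v = w + ∑ i ∈ Finset.range (m + 1), a i • φ^[i] v := by
    rw [← hws, ← ha', Finset.sum_range]
    simp [ha, Fin.is_lt, Fin.is_le]
  have hP : langPoly q a m ≠ 0 := by
    intro h
    have hz := langPoly_eq_zero q hq a m h
    have hs0 : ∑ i ∈ Finset.range (m + 1), a i • φ^[i] v = 0 :=
      Finset.sum_eq_zero fun i hi => by
        rw [hz i (by simpa [Nat.lt_succ_iff] using hi), zero_smul]
    rw [hs0, add_zero, Function.iterate_succ_apply'] at hrel
    obtain ⟨w', hw', ew'⟩ := hsurj w hw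
    rw [← ew'] at hrel
    exact hmin (hinj hrel ▸ (le_sup_left : W ≤ U m) hw')
  obtain ⟨y, hy0, hy⟩ := exists_lang_root q hq a m hP
  set c : ℕ → K := fun i => (langPoly q a i).eval y with hc
  have hc0 : c 0 = y ^ q * a 0 := by
    simp only [hc, langPoly, eval_mul, eval_C, eval_pow, eval_X]; ring
  have hcs : ∀ i, c (i + 1) = c i ^ q + y ^ q * a (i + 1) := fun i => by
    simp only [hc, langPoly, eval_add, eval_mul, eval_C, eval_pow, eval_X]; ring
  set u := ∑ i ∈ Finset.range (m + 1), c i • φ^[i] v with hu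
  have hkey : φ u - u = y ^ q • w := by
    have h1 : φ u = ∑ i ∈ Finset.range (m + 1), c i ^ q • φ^[i + 1] v := by
      rw [hu, map_sum]
      exact Finset.sum_congr rfl fun i _ => by rw [hφ, Function.iterate_succ_apply']
    rw [h1, Finset.sum_range_succ, show c m = y from hy, hrel, hu, smul_add, Finset.smul_sum,
      Finset.sum_range_succ' (fun i => y ^ q • a i • φ^[i] v),
      Finset.sum_range_succ' (fun i => c i • φ^[i] v)]
    simp only [smul_smul, hcs, hc0, add_smul, Finset.sum_add_distrib]
    abel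
  obtain ⟨d, hd, ed⟩ := hsolve w hw (y ^ q)
  have hfix : φ (u - d) = u - d := by
    rw [map_sub, sub_eq_sub_iff_sub_eq_sub, hkey, ed]
  have huW : u ∈ W := by
    have := add_mem (Submodule.subset_span (R := K) (s := {v | φ v = v}) hfix) hd
    simpa using this
  apply hmin
  rw [hu, Finset.sum_range_succ, show c m = y from hy] at huW
  have hlow : ∑ i ∈ Finset.range m, c i • φ^[i] v ∈ U m :=
    sum_mem fun i hi => Submodule.smul_mem _ _
      (le_sup_right (a := W) (Submodule.subset_span ⟨⟨i, Finset.mem_range.1 hi⟩, rfl⟩))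
  have hym := sub_mem ((le_sup_left : W ≤ U m) huW) hlow
  rw [add_sub_cancel_left] at hym
  simpa [smul_smul, hy0] using Submodule.smul_mem _ y⁻¹ hym

end Cfsg.Agent.H57
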