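import Mathlib

/-!
The Moebius function of the lattice of submodules of a finite semisimple `F[X]`-module.
-/

set_option autoImplicit false
set_option linter.unusedSectionVars false

namespace Cfsg.Agent.H57.LatticeMu

open Polynomial UniqueFactorizationMonoid Finset

variable {F : Type*} [Field F]

/-- Multiplication by `X`. -/
noncomputable def op (N : Type*) [AddCommGroup N] [Module F N] [Module F[X] N] [IsScalarTower F F[X] N] :
    Module.End F N :=
  Algebra.lsmul F F N (X : F[X])

theorem aeval_op {N : Type*} [AddCommGroup N] [Module F N] [Module F[X] N] [IsScalarTower F F[X] N]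
    (r : F[X]) (v : N) : aeval (op (F := F) N) r v = r • v := by
  rw [op, Polynomial.aeval_algHom_apply, Polynomial.aeval_X_left_apply, Algebra.lsmul_coe]

/-- The factors of the characteristic polynomial. -/
noncomputable def cf (N : Type*) [AddCommGroup N] [Module F N] [Module F[X] N] [IsScalarTower F F[X] N]
    [FiniteDimensional F N] [DecidableEq F] : Multiset F[X] :=
  normalizedFactors (op (F := F) N).charpoly

/-- The torsion of `g`. -/
abbrev Tor (g : F[X]) (N : Type*) [AddCommGroup N] [Module F[X] N] : Type _ := {v : N // g • v = 0}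

/-- The value of the Moebius function. -/
noncomputable def phi [DecidableEq F] (q : ℕ) (s : Multiset F[X]) : ℂ :=
  ∏ g ∈ s.toFinset, (-1 : ℂ) ^ s.count g * (q : ℂ) ^ (g.natDegree * (s.count g).choose 2)

theorem phi_cons [DecidableEq F] (q : ℕ) (g : F[X]) (s : Multiset F[X]) :
    phi q (g ::ₘ s) = -((q : ℂ) ^ (g.natDegree * s.count g)) * phi q s := by
  classical
  have hsub : phi q s = ∏ h ∈ insert g s.toFinset,
      (-1 : ℂ) ^ s.count h * (q : ℂ) ^ (h.natDegree * (s.count h).choose 2) := by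
    refine Finset.prod_subset (Finset.subset_insert _ _) fun h _ hh => ?_
    rw [Multiset.count_eq_zero.2 fun hm => hh (Multiset.mem_toFinset.2 hm)]
    simp
  rw [hsub, phi, Multiset.toFinset_cons, ← Finset.mul_prod_erase _ _ (Finset.mem_insert_self g _),
    ← Finset.mul_prod_erase _ _ (Finset.mem_insert_self g _)]
  rw [Finset.prod_congr rfl fun h hh => by rw [Multiset.count_cons_of_ne (Finset.ne_of_mem_erase hh)],
    Multiset.count_cons_self, Nat.choose_succ_succ, Nat.choose_one_right, pow_succ, mul_add, pow_add]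
  ring

section Split

variable {M : Type*} [AddCommGroup M] [Module F[X] M]

theorem exists_split {A W U : Submodule F[X] M} (h1 : A ⊔ W = U) (h2 : A ⊓ W = ⊥) :
    Nonempty ((↥A × ↥W) ≃ₗ[F[X]] ↥U) := by
  have hA : A ≤ U := h1 ▸ le_sup_left
  have hW : W ≤ U := h1 ▸ le_sup_right
  refine ⟨LinearEquiv.ofBijective ((Submodule.inclusion hA).coprod (Submodule.inclusion hW)) ⟨?_, ?_⟩⟩
  · rw [← LinearMap.ker_eq_bot, LinearMap.ker_eq_bot']
    rintro ⟨a, w⟩ h
    have h' : (a : M) + (w : M) = 0 := congrArg Subtype.val h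
    have ha : (a : M) ∈ A ⊓ W := ⟨a.2, by rw [eq_neg_of_add_eq_zero_left h']; exact W.neg_mem w.2⟩
    rw [h2, Submodule.mem_bot] at ha
    rw [ha, zero_add] at h'
    exact Prod.ext (Subtype.ext ha) (Subtype.ext h')
  · rintro ⟨u, hu⟩
    rw [← h1] at hu
    obtain ⟨a, ha, w, hw, rfl⟩ := Submodule.mem_sup.1 hu
    exact ⟨(⟨a, ha⟩, ⟨w, hw⟩), Subtype.ext rfl⟩

variable {N N₁ N₂ : Type*} [AddCommGroup N] [Module F[X] N] [AddCommGroup N₁] [Module F[X] N₁] [AddCommGroup N₂]
  [Module F[X] N₂]

theorem card_tor_of_equiv (e : (N₁ × N₂) ≃ₗ[F[X]] N) (g : F[X]) :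
    Nat.card (Tor g N) = Nat.card (Tor g N₁) * Nat.card (Tor g N₂) := by
  rw [← Nat.card_prod]
  refine Nat.card_congr
    { toFun := fun v => (⟨(e.symm v.1).1, ?_⟩, ⟨(e.symm v.1).2, ?_⟩)
      invFun := fun w => ⟨e (w.1.1, w.2.1), ?_⟩
      left_inv := fun v => Subtype.ext (by simp)
      right_inv := fun w => by simp }
  · rw [← Prod.smul_fst, ← map_smul, v.2, map_zero, Prod.fst_zero]
  · rw [← Prod.smul_snd, ← map_smul, v.2, map_zero, Prod.snd_zero]
  · rw [← map_smul, Prod.smul_mk, w.1.2, w.2.2, Prod.mk_zero_zero, map_zero]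

theorem card_hom_of_equiv (e : (N₁ × N₂) ≃ₗ[F[X]] N) (A : Submodule F[X] M) :
    Nat.card (N →ₗ[F[X]] ↥A) = Nat.card (N₁ →ₗ[F[X]] ↥A) * Nat.card (N₂ →ₗ[F[X]] ↥A) := by
  rw [← Nat.card_prod]
  refine Nat.card_congr
    { toFun := fun φ => ((φ.comp e.toLinearMap).comp (LinearMap.inl F[X] N₁ N₂),
        (φ.comp e.toLinearMap).comp (LinearMap.inr F[X] N₁ N₂))
      invFun := fun ψ => (ψ.1.coprod ψ.2).comp e.symm.toLinearMap
      left_inv := fun φ => LinearMap.ext fun v => by simp [← map_add]
      right_inv := fun ψ => Prod.ext (LinearMap.ext fun v => by simp) (LinearMap.ext fun v => by simp) }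

variable [Module F N] [IsScalarTower F F[X] N] [FiniteDimensional F N] [Module F N₁] [IsScalarTower F F[X] N₁]
  [FiniteDimensional F N₁] [Module F N₂] [IsScalarTower F F[X] N₂] [FiniteDimensional F N₂] [DecidableEq F]

theorem charpoly_of_equiv (e : N₁ ≃ₗ[F[X]] N) :
    (op (F := F) N).charpoly = (op (F := F) N₁).charpoly := by
  rw [← LinearEquiv.charpoly_conj (e.restrictScalars F) (op (F := F) N₁)]
  congr 1
  refine LinearMap.ext fun v => ?_
  simp [op, LinearEquiv.conj_apply]

theorem cf_of_equiv (e : (N₁ × N₂) ≃ₗ[F[X]] N) : cf (F := F) N = cf (F := F) N₁ + cf (F := F) N₂ := by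
  rw [cf, cf, cf, charpoly_of_equiv e, show op (F := F) (N₁ × N₂) = (op (F := F) N₁).prodMap (op (F := F) N₂) from rfl,
    LinearMap.charpoly_prodMap,
    normalizedFactors_mul (LinearMap.charpoly_monic _).ne_zero (LinearMap.charpoly_monic _).ne_zero]

end Split

section Semisimple

variable {M : Type*} [AddCommGroup M] [Module F M] [Module F[X] M] [IsScalarTower F F[X] M]
  [FiniteDimensional F M]

instance finiteDimensional_sub (A : Submodule F[X] M) : FiniteDimensional F A :=
  FiniteDimensional.finiteDimensional_submodule (A.restrictScalars F)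

/-- A simple submodule is a quotient by a monic irreducible polynomial. -/
theorem exists_gen {A : Submodule F[X] M} (hA : IsAtom A) : ∃ g : F[X], g.Monic ∧ Irreducible g ∧
    (∀ v : A, g • v = 0) ∧ (∀ (v : A) (r : F[X]), v ≠ 0 → (r • v = 0 ↔ g ∣ r)) ∧
    Module.finrank F A = g.natDegree ∧ (op (F := F) ↥A).charpoly = g := by
  classical
  haveI : IsSimpleModule F[X] A := isSimpleModule_iff_isAtom.2 hA
  haveI := IsSimpleModule.nontrivial F[X] A
  haveI : Algebra.IsIntegral F (Module.End F A) := Algebra.IsIntegral.of_finite F _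
  have hint : IsIntegral F (op (F := F) ↥A) := LinearMap.isIntegral _
  set g := minpoly F (op (F := F) ↥A)
  have hmon : g.Monic := minpoly.monic hint
  have hkill : ∀ v : A, g • v = 0 := fun v => by
    refine (aeval_op (F := F) g v).symm.trans ?_
    exact LinearMap.congr_fun (minpoly.aeval F (op (F := F) ↥A)) v
  -- every non-zero vector has the same annihilator
  have hann : ∀ (v : A) (r : F[X]), v ≠ 0 → (r • v = 0 ↔ g ∣ r) := by
    intro v r hv
    constructor
    · intro hr
      refine minpoly.dvd F _ (LinearMap.ext fun w => ?_)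
      obtain ⟨s, rfl⟩ := IsSimpleModule.toSpanSingleton_surjective F[X] hv w
      rw [aeval_op, LinearMap.toSpanSingleton_apply, smul_comm, hr, smul_zero]
      rfl
    · rintro ⟨s, rfl⟩
      rw [mul_comm, mul_smul, hkill, smul_zero]
  have hirr : Irreducible g := by
    obtain ⟨v, hv⟩ := exists_ne (0 : A)
    refine irreducible_iff.2 ⟨fun hu => hv ?_, fun a b hab => ?_⟩
    · rw [← one_smul F[X] v, hann v 1 hv]
      exact hu.dvd
    · by_cases hav : a • v = 0
      · obtain ⟨c, hc⟩ := (hann v a hv).1 hav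
        refine Or.inr (isUnit_iff_dvd_one.2 ⟨c, mul_left_cancel₀ hmon.ne_zero ?_⟩)
        rw [mul_one]
        calc g = a * b := hab
          _ = g * (b * c) := by rw [hc]; ring
      · have h : b • a • v = 0 := by rw [← mul_smul, mul_comm, ← hab, hkill]
        obtain ⟨c, hc⟩ := (hann (a • v) b hav).1 h
        refine Or.inl (isUnit_iff_dvd_one.2 ⟨c, mul_left_cancel₀ hmon.ne_zero ?_⟩)
        rw [mul_one]
        calc g = a * b := hab
          _ = g * (a * c) := by rw [hc]; ring
  have hdim : Module.finrank F A = g.natDegree := by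
    obtain ⟨v, hv⟩ := exists_ne (0 : A)
    have hker : LinearMap.ker (LinearMap.toSpanSingleton F[X] A v) = Ideal.span {g} := by
      ext r
      rw [LinearMap.mem_ker, LinearMap.toSpanSingleton_apply, Ideal.mem_span_singleton, hann v r hv]
    have e : (F[X] ⧸ Ideal.span {g}) ≃ₗ[F[X]] A :=
      (Submodule.quotEquivOfEq _ _ hker.symm).trans
        (LinearMap.quotKerEquivOfSurjective _ (IsSimpleModule.toSpanSingleton_surjective F[X] hv))
    rw [← LinearEquiv.finrank_eq (e.restrictScalars F)]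
    exact (AdjoinRoot.powerBasis hmon.ne_zero).finrank.trans (AdjoinRoot.powerBasis_dim hmon.ne_zero)
  refine ⟨g, hmon, hirr, hkill, hann, hdim, ?_⟩
  exact (Polynomial.eq_of_monic_of_dvd_of_natDegree_le hmon (LinearMap.charpoly_monic _)
    (LinearMap.minpoly_dvd_charpoly _) (by rw [LinearMap.charpoly_natDegree, hdim]))

variable [DecidableEq F]

theorem card_eq_pow [Fintype F] (N : Type*) [AddCommGroup N] [Module F N] [FiniteDimensional F N] :
    Nat.card N = Fintype.card F ^ Module.finrank F N := by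
  rw [Module.natCard_eq_pow_finrank (K := F), Nat.card_eq_fintype_card]

/-- Torsion and homomorphisms of a simple module. -/
theorem simple_counts [Fintype F] {A : Submodule F[X] M} (hA : IsAtom A) {g' : F[X]} (hg'm : g'.Monic)
    (hg'i : Irreducible g') :
    ∃ g : F[X], cf (F := F) ↥A = {g} ∧ Nat.card (Tor g' A) = Fintype.card F ^ (g'.natDegree * ({g} : Multiset F[X]).count g') ∧
      ∀ A' : Submodule F[X] M, IsAtom A' → cf (F := F) ↥A' = {g'} →
        Nat.card (↥A →ₗ[F[X]] ↥A') = Nat.card (Tor g' A) := by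
  classical
  haveI : Finite M := Module.finite_of_finite F
  haveI : IsSimpleModule F[X] A := isSimpleModule_iff_isAtom.2 hA
  haveI := IsSimpleModule.nontrivial F[X] A
  obtain ⟨g, hgm, hgi, hkill, hann, hdim, hchar⟩ := exists_gen hA
  have hcop : g' ≠ g → IsCoprime g' g := fun hne => hg'i.coprime_iff_not_dvd.2 fun h =>
    hne (eq_of_monic_of_associated hg'm hgm ((hg'i.dvd_irreducible_iff_associated hgi).1 h))
  have htriv : ∀ {N : Type _} [AddCommGroup N] [Module F[X] N], g' ≠ g → ∀ v : N, g' • v = 0 → g • v = 0 → v = 0 := by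
    intro N _ _ hne v h1 h2
    obtain ⟨a, b, hab⟩ := hcop hne
    rw [← one_smul F[X] v, ← hab, add_smul, mul_smul, mul_smul, h1, h2, smul_zero, smul_zero, add_zero]
  refine ⟨g, by rw [cf, hchar, normalizedFactors_irreducible hgi, hgm.normalize_eq_self], ?_, ?_⟩
  · by_cases h : g' = g
    · subst h
      rw [Multiset.count_singleton_self, mul_one, ← hdim, ← card_eq_pow]
      exact Nat.card_congr (Equiv.subtypeUnivEquiv hkill)
    · rw [Multiset.count_singleton, if_neg h, mul_zero, pow_zero]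
      haveI : Subsingleton (Tor g' A) := ⟨fun v w => Subtype.ext
        ((htriv h v.1 v.2 (hkill _)).trans (htriv h w.1 w.2 (hkill _)).symm)⟩
      exact Nat.card_eq_one_iff_unique.2 ⟨inferInstance, ⟨⟨0, smul_zero _⟩⟩⟩
  · intro A' hA' hcf'
    obtain ⟨g₂, hg₂m, hg₂i, hkill', hann', hdim', hchar'⟩ := exists_gen hA'
    obtain rfl : g₂ = g' := by
      rw [cf, hchar', normalizedFactors_irreducible hg₂i, hg₂m.normalize_eq_self] at hcf'
      exact Multiset.singleton_inj.1 hcf'
    by_cases h : g₂ = g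
    · subst h
      rw [Nat.card_congr (Equiv.subtypeUnivEquiv hkill), card_eq_pow (F := F) ↥A, hdim, ← hdim', ← card_eq_pow (F := F) ↥A']
      obtain ⟨v, hv⟩ := exists_ne (0 : A)
      have hsurj := IsSimpleModule.toSpanSingleton_surjective F[X] hv
      refine Nat.card_eq_of_bijective (fun φ => φ v) ⟨fun φ ψ h => LinearMap.ext fun w => ?_, fun a => ?_⟩
      · obtain ⟨s, rfl⟩ := hsurj w
        simp only [LinearMap.toSpanSingleton_apply, map_smul]
        exact congrArg (s • ·) h
      · have hle : LinearMap.ker (LinearMap.toSpanSingleton F[X] A v) ≤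
            LinearMap.ker (LinearMap.toSpanSingleton F[X] A' a) := fun r hr => by
          rw [LinearMap.mem_ker, LinearMap.toSpanSingleton_apply, hann v r hv] at hr
          obtain ⟨s, rfl⟩ := hr
          rw [LinearMap.mem_ker, LinearMap.toSpanSingleton_apply, mul_comm, mul_smul, hkill', smul_zero]
        let e := LinearMap.quotKerEquivOfSurjective _ hsurj
        refine ⟨(Submodule.liftQ _ _ hle).comp e.symm.toLinearMap, ?_⟩
        have : e.symm v = Submodule.Quotient.mk 1 := by
          rw [LinearEquiv.symm_apply_eq]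
          exact (one_smul F[X] v).symm
        show Submodule.liftQ _ _ hle (e.symm v) = a
        rw [this, Submodule.liftQ_apply, LinearMap.toSpanSingleton_apply, one_smul]
    · haveI : Subsingleton (Tor g₂ A) := ⟨fun v w => Subtype.ext
        ((htriv h v.1 v.2 (hkill _)).trans (htriv h w.1 w.2 (hkill _)).symm)⟩
      haveI : Subsingleton (↥A →ₗ[F[X]] ↥A') := ⟨fun φ ψ => LinearMap.ext fun w => sub_eq_zero.1
        (htriv h _ (hkill' _) (by rw [smul_sub, ← map_smul, ← map_smul, hkill, map_zero, map_zero, sub_zero]))⟩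
      rw [Nat.card_eq_one_iff_unique.2 ⟨inferInstance, ⟨0⟩⟩, Nat.card_eq_one_iff_unique.2 ⟨inferInstance,
        ⟨⟨0, smul_zero _⟩⟩⟩]

/-- A complement inside a submodule. -/
theorem exists_compl [IsSemisimpleModule F[X] M] {A U : Submodule F[X] M} (hAU : A ≤ U) :
    ∃ W, A ⊔ W = U ∧ A ⊓ W = ⊥ := by
  obtain ⟨W, hW⟩ := ComplementedLattice.exists_isCompl A
  refine ⟨W ⊓ U, ?_, ?_⟩
  · rw [← sup_inf_assoc_of_le W hAU, hW.sup_eq_top, top_inf_eq]
  · rw [← inf_assoc, hW.inf_eq_bot, bot_inf_eq]

theorem lt_of_compl {A W U : Submodule F[X] M} (hA : IsAtom A) (h1 : A ⊔ W = U) (h2 : A ⊓ W = ⊥) : W < U := by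
  refine lt_of_le_of_ne (h1 ▸ le_sup_right) fun h => hA.1 ?_
  rw [← h2, inf_eq_left.2 (h ▸ h1 ▸ le_sup_left)]

theorem cf_bot : cf (F := F) ↥(⊥ : Submodule F[X] M) = 0 := by
  rw [cf]
  have : (op (F := F) ↥(⊥ : Submodule F[X] M)).charpoly = 1 := by
    refine (LinearMap.charpoly_monic _).natDegree_eq_zero.1 ?_
    rw [LinearMap.charpoly_natDegree, Module.finrank_zero_of_subsingleton]
  rw [this, normalizedFactors_one]

/-- Torsion and homomorphism counts. -/
theorem counts [Fintype F] [IsSemisimpleModule F[X] M] (U : Submodule F[X] M) {g' : F[X]} (hg'm : g'.Monic)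
    (hg'i : Irreducible g') :
    Nat.card (Tor g' U) = Fintype.card F ^ (g'.natDegree * (cf (F := F) ↥U).count g') ∧
      ∀ A' : Submodule F[X] M, IsAtom A' → cf (F := F) ↥A' = {g'} →
        Nat.card (↥U →ₗ[F[X]] ↥A') = Nat.card (Tor g' U) := by
  haveI : Finite M := Module.finite_of_finite F
  haveI : Finite (Submodule F[X] M) := Finite.of_injective (fun U => (U : Set M)) SetLike.coe_injective
  induction U using WellFoundedLT.induction with
  | _ U ih =>
    rcases eq_bot_or_exists_atom_le U with rfl | ⟨A, hA, hAU⟩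
    · refine ⟨?_, fun A' _ _ => ?_⟩
      · rw [cf_bot, Multiset.count_zero, mul_zero, pow_zero]
        exact Nat.card_eq_one_iff_unique.2 ⟨⟨fun v w => Subsingleton.elim _ _⟩, ⟨⟨0, smul_zero _⟩⟩⟩
      · rw [Nat.card_eq_one_iff_unique.2 ⟨⟨fun φ ψ => LinearMap.ext fun v => by
            rw [Subsingleton.elim v 0, map_zero, map_zero]⟩, ⟨0⟩⟩,
          Nat.card_eq_one_iff_unique.2 ⟨⟨fun v w => Subsingleton.elim _ _⟩, ⟨⟨0, smul_zero _⟩⟩⟩]
    · obtain ⟨W, h1, h2⟩ := exists_compl hAU
      obtain ⟨e⟩ := exists_split h1 h2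
      obtain ⟨g, hcf, hT, hH⟩ := simple_counts hA hg'm hg'i
      obtain ⟨hT', hH'⟩ := ih W (lt_of_compl hA h1 h2)
      refine ⟨?_, fun A' hA' hcf' => ?_⟩
      · rw [card_tor_of_equiv e, hT, hT', cf_of_equiv e, hcf, Multiset.count_add, mul_add, pow_add]
      · rw [card_hom_of_equiv e, card_tor_of_equiv e, hH A' hA' hcf', hH' A' hA' hcf']

/-- Complements of a submodule and homomorphisms. -/
theorem card_compls {A W₀ U : Submodule F[X] M} (h1 : A ⊔ W₀ = U) (h2 : A ⊓ W₀ = ⊥) :
    Nat.card {W : Submodule F[X] M // A ⊔ W = U ∧ A ⊓ W = ⊥} = Nat.card (↥W₀ →ₗ[F[X]] ↥A) := by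
  have hA : A ≤ U := h1 ▸ le_sup_left
  have hW₀ : W₀ ≤ U := h1 ▸ le_sup_right
  set p : Submodule F[X] U := A.comap U.subtype
  set q₀ : Submodule F[X] U := W₀.comap U.subtype
  have hmap : ∀ X : Submodule F[X] M, X ≤ U → (X.comap U.subtype).map U.subtype = X := fun X hX => by
    rw [Submodule.map_comap_subtype, inf_eq_right.2 hX]
  have hiff : ∀ q : Submodule F[X] U, IsCompl p q ↔
      A ⊔ q.map U.subtype = U ∧ A ⊓ q.map U.subtype = ⊥ := by
    intro q
    have hinj := Submodule.map_injective_of_injective U.injective_subtype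
    rw [isCompl_iff, disjoint_iff, codisjoint_iff, and_comm, ← hinj.eq_iff, Submodule.map_sup, hmap A hA,
      Submodule.map_subtype_top, ← hinj.eq_iff (a := p ⊓ q), Submodule.map_inf _ U.injective_subtype, hmap A hA,
      Submodule.map_bot]
  have hq₀ : IsCompl p q₀ := (hiff q₀).2 (by rw [hmap W₀ hW₀]; exact ⟨h1, h2⟩)
  calc Nat.card {W : Submodule F[X] M // A ⊔ W = U ∧ A ⊓ W = ⊥}
      = Nat.card {q : Submodule F[X] U // IsCompl p q} := by
        refine Nat.card_congr
          { toFun := fun W => ⟨W.1.comap U.subtype, (hiff _).2 (by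
              rw [hmap W.1 (le_sup_right.trans_eq W.2.1)]; exact W.2)⟩
            invFun := fun q => ⟨q.1.map U.subtype, (hiff _).1 q.2⟩
            left_inv := fun W => Subtype.ext (hmap W.1 (le_sup_right.trans_eq W.2.1))
            right_inv := fun q => Subtype.ext (Submodule.comap_map_eq_of_injective U.injective_subtype _) }
    _ = Nat.card {φ : ↥U →ₗ[F[X]] ↥p // ∀ x : p, φ x = x} := Nat.card_congr p.isComplEquivProj
    _ = Nat.card (↥q₀ →ₗ[F[X]] ↥p) := by
        let ext : (↥q₀ →ₗ[F[X]] ↥p) → (↥U →ₗ[F[X]] ↥p) := fun ψ =>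
          LinearMap.ofIsCompl (F := ↥p) hq₀ (LinearMap.id : ↥p →ₗ[F[X]] ↥p) ψ
        refine Nat.card_congr
          { toFun := fun φ => φ.1.comp q₀.subtype
            invFun := fun ψ => ⟨ext ψ,
              fun x => (LinearMap.ofIsCompl_apply_left (F := ↥p) hq₀ x).trans rfl⟩
            left_inv := fun φ => Subtype.ext (LinearMap.ofIsCompl_eq (F := ↥p) hq₀ (fun x => (φ.2 x).symm) fun x => rfl)
            right_inv := fun ψ => LinearMap.ext fun x => LinearMap.ofIsCompl_apply_right (F := ↥p) hq₀ x }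
    _ = Nat.card (↥W₀ →ₗ[F[X]] ↥A) := by
        exact Nat.card_congr (LinearEquiv.arrowCongr (Submodule.comapSubtypeEquivOfLe hW₀)
          (Submodule.comapSubtypeEquivOfLe hA)).toEquiv

variable {f : Submodule F[X] M → ℂ} [Fintype (Submodule F[X] M)]

open Classical in
theorem weisner (hsum : ∀ U, U ≠ ⊥ → ∑ W ∈ univ.filter (fun W => W ≤ U), f W = 0)
    {A : Submodule F[X] M} (hA : A ≠ ⊥) (U : Submodule F[X] M) (hAU : A ≤ U) :
    ∑ W ∈ univ.filter (fun W => W ≤ U ∧ W ⊔ A = U), f W = 0 := by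
  induction U using WellFoundedLT.induction with
  | _ U ih =>
    have hU : U ≠ ⊥ := fun h => hA (le_bot_iff.1 (h ▸ hAU))
    have h := hsum U hU
    rw [← Finset.sum_fiberwise_of_maps_to (g := fun W => W ⊔ A)
      (t := univ.filter fun Y => A ≤ Y ∧ Y ≤ U) (fun W hW => by
        simp only [mem_filter, mem_univ, true_and] at hW ⊢
        exact ⟨le_sup_right, sup_le hW hAU⟩)] at h
    rw [Finset.sum_eq_single U] at h
    · rwa [Finset.filter_filter] at h
    · intro Y hY hne
      simp only [mem_filter, mem_univ, true_and] at hY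
      rw [Finset.filter_filter, ← ih Y (lt_of_le_of_ne hY.2 hne) hY.1]
      refine Finset.sum_congr (Finset.filter_congr fun W _ => ?_) fun _ _ => rfl
      exact ⟨fun h => ⟨h.2 ▸ le_sup_left, h.2⟩, fun h => ⟨h.1.trans hY.2, h.2⟩⟩
    · simp [hAU]

open Classical in
/-- The Moebius function of the lattice of submodules. -/
theorem mu_eq [Fintype F] [IsSemisimpleModule F[X] M] (hbot : f ⊥ = 1)
    (hsum : ∀ U, U ≠ ⊥ → ∑ W ∈ univ.filter (fun W => W ≤ U), f W = 0) (U : Submodule F[X] M) :
    f U = phi (Fintype.card F) (cf (F := F) ↥U) := by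
  induction U using WellFoundedLT.induction with
  | _ U ih =>
    rcases eq_bot_or_exists_atom_le U with rfl | ⟨A, hA, hAU⟩
    · rw [hbot, cf_bot, phi]; simp
    obtain ⟨g, hgm, hgi, -, -, -, hchar⟩ := exists_gen hA
    have hcfA : cf (F := F) ↥A = {g} := by
      rw [cf, hchar, normalizedFactors_irreducible hgi, hgm.normalize_eq_self]
    obtain ⟨W₀, h1, h2⟩ := exists_compl hAU
    obtain ⟨e₀⟩ := exists_split h1 h2
    have hcfU := cf_of_equiv e₀
    have h := weisner hsum hA.1 U hAU
    rw [← Finset.add_sum_erase _ _ (show U ∈ univ.filter (fun W => W ≤ U ∧ W ⊔ A = U) by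
      simp [sup_eq_left.2 hAU]), add_eq_zero_iff_eq_neg] at h
    have hset : (univ.filter fun W => W ≤ U ∧ W ⊔ A = U).erase U =
        univ.filter fun W => A ⊔ W = U ∧ A ⊓ W = ⊥ := by
      ext W
      simp only [mem_erase, mem_filter, mem_univ, true_and, sup_comm A W]
      constructor
      · rintro ⟨hne, hle, hs⟩
        refine ⟨hs, (hA.le_iff.1 inf_le_left).resolve_right fun hi => hne ?_⟩
        rwa [sup_eq_left.2 (inf_eq_left.1 hi)] at hs
      · rintro ⟨hs, hi⟩
        exact ⟨(lt_of_compl hA (sup_comm A W ▸ hs) hi).ne, hs ▸ le_sup_left, hs⟩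
    have hval : ∀ W ∈ univ.filter (fun W => A ⊔ W = U ∧ A ⊓ W = ⊥),
        f W = phi (Fintype.card F) (cf (F := F) ↥W₀) := by
      intro W hW
      obtain ⟨hW1, hW2⟩ := (mem_filter.1 hW).2
      obtain ⟨e⟩ := exists_split hW1 hW2
      rw [ih W (lt_of_compl hA hW1 hW2), add_left_cancel ((cf_of_equiv e).symm.trans hcfU)]
    obtain ⟨hT, hH⟩ := counts W₀ hgm hgi
    rw [h, hset, Finset.sum_congr rfl hval, Finset.sum_const, ← Fintype.card_subtype, ← Nat.card_eq_fintype_card,
      card_compls h1 h2, hH A hA hcfA, hT, hcfU, hcfA, Multiset.singleton_add, phi_cons, nsmul_eq_mul]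
    push_cast
    ring

end Semisimple

end Cfsg.Agent.H57.LatticeMu
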