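import Cfsg.Agent.H57.ReflProd
import Cfsg.Agent.Orthogonal.StdForms

/-!
The involution negating some hyperbolic pairs: when it lies in `Ω`.
-/

set_option autoImplicit false

namespace Cfsg.Agent.H57

open Cfsg.Agent.Orthogonal QuadraticMap

variable {F : Type*} {ι : Type} [Field F] [Fintype ι] [DecidableEq ι]

theorem isSquare_neg_one_pow_iff_mod [Fintype F] {q : ℕ} (hF : Fintype.card F = q) (hq : Odd q)
    (i : ℕ) : IsSquare ((-1 : F) ^ i) ↔ q ^ i % 4 = 1 := by
  obtain ⟨k, rfl⟩ := hq
  rcases Nat.even_or_odd i with ⟨l, rfl⟩ | ⟨l, rfl⟩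
  · refine iff_of_true ⟨(-1) ^ l, by rw [← pow_add]⟩ ?_
    rw [← two_mul, pow_mul, Nat.pow_mod]
    have : (2 * k + 1) ^ 2 % 4 = 1 := by ring_nf; omega
    rw [this, one_pow]
    all_goals norm_num
  · rw [Odd.neg_one_pow ⟨l, rfl⟩, FiniteField.isSquare_neg_one_iff, hF, pow_succ, pow_mul,
      Nat.mul_mod, Nat.pow_mod]
    have : (2 * k + 1) ^ 2 % 4 = 1 := by ring_nf; omega
    rw [this, one_pow]
    omega

/-- An involution negating `i` orthogonal hyperbolic pairs of coordinate vectors. -/
theorem pairs_involution_mem_omega_iff [Finite F] {Q : QuadraticForm F (ι → F)} (hQ : Nondeg Q)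
    (h2 : (2 : F) ≠ 0) {i : ℕ} (s t : Fin i → ι) (hs : Function.Injective s)
    (ht : Function.Injective t) (hst : ∀ a b, s a ≠ t b)
    (hQs : ∀ a, Q (Pi.single (s a) 1) = 0) (hQt : ∀ a, Q (Pi.single (t a) 1) = 0)
    (hps : ∀ a k, polar Q (Pi.single (s a) 1) (Pi.single k 1) = if k = t a then 1 else 0)
    (hpt : ∀ a k, polar Q (Pi.single (t a) 1) (Pi.single k 1) = if k = s a then 1 else 0)
    (δ : ι → F) (hδ1 : ∀ a, δ (s a) = -1) (hδ2 : ∀ a, δ (t a) = -1)
    (hδ3 : ∀ k, (∀ a, k ≠ s a ∧ k ≠ t a) → δ k = 1) :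
    (∃ g : Cfsg.isometryGroup F (⇑Q), g ∈ Cfsg.Omega F (⇑Q) ∧
      ((g : Matrix.GeneralLinearGroup ι F) : Matrix ι ι F) = Matrix.diagonal δ) ↔
      IsSquare ((-1 : F) ^ i) := by
  classical
  let u : Fin i → (ι → F) := fun a => Pi.single (s a) 1 + Pi.single (t a) 1
  let w : Fin i → (ι → F) := fun a => Pi.single (s a) 1 - Pi.single (t a) 1
  have hpst : ∀ a, polar Q (Pi.single (s a) 1) (Pi.single (t a) 1) = 1 := fun a => by
    rw [hps, if_pos rfl]
  have hu : ∀ a, Q (u a) = 1 := fun a => by
    simp only [u]; rw [map_add_polar, hQs, hQt, hpst]; ring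
  have hw : ∀ a, Q (w a) = -1 := fun a => by
    simp only [w]; rw [qmap_sub, hQs, hQt, hpst]; ring
  have pair : ∀ a x, ((rO Q (u a) * rO Q (w a) : O Q) : (ι → F) ≃ₗ[F] (ι → F)) x =
      x - (2 * polar Q (Pi.single (t a) 1) x) • Pi.single (s a) 1
        - (2 * polar Q (Pi.single (s a) 1) x) • Pi.single (t a) 1 := by
    intro a x
    rw [Subgroup.coe_mul, mul_app, rO_app Q (w a) x, rO_app, hu, hw]
    have h0 : polar Q (u a) (w a) = 0 := by
      simp only [u, w]
      rw [polar_sub_right, QuadraticMap.polar_add_left, QuadraticMap.polar_add_left, polar_self',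
        polar_self', hQs, hQt, hpst, QuadraticMap.polar_comm, hpst]
      ring
    rw [polar_sub_right, polar_smul_right', h0, mul_zero, sub_zero]
    simp only [u, w, sub_eq_add_neg, QuadraticMap.polar_add_left, QuadraticMap.polar_neg_left,
      inv_one, inv_neg, smul_add, smul_neg]
    ext k
    simp only [Pi.add_apply, Pi.neg_apply, Pi.smul_apply, smul_eq_mul]
    ring
  let mk : List (Fin i) → List (ι → F) := fun l => l.flatMap fun a => [u a, w a]
  have key : ∀ l : List (Fin i), l.Nodup → ∀ k,
      ((((mk l).map (rO Q)).prod : O Q) : (ι → F) ≃ₗ[F] (ι → F)) (Pi.single k 1) =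
        (if ∃ a ∈ l, k = s a ∨ k = t a then (-1 : F) else 1) • Pi.single k 1 := by
    intro l hl
    induction l with
    | nil => intro k; simp [mk]
    | cons a r ih =>
      intro k
      rw [List.nodup_cons] at hl
      have e : (((mk (a :: r)).map (rO Q)).prod : O Q) =
          (rO Q (u a) * rO Q (w a)) * ((mk r).map (rO Q)).prod := by
        simp [mk, mul_assoc]
      rw [e, Subgroup.coe_mul, mul_app, ih hl.2 k, LinearEquiv.map_smul, pair, hps, hpt]
      by_cases hka : k = s a ∨ k = t a
      · have hn : ¬ ∃ b ∈ r, k = s b ∨ k = t b := by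
          rintro ⟨b, hb, hkb⟩
          have hab : b = a := by
            rcases hka with h | h <;> rcases hkb with h' | h'
            · exact hs (h'.symm.trans h)
            · exact absurd (h.symm.trans h') (hst a b)
            · exact absurd (h'.symm.trans h) (hst b a)
            · exact ht (h'.symm.trans h)
          exact hl.1 (hab ▸ hb)
        rw [if_neg hn, one_smul, if_pos (c := ∃ b ∈ a :: r, k = s b ∨ k = t b) ⟨a, by simp, hka⟩]
        rcases hka with h | h
        · subst h
          rw [if_pos rfl, if_neg (hst a a)]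
          module
        · subst h
          rw [if_pos rfl, if_neg (fun h => hst a a h.symm)]
          module
      · push Not at hka
        rw [if_neg hka.1, if_neg hka.2]
        simp only [mul_zero, zero_smul, sub_zero]
        congr 1
        refine if_congr ?_ rfl rfl
        simp only [List.mem_cons, exists_eq_or_imp, hka, or_self, false_or]
  have hvs : ∀ v ∈ mk (List.finRange i), Q v ≠ 0 := by
    intro v hv
    simp only [mk, List.mem_flatMap, List.mem_cons, List.not_mem_nil, or_false] at hv
    obtain ⟨a, -, rfl | rfl⟩ := hv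
    · rw [hu]; exact one_ne_zero
    · rw [hw]; exact neg_ne_zero.2 one_ne_zero
  have hlen : ∀ l : List (Fin i), (mk l).length = 2 * l.length ∧
      ((mk l).map fun v => Q v).prod = (-1) ^ l.length := by
    intro l
    induction l with
    | nil => simp [mk]
    | cons a r ih =>
      simp only [mk, List.flatMap_cons, List.cons_append, List.nil_append, List.map_cons,
        List.prod_cons, List.length_cons] at ih ⊢
      rw [ih.1, ih.2, hu, hw, pow_succ]
      constructor
      · ring
      · ring
  have hM : Matrix.diagonal δ =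
      ((mk (List.finRange i)).map fun v => Cfsg.reflectionMatrix (⇑Q) v).prod := by
    apply (Matrix.toLin' (R := F)).injective
    refine (Pi.basisFun F ι).ext fun k => ?_
    rw [Matrix.toLin'_apply, Matrix.toLin'_apply, Pi.basisFun_apply, mulVec_refl_prod,
      key _ (List.nodup_finRange i), Matrix.diagonal_mulVec_single]
    rw [← Pi.single_smul', smul_eq_mul]
    congr 2
    split_ifs with h
    · obtain ⟨a, -, rfl | rfl⟩ := h
      · exact hδ1 a
      · exact hδ2 a
    · push Not at h
      exact hδ3 k fun a => h a (List.mem_finRange a)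
  rw [exists_mem_omega_prod_iff hQ h2 _ _ hvs hM, (hlen _).1, (hlen _).2, List.length_finRange]
  exact ⟨fun h => h.2, fun h => ⟨even_two_mul i, h⟩⟩

end Cfsg.Agent.H57
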