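import Cfsg.Agent.H57.ParkerTheta

/-!
The standard automorphisms of Parker's loop above M23, as an extension by the dual of the code words
avoiding the extra point.
-/

set_option autoImplicit false

namespace Cfsg.Agent.H57.Parker

open Cfsg Cfsg.Agent.Golay
open scoped Pointwise

/-- The code words avoiding the extra point, as masks. -/
abbrev A : Type := {m : ℕ // m ∈ span11}

instance : Finite A := span11.finite_toSet.to_subtype

/-- The sum of two words. -/
def ax (x y : A) : A := ⟨x.1 ^^^ y.1, xor_mem_spanList _ x.2 y.2⟩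

/-- The zero word. -/
def a0 : A := ⟨0, zero_mem_spanList _⟩

theorem ax_val (x y : A) : (ax x y).1 = x.1 ^^^ y.1 := rfl

theorem act_mem (σ : Spor.M23) (x : A) : tblImg (tblOf σ.1) x.1 ∈ span11 := by
  have hv := validT_tblOf σ.1
  rw [mem_span11_iff]
  constructor
  · rw [← ptSet_mem_supports_iff (tblImg_lt hv _), ptSet_tblImg_tblOf]
    exact smul_mem_supports σ.2.1
      ((ptSet_mem_supports_iff (codeList_lt (span11_mem_codeList x.2))).2
        (span11_mem_codeList x.2))
  · by_contra hb
    rw [Bool.not_eq_false] at hb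
    have h : (none : GolayPt) ∈ ptSet (tblImg (tblOf σ.1) x.1) := by rw [mem_ptSet]; exact hb
    rw [ptSet_tblImg_tblOf] at h
    obtain ⟨p, hp, hpn⟩ := Finset.mem_smul_finset.1 h
    have : p = none := by
      have hfix : σ.1 (none : GolayPt) = none := σ.2.2
      exact σ.1.injective (hpn.trans hfix.symm)
    subst this
    rw [mem_ptSet] at hp
    rw [show idx (none : GolayPt) = 23 from rfl, Nat.testBit_lt_two_pow (span11_lt x.2)] at hp
    · simp at hp

/-- The action on words. -/
def act (σ : Spor.M23) (x : A) : A := ⟨tblImg (tblOf σ.1) x.1, act_mem σ x⟩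

theorem lt_full (x : A) : x.1 < 2 ^ 24 :=
  lt_of_lt_of_le (span11_lt x.2) (Nat.pow_le_pow_right (by norm_num) (by norm_num))

theorem ptSet_act (σ : Spor.M23) (x : A) : ptSet (act σ x).1 = σ.1 • ptSet x.1 :=
  ptSet_tblImg_tblOf _ _

theorem ext_pt {x y : A} (h : ptSet x.1 = ptSet y.1) : x = y :=
  Subtype.ext (ptSet_injOn (lt_full x) (lt_full y) h)

theorem act_one (x : A) : act 1 x = x := ext_pt (by rw [ptSet_act]; exact one_smul _ _)

theorem act_mul (σ τ : Spor.M23) (x : A) : act (σ * τ) x = act σ (act τ x) :=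
  ext_pt (by rw [ptSet_act, ptSet_act, ptSet_act, Subgroup.coe_mul, mul_smul])

theorem act_ax (σ : Spor.M23) (x y : A) : act σ (ax x y) = ax (act σ x) (act σ y) :=
  ext_pt (by
    rw [ptSet_act, ax_val, ax_val, ptSet_xor, ptSet_xor, ptSet_act, ptSet_act,
      Finset.smul_finset_symmDiff])

theorem act_inv_act (σ : Spor.M23) (x : A) : act σ⁻¹ (act σ x) = x := by
  rw [← act_mul, inv_mul_cancel, act_one]

theorem act_act_inv (σ : Spor.M23) (x : A) : act σ (act σ⁻¹ x) = x := by
  rw [← act_mul, mul_inv_cancel, act_one]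

theorem popCnt_act₂ (σ : Spor.M23) (x y : A) :
    popCnt ((act σ x).1 &&& (act σ y).1) = popCnt (x.1 &&& y.1) := by
  rw [← card_ptSet, ← card_ptSet, ptSet_and, ptSet_and, ptSet_act, ptSet_act,
    ← Finset.smul_finset_inter, Finset.card_smul_finset]

theorem popCnt_act₃ (σ : Spor.M23) (x y z : A) :
    popCnt ((act σ x).1 &&& (act σ y).1 &&& (act σ z).1) = popCnt (x.1 &&& y.1 &&& z.1) := by
  rw [← card_ptSet, ← card_ptSet, ptSet_and, ptSet_and, ptSet_and, ptSet_and, ptSet_act, ptSet_act,
    ptSet_act, ← Finset.smul_finset_inter, ← Finset.smul_finset_inter, Finset.card_smul_finset]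

theorem popCnt_act (σ : Spor.M23) (x : A) : popCnt (act σ x).1 = popCnt x.1 := by
  rw [← card_ptSet, ← card_ptSet, ptSet_act, Finset.card_smul_finset]

/-- The change of the cocycle under a permutation. -/
def D (σ : Spor.M23) (x y : A) : ZMod 2 := th (act σ x).1 (act σ y).1 + th x.1 y.1

theorem D_cocycle (σ : Spor.M23) (x y z : A) :
    D σ y z + D σ (ax x y) z + D σ x (ax y z) + D σ x y = 0 := by
  have h1 := th_cocycle (act σ x).2 (act σ y).2 (act σ z).2
  have h2 := th_cocycle x.2 y.2 z.2
  rw [par, popCnt_act₃, ← par] at h1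
  simp only [D, act_ax, ax_val]
  linear_combination h1 + h2 + add_self_zmod2 (par (x.1 &&& y.1 &&& z.1))

theorem D_symm (σ : Spor.M23) (x y : A) : D σ x y = D σ y x := by
  have h1 := th_comm (act σ x).2 (act σ y).2
  have h2 := th_comm x.2 y.2
  rw [hh, popCnt_act₂, ← hh] at h1
  simp only [D]
  linear_combination h1 + h2 - add_self_zmod2 (th (act σ y).1 (act σ x).1)
    - add_self_zmod2 (th y.1 x.1) + add_self_zmod2 (hh x.1 y.1)

theorem D_self (σ : Spor.M23) (x : A) : D σ x x = 0 := by
  rw [D, th_self (act σ x).2, th_self x.2, qq, popCnt_act, ← qq]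
  exact add_self_zmod2 _

theorem D_zero_left (σ : Spor.M23) (x : A) : D σ a0 x = 0 := by
  have h : (act σ a0).1 = 0 := by
    have : act σ a0 = a0 := ext_pt (by
      rw [ptSet_act]; show σ.1 • ptSet 0 = ptSet 0
      rw [ptSet_zero, Finset.smul_finset_empty])
    rw [this]; rfl
  rw [D, h, th_zero_left]
  show 0 + th 0 x.1 = 0
  rw [th_zero_left, add_zero]

/-- The defining condition of a lift. -/
def IsLift (σ : Spor.M23) (f : A → ZMod 2) : Prop :=
  ∀ x y, f (ax x y) = f x + f y + D σ x y

theorem isLift_one : IsLift 1 (0 : A → ZMod 2) := fun x y => by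
  simp only [D, act_one, Pi.zero_apply, add_zero, zero_add]
  exact (add_self_zmod2 _).symm

theorem IsLift.mul {σ τ : Spor.M23} {f g : A → ZMod 2} (hf : IsLift σ f) (hg : IsLift τ g) :
    IsLift (σ * τ) (fun x => f (act τ x) + g x) := fun x y => by
  dsimp only
  rw [act_ax, hf, hg]
  simp only [D, act_mul]
  linear_combination add_self_zmod2 (th (act τ x).1 (act τ y).1)

theorem IsLift.inv {σ : Spor.M23} {f : A → ZMod 2} (hf : IsLift σ f) :
    IsLift σ⁻¹ (fun x => f (act σ⁻¹ x)) := fun x y => by
  dsimp only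
  rw [act_ax, hf]
  simp only [D, act_act_inv]
  ring

theorem exists_lift_aux (σ : Spor.M23) : ∀ L : List ℕ, (∀ b ∈ L, b ∈ span11) →
    ∃ f : A → ZMod 2, ∀ x y : A, x.1 ∈ spanList L → y.1 ∈ spanList L →
      f (ax x y) = f x + f y + D σ x y
  | [], _ => ⟨0, fun x y hx hy => by
      simp only [spanList, List.mem_singleton] at hx hy
      have ex : x = a0 := Subtype.ext hx
      rw [ex, D_zero_left]
      simp⟩
  | b :: t, hL => by
    obtain ⟨f, hf⟩ := exists_lift_aux σ t fun c hc => hL c (List.mem_cons_of_mem _ hc)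
    let bb : A := ⟨b, hL b (by simp)⟩
    by_cases hb : b ∈ spanList t
    · refine ⟨f, fun x y hx hy => hf x y ?_ ?_⟩
      · simp only [spanList, List.mem_append, List.mem_map] at hx
        rcases hx with hx | ⟨w, hw, hx⟩
        · exact hx
        · rw [← hx]; exact xor_mem_spanList t hb hw
      · simp only [spanList, List.mem_append, List.mem_map] at hy
        rcases hy with hy | ⟨w, hw, hy⟩
        · exact hy
        · rw [← hy]; exact xor_mem_spanList t hb hw
    let f' : A → ZMod 2 := fun z =>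
      if z.1 ∈ spanList t then f z else f (ax bb z) + D σ (ax bb z) bb
    refine ⟨f', ?_⟩
    have cancel : ∀ u v : A, ax u (ax u v) = v := fun u v => Subtype.ext (by
      simp [ax_val, ← Nat.xor_assoc])
    have hout : ∀ w : A, w.1 ∈ spanList t → (ax bb w).1 ∉ spanList t := fun w hw h => by
      apply hb
      have := xor_mem_spanList t h hw
      rwa [ax_val, Nat.xor_assoc, Nat.xor_self, Nat.xor_zero] at this
    have split : ∀ z : A, z.1 ∈ spanList (b :: t) →
        z.1 ∈ spanList t ∨ ∃ w : A, w.1 ∈ spanList t ∧ z = ax bb w := by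
      intro z hz
      simp only [spanList, List.mem_append, List.mem_map] at hz
      rcases hz with hz | ⟨w, hw, hz⟩
      · exact Or.inl hz
      · refine Or.inr ⟨ax bb z, ?_, (cancel bb z).symm⟩
        rw [ax_val, ← hz, ← Nat.xor_assoc, Nat.xor_self, Nat.zero_xor]
        exact hw
    have f0 : ∀ w : A, w.1 ∈ spanList t → f' w = f w := fun w hw => if_pos hw
    have f1 : ∀ w : A, w.1 ∈ spanList t → f' (ax bb w) = f w + D σ w bb := fun w hw => by
      simp only [f', if_neg (hout w hw), cancel]
    have key01 : ∀ w v : A, w.1 ∈ spanList t → v.1 ∈ spanList t →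
        f' (ax (ax bb w) v) = f' (ax bb w) + f' v + D σ (ax bb w) v := by
      intro w v hw hv
      have e : ax (ax bb w) v = ax bb (ax w v) := Subtype.ext (by simp [ax_val, Nat.xor_assoc])
      rw [e, f1 (ax w v) (xor_mem_spanList t hw hv), hf w v hw hv, f1 w hw, f0 v hv]
      have e2 : D σ w v + D σ (ax w v) bb = D σ w bb + D σ (ax bb w) v := by
        have c := D_cocycle σ bb w v
        rw [D_symm σ bb (ax w v), D_symm σ bb w] at c
        linear_combination c - add_self_zmod2 (D σ (ax bb w) v) - add_self_zmod2 (D σ w bb)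
      linear_combination e2
    have key11 : ∀ w v : A, w.1 ∈ spanList t → v.1 ∈ spanList t →
        f' (ax (ax bb w) (ax bb v)) = f' (ax bb w) + f' (ax bb v) + D σ (ax bb w) (ax bb v) := by
      intro w v hw hv
      have e : ax (ax bb w) (ax bb v) = ax w v := Subtype.ext (by
        simp only [ax_val]
        rw [Nat.xor_assoc, Nat.xor_comm w.1, Nat.xor_assoc bb.1 v.1 w.1, ← Nat.xor_assoc bb.1 bb.1,
          Nat.xor_self, Nat.zero_xor, Nat.xor_comm])
      rw [e, f0 _ (xor_mem_spanList t hw hv), hf w v hw hv, f1 w hw, f1 v hv]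
      have c1 := D_cocycle σ w bb (ax bb v)
      have c2 := D_cocycle σ bb bb v
      have e3 : ax w bb = ax bb w := Subtype.ext (Nat.xor_comm _ _)
      have e4 : ax bb bb = a0 := Subtype.ext (Nat.xor_self _)
      rw [cancel, e3] at c1
      rw [e4, D_zero_left, D_self, D_symm σ bb v] at c2
      linear_combination c1 - c2 - add_self_zmod2 (D σ (ax bb w) (ax bb v))
        - add_self_zmod2 (D σ w bb)
    intro x y hx hy
    rcases split x hx with hx' | ⟨w, hw, rfl⟩ <;> rcases split y hy with hy' | ⟨v, hv, rfl⟩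
    · rw [f0 _ (xor_mem_spanList t hx' hy'), f0 _ hx', f0 _ hy']
      exact hf x y hx' hy'
    · have e : ax x (ax bb v) = ax (ax bb v) x := Subtype.ext (Nat.xor_comm _ _)
      rw [e, key01 v x hv hx', D_symm σ x]
      ring
    · exact key01 w y hw hy'
    · exact key11 w v hw hv

theorem exists_lift (σ : Spor.M23) : ∃ f, IsLift σ f := by
  obtain ⟨f, hf⟩ := exists_lift_aux σ basis11.reverse fun b hb => mem_spanList_of_mem _ hb
  exact ⟨f, fun x y => hf x y x.2 y.2⟩

/-- A permutation together with a lift. -/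
@[ext] structure Ext where
  perm : Spor.M23
  fn : A → ZMod 2
  cond : IsLift perm fn

instance : Finite Ext :=
  Finite.of_injective (fun e => (e.perm, e.fn)) fun a b h => by
    simp only [Prod.mk.injEq] at h
    exact Ext.ext h.1 h.2

instance : Mul Ext := ⟨fun a b => ⟨a.perm * b.perm, _, a.cond.mul b.cond⟩⟩
instance : One Ext := ⟨⟨1, 0, isLift_one⟩⟩
instance : Inv Ext := ⟨fun a => ⟨a.perm⁻¹, _, a.cond.inv⟩⟩

theorem mul_fn (a b : Ext) (x : A) : (a * b).fn x = a.fn (act b.perm x) + b.fn x := rfl
theorem mul_perm (a b : Ext) : (a * b).perm = a.perm * b.perm := rfl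
theorem one_fn (x : A) : (1 : Ext).fn x = 0 := rfl
theorem one_perm : (1 : Ext).perm = 1 := rfl
theorem inv_fn (a : Ext) (x : A) : a⁻¹.fn x = a.fn (act a.perm⁻¹ x) := rfl
theorem inv_perm (a : Ext) : a⁻¹.perm = a.perm⁻¹ := rfl

instance : Group Ext where
  mul_assoc a b c := by
    refine Ext.ext (mul_assoc _ _ _) (funext fun x => ?_)
    simp only [mul_fn, mul_perm, act_mul, add_assoc]
  one_mul a := by
    refine Ext.ext (one_mul _) (funext fun x => ?_)
    simp [mul_fn, one_fn]
  mul_one a := by
    refine Ext.ext (mul_one _) (funext fun x => ?_)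
    simp [mul_fn, one_fn, one_perm, act_one]
  inv_mul_cancel a := by
    refine Ext.ext (inv_mul_cancel _) (funext fun x => ?_)
    simp only [mul_fn, inv_fn, act_inv_act, one_fn]
    exact add_self_zmod2 _

/-- The projection to M23. -/
def proj : Ext →* Spor.M23 where
  toFun := Ext.perm
  map_one' := rfl
  map_mul' _ _ := rfl

theorem proj_surjective : Function.Surjective proj := fun σ => by
  obtain ⟨f, hf⟩ := exists_lift σ
  exact ⟨⟨σ, f, hf⟩, rfl⟩

end Cfsg.Agent.H57.Parker
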