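import Cfsg.Agent.H57.ParkerExt

/-!
The kernel of the projection is the quotient of the binary words by the code and the extra point.
-/

set_option autoImplicit false

namespace Cfsg.Agent.H57.Parker

open Cfsg Cfsg.Agent.Golay
open scoped Pointwise

theorem maskWord_xor (a b : ℕ) : maskWord (a ^^^ b) = maskWord a + maskWord b := by
  funext p
  simp only [maskWord, Pi.add_apply, Nat.testBit_xor]
  cases a.testBit (idx p) <;> cases b.testBit (idx p) <;> decide

/-- Evaluation of a binary word on the code words avoiding the extra point. -/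
def dotF (w : GolayPt → ZMod 2) (x : A) : ZMod 2 := ∑ p, w p * maskWord x.1 p

theorem isLift_one_iff {f : A → ZMod 2} : IsLift 1 f ↔ ∀ x y, f (ax x y) = f x + f y := by
  simp only [IsLift, D, act_one, add_self_zmod2, add_zero]

theorem dotF_lift (w : GolayPt → ZMod 2) : IsLift 1 (dotF w) := by
  refine isLift_one_iff.2 fun x y => ?_
  simp only [dotF, ax_val, maskWord_xor, Pi.add_apply, mul_add, Finset.sum_add_distrib]

theorem dotF_add (v w : GolayPt → ZMod 2) (x : A) : dotF (v + w) x = dotF v x + dotF w x := by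
  simp only [dotF, Pi.add_apply, add_mul, Finset.sum_add_distrib]

theorem dotF_zero (x : A) : dotF 0 x = 0 := by simp [dotF]

/-- The map from binary words to the kernel. -/
def theta : (GolayPt → ZMod 2) →+ Additive ↥proj.ker where
  toFun w := Additive.ofMul ⟨⟨1, dotF w, dotF_lift w⟩, MonoidHom.mem_ker.2 rfl⟩
  map_zero' := congrArg Additive.ofMul
    (Subtype.ext (Ext.ext rfl (funext fun x => dotF_zero x)))
  map_add' v w := congrArg Additive.ofMul (Subtype.ext (Ext.ext (one_mul (1 : Spor.M23)).symm
    (funext fun x => by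
      show dotF (v + w) x = dotF v (act 1 x) + dotF w x
      rw [act_one, dotF_add])))

theorem theta_val (w : GolayPt → ZMod 2) :
    ((theta w).toMul : Ext) = ⟨1, dotF w, dotF_lift w⟩ := rfl

theorem testBit_wordMask (w : GolayPt → ZMod 2) :
    (wordMask w).testBit 23 = decide (w none ≠ 0) := by
  rw [wordMask, testBit_maskOf]
  simp [pt, support₂]

theorem wordMask_mem_span11 {w : GolayPt → ZMod 2} :
    wordMask w ∈ span11 ↔ w ∈ golayCode ∧ w none = 0 := by
  rw [mem_span11_iff, ← mem_golayCode_iff, testBit_wordMask]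
  simp

theorem maskWord_none (x : A) : maskWord x.1 none = 0 := by
  rw [maskWord, show idx (none : GolayPt) = 23 from rfl, Nat.testBit_lt_two_pow (span11_lt x.2)]
  rfl

theorem theta_surjective : Function.Surjective theta := by
  intro n
  let W : Submodule (ZMod 2) (GolayPt → ZMod 2) :=
    golayCode ⊓ LinearMap.ker (LinearMap.proj (none : GolayPt))
  have hW : ∀ v : W, wordMask v.1 ∈ span11 := fun v => wordMask_mem_span11.2 ⟨v.2.1, v.2.2⟩
  obtain ⟨⟨⟨σ, f, hf⟩, hσ⟩, rfl⟩ : ∃ m, Additive.ofMul m = n := ⟨n.toMul, rfl⟩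
  have hσ1 : σ = 1 := hσ
  subst hσ1
  have hlin := isLift_one_iff.1 hf
  let g : W →+ ZMod 2 := AddMonoidHom.mk' (fun v => f ⟨wordMask v.1, hW v⟩) fun u v => by
    rw [← hlin]
    congr 1
    exact Subtype.ext (wordMask_add _ _)
  obtain ⟨G, hG⟩ := LinearMap.exists_extend (g.toZModLinearMap 2)
  refine ⟨fun p => G (Pi.single p 1), congrArg Additive.ofMul (Subtype.ext (Ext.ext rfl
    (funext fun x => ?_)))⟩
  have hx : maskWord x.1 ∈ W := ⟨mem_golayCode_iff.2 (by
    rw [wordMask_maskWord (lt_full x)]; exact span11_mem_codeList x.2), maskWord_none x⟩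
  have h1 : G (maskWord x.1) = f x := by
    have := LinearMap.congr_fun hG ⟨_, hx⟩
    refine this.trans ?_
    show f ⟨wordMask (maskWord x.1), _⟩ = f x
    congr 1
    exact Subtype.ext (wordMask_maskWord (lt_full x))
  show dotF (fun p => G (Pi.single p 1)) x = f x
  rw [← h1, dotF, pi_eq_sum_univ' (maskWord x.1), map_sum]
  simp only [map_smul, smul_eq_mul]
  rw [← pi_eq_sum_univ' (maskWord x.1)]
  refine Finset.sum_congr rfl fun p _ => ?_
  rw [mul_comm]

/-- The pairing with a subspace. -/
def dotL {ι : Type} [Fintype ι] (S : Submodule (ZMod 2) (ι → ZMod 2)) :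
    (ι → ZMod 2) →ₗ[ZMod 2] Module.Dual (ZMod 2) S :=
  LinearMap.mk₂ (ZMod 2) (fun (v : ι → ZMod 2) (c : S) => ∑ p, v p * c.1 p)
    (fun a b c => by simp only [Pi.add_apply, add_mul, Finset.sum_add_distrib])
    (fun r a c => by simp only [Pi.smul_apply, smul_eq_mul, mul_assoc, ← Finset.mul_sum])
    (fun a b c => by
      simp only [Submodule.coe_add, Pi.add_apply, mul_add, Finset.sum_add_distrib])
    (fun r a c => by
      simp only [SetLike.val_smul, Pi.smul_apply, smul_eq_mul, Finset.mul_sum]
      exact Finset.sum_congr rfl fun _ _ => by ring)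

/-- The orthogonal of the code is the code. -/
theorem mem_golayCode_of_orth {w : GolayPt → ZMod 2}
    (h : ∀ c ∈ golayCode, ∑ p, w p * c p = 0) : w ∈ golayCode := by
  let Φ := dotL (golayCode : Submodule (ZMod 2) (GolayPt → ZMod 2))
  have hsurj : LinearMap.range Φ = ⊤ := by
    rw [LinearMap.range_eq_top]
    intro l
    obtain ⟨G, hG⟩ := LinearMap.exists_extend l
    refine ⟨fun p => G (Pi.single p 1), LinearMap.ext fun c => ?_⟩
    have h1 : G c.1 = l c := LinearMap.congr_fun hG c
    show ∑ p, G (Pi.single p 1) * c.1 p = l c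
    rw [← h1, pi_eq_sum_univ' c.1, map_sum]
    simp only [map_smul, smul_eq_mul]
    rw [← pi_eq_sum_univ' c.1]
    exact Finset.sum_congr rfl fun p _ => mul_comm _ _
  have hle : (golayCode : Submodule (ZMod 2) (GolayPt → ZMod 2)) ≤ LinearMap.ker Φ := fun v hv =>
    LinearMap.mem_ker.2 (LinearMap.ext fun c => dot_eq_zero hv c.2)
  have heq : (golayCode : Submodule (ZMod 2) (GolayPt → ZMod 2)) = LinearMap.ker Φ := by
    refine Submodule.eq_of_le_of_finrank_le hle ?_
    have := LinearMap.finrank_range_add_finrank_ker Φ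
    rw [hsurj, finrank_top, Subspace.dual_finrank_eq, finrank_golayCode,
      Module.finrank_fintype_fun_eq_card, show Fintype.card GolayPt = 24 from rfl] at this
    rw [finrank_golayCode]
    omega
  rw [heq]
  exact LinearMap.mem_ker.2 (LinearMap.ext fun c => h c.1 c.2)

theorem maskWord_last : maskWord 8391797 (none : GolayPt) = 1 := by decide +kernel

theorem theta_eq_zero_iff (w : GolayPt → ZMod 2) :
    theta w = 0 ↔ (w ∈ golayCode ∨ w + Pi.single none 1 ∈ golayCode) := by
  have h0 : theta w = 0 ↔ ∀ x, dotF w x = 0 := by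
    constructor
    · intro h x
      exact congrFun (congrArg (fun e : Ext => e.fn) (congrArg
        (fun n : Additive ↥proj.ker => ((n.toMul : proj.ker) : Ext)) h)) x
    · exact fun h => congrArg Additive.ofMul (Subtype.ext (Ext.ext rfl (funext h)))
  have hsingle : ∀ c : GolayPt → ZMod 2,
      ∑ p, (Pi.single none 1 : GolayPt → ZMod 2) p * c p = c none := fun c => by
    simp [Pi.single_apply]
  rw [h0]
  constructor
  · intro h
    let b : GolayPt → ZMod 2 := maskWord 8391797
    have hcases : ∀ c ∈ golayCode, ∃ x : A, c = maskWord x.1 ∨ c = b + maskWord x.1 := by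
      intro c hc
      have hm := mem_golayCode_iff.1 hc
      have e : codeList = span11 ++ span11.map (8391797 ^^^ ·) := rfl
      rw [e, List.mem_append] at hm
      rcases hm with hm | hm
      · exact ⟨⟨_, hm⟩, Or.inl (maskWord_wordMask c).symm⟩
      · obtain ⟨y, hy, hcy⟩ := List.mem_map.1 hm
        refine ⟨⟨y, hy⟩, Or.inr ?_⟩
        rw [← maskWord_wordMask c, ← hcy, maskWord_xor]
    by_cases hε : ∑ p, w p * b p = 0
    · refine Or.inl (mem_golayCode_of_orth fun c hc => ?_)
      obtain ⟨x, rfl | rfl⟩ := hcases c hc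
      · exact h x
      · simp only [Pi.add_apply, mul_add, Finset.sum_add_distrib, hε, zero_add]
        exact h x
    · refine Or.inr (mem_golayCode_of_orth fun c hc => ?_)
      have hε1 : ∑ p, w p * b p = 1 := by
        have : ∀ z : ZMod 2, z ≠ 0 → z = 1 := by decide
        exact this _ hε
      simp only [Pi.add_apply (f := w), add_mul, Finset.sum_add_distrib, hsingle]
      obtain ⟨x, rfl | rfl⟩ := hcases c hc
      · rw [maskWord_none, add_zero]; exact h x
      · simp only [Pi.add_apply, mul_add, Finset.sum_add_distrib, hε1, maskWord_none, add_zero]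
        rw [show ∑ p, w p * maskWord x.1 p = 0 from h x, show b none = 1 from maskWord_last]
        decide
  · intro h x
    have hx : maskWord x.1 ∈ golayCode := mem_golayCode_iff.2 (by
      rw [wordMask_maskWord (lt_full x)]; exact span11_mem_codeList x.2)
    rcases h with h | h
    · exact dot_eq_zero h hx
    · have h' := dot_eq_zero h hx
      simp only [Pi.add_apply, add_mul, Finset.sum_add_distrib, hsingle, maskWord_none,
        add_zero] at h'
      exact h'

theorem maskWord_act (τ : Spor.M23) (x : A) (p : GolayPt) :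
    maskWord (act τ x).1 p = maskWord x.1 ((τ.1)⁻¹ p) := by
  have h : (p ∈ ptSet (act τ x).1) ↔ ((τ.1)⁻¹ p ∈ ptSet x.1) := by
    rw [ptSet_act, mem_smul_finset_iff]
    rfl
  simp only [mem_ptSet] at h
  simp only [maskWord, h]

theorem theta_conj (g : Ext) (w : GolayPt → ZMod 2) :
    ((theta (w ∘ ⇑((g.perm : Equiv.Perm GolayPt)⁻¹))).toMul : Ext)
      = g * ((theta w).toMul : Ext) * g⁻¹ := by
  refine Ext.ext ?_ (funext fun x => ?_)
  · show (1 : Spor.M23) = g.perm * 1 * g.perm⁻¹
    simp
  · rw [theta_val, theta_val, mul_fn, mul_fn, inv_fn, inv_perm, act_one]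
    show dotF _ x = g.fn (act g.perm⁻¹ x) + dotF w (act g.perm⁻¹ x) + g.fn (act g.perm⁻¹ x)
    rw [add_comm (g.fn _) (dotF w _), add_assoc, add_self_zmod2, add_zero, dotF, dotF,
      ← Equiv.sum_comp (g.perm : Equiv.Perm GolayPt)]
    refine Finset.sum_congr rfl fun p _ => ?_
    rw [maskWord_act, Function.comp_apply, Subgroup.coe_inv, inv_inv]
    simp

end Cfsg.Agent.H57.Parker
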