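import Cfsg.Agent.H57.ParkerNormal

/-!
The extension does not split: a certificate on three involutions and four relations.
-/

set_option autoImplicit false

namespace Cfsg.Agent.H57.Parker

open Cfsg Cfsg.Agent.Golay
open scoped Pointwise

/-- Three involutions of M23. -/
def genTbl : Fin 3 → ℕ :=
  ![982224375927455642460544762919356462, 980112835665013853544297684838529712,
    984387005251417516535560427805313236]

/-- Four relations, each with a word to evaluate at. -/
def certList : List (List (Fin 3) × ℕ) :=
  [([1, 1], 599543),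
   ([0, 2, 0, 2, 0, 2, 0, 2], 5279),
   ([0, 1, 2, 1, 0, 1, 2, 1, 0, 1, 2, 1, 0, 1, 2, 1, 0, 1, 2, 1], 39257),
   ([0, 1, 2, 0, 2, 0, 1, 2, 0, 2, 0, 1, 2, 0, 2, 0, 1, 2, 0, 2], 18147)]

theorem genTbl_ok : ∀ i, inM24 (genTbl i) = true ∧ app (genTbl i) 23 = 23 := by decide +kernel

/-- The three involutions as elements of M23. -/
noncomputable def gen (i : Fin 3) : Spor.M23 :=
  ⟨mkPerm (genTbl i), mem_M24_of_inM24 (genTbl_ok i).1, by
    show mkPerm (genTbl i) none = none
    rw [mkPerm_apply (validT_of_inM24 (genTbl_ok i).1), show idx (none : GolayPt) = 23 from rfl,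
      (genTbl_ok i).2]
    rfl⟩

theorem act_gen (i : Fin 3) (x : A) : (act (gen i) x).1 = tblImg (genTbl i) x.1 := by
  have hv := validT_of_inM24 (genTbl_ok i).1
  refine ptSet_injOn (lt_full _) (tblImg_lt hv _) ?_
  rw [ptSet_act, ptSet_tblImg hv]
  rfl

/-- The table of a word. -/
def wordTbl : List (Fin 3) → ℕ
  | [] => idTbl
  | g :: t => tblMul (genTbl g) (wordTbl t)

theorem wordTbl_spec : ∀ w : List (Fin 3), validT (wordTbl w) = true ∧
    mkPerm (wordTbl w) = ((w.map gen).prod : Spor.M23)
  | [] => idTbl_spec
  | g :: t => by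
    obtain ⟨h1, h2⟩ := wordTbl_spec t
    obtain ⟨h3, h4⟩ := tblMul_spec (validT_of_inM24 (genTbl_ok g).1) h1
    refine ⟨h3, ?_⟩
    rw [wordTbl, h4, h2, List.map_cons, List.prod_cons]
    rfl

theorem prod_gen_eq_one {w : List (Fin 3)} (h : tblEq (wordTbl w) idTbl = true) :
    (w.map gen).prod = 1 := by
  obtain ⟨h1, h2⟩ := wordTbl_spec w
  apply Subtype.ext
  rw [← h2, mkPerm_eq_of_tblEq h1 idTbl_spec.1 h, idTbl_spec.2]
  rfl

/-- The image of a word under a product of generators. -/
def img : List (Fin 3) → ℕ → ℕ
  | [], a => a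
  | g :: t, a => tblImg (genTbl g) (img t a)

/-- The arguments at which the lifts are evaluated. -/
def trail : List (Fin 3) → ℕ → List (Fin 3 × ℕ)
  | [], _ => []
  | g :: t, a => (g, img t a) :: trail t a

/-- All arguments of the certificate. -/
def allTrails : List (Fin 3 × ℕ) := certList.flatMap fun p => trail p.1 p.2

/-- The arguments belonging to one generator. -/
def argsOf (i : Fin 3) : List ℕ := (allTrails.filter fun p => p.1 == i).map Prod.snd

/-- The correction collected along a list. -/
def foldD (T : ℕ) : ℕ → List ℕ → ZMod 2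
  | _, [] => 0
  | acc, x :: t => th (tblImg T acc) (tblImg T x) + th acc x + foldD T (acc ^^^ x) t

/-- Fast membership in `span11`. -/
def in11 (m : ℕ) : Bool := inCode m && !m.testBit 23

theorem cert_words : (certList.all fun p => tblEq (wordTbl p.1) idTbl && in11 p.2) = true := by
  decide +kernel

theorem cert_args : ∀ i, ((argsOf i).all in11 = true ∧ (argsOf i).foldl (· ^^^ ·) 0 = 0) := by
  decide +kernel

theorem cert_value : foldD (genTbl 0) 0 (argsOf 0) + foldD (genTbl 1) 0 (argsOf 1) +
    foldD (genTbl 2) 0 (argsOf 2) = 1 := by decide +kernel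

theorem of_in11 {m : ℕ} (h : in11 m = true) : m ∈ span11 := by
  rw [in11, Bool.and_eq_true, inCode_iff, Bool.not_eq_true'] at h
  exact mem_span11_iff.2 h

theorem no_complement (H : Subgroup Ext) (hH : H ⊓ proj.ker = ⊥) : H ⊔ proj.ker ≠ ⊤ := by
  intro htop
  have hlift : ∀ i, ∃ e ∈ H, proj e = gen i := by
    intro i
    obtain ⟨e₀, he₀⟩ := proj_surjective (gen i)
    have : e₀ ∈ H ⊔ proj.ker := by rw [htop]; trivial
    obtain ⟨h, hh, n, hn, rfl⟩ := Subgroup.mem_sup_of_normal_right.1 this
    exact ⟨h, hh, by rwa [map_mul, MonoidHom.mem_ker.1 hn, mul_one] at he₀⟩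
  choose e heH he using hlift
  let F : Fin 3 → ℕ → ZMod 2 := fun i n => if h : n ∈ span11 then (e i).fn ⟨n, h⟩ else 0
  have hF : ∀ i (x : A), F i x.1 = (e i).fn x := fun i x => by
    simp only [F, dif_pos x.2]
  have key : ∀ (w : List (Fin 3)) (x : A),
      (act (w.map gen).prod x).1 = img w x.1 ∧
        (w.map e).prod.fn x = ((trail w x.1).map fun p => F p.1 p.2).sum := by
    intro w
    induction w with
    | nil => intro x; exact ⟨by simp [act_one, img], by simp [trail, one_fn]⟩
    | cons g t ih =>
      intro x
      obtain ⟨h1, h2⟩ := ih x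
      have hp : (t.map e).prod.perm = (t.map gen).prod := by
        show proj (t.map e).prod = _
        rw [map_list_prod, List.map_map]
        congr 1
        exact List.map_congr_left fun i _ => he i
      refine ⟨?_, ?_⟩
      · rw [List.map_cons, List.prod_cons, act_mul, act_gen, h1]
        rfl
      · rw [List.map_cons, List.prod_cons, mul_fn, hp, trail, List.map_cons, List.sum_cons, ← h2,
          ← hF g, h1]
  have hzero : ((allTrails.map fun p => F p.1 p.2)).sum = 0 := by
    have : ∀ L : List (List (Fin 3) × ℕ), (∀ p ∈ L, (tblEq (wordTbl p.1) idTbl && in11 p.2) = true) →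
        ((L.flatMap fun p => trail p.1 p.2).map fun p => F p.1 p.2).sum = 0 := by
      intro L hL
      induction L with
      | nil => simp
      | cons p t ih =>
        have hp := hL p (by simp)
        rw [Bool.and_eq_true] at hp
        rw [List.flatMap_cons, List.map_append, List.sum_append,
          ih fun q hq => hL q (by simp [hq]), add_zero]
        have hmem := of_in11 hp.2
        rw [← (key p.1 ⟨p.2, hmem⟩).2]
        have h1 : (p.1.map e).prod ∈ H ⊓ proj.ker := by
          refine ⟨Subgroup.list_prod_mem _ fun z hz => ?_, ?_⟩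
          · obtain ⟨i, _, rfl⟩ := List.mem_map.1 hz; exact heH i
          · show proj (p.1.map e).prod = 1
            rw [map_list_prod, List.map_map,
              List.map_congr_left (f := ⇑proj ∘ e) (g := gen) fun i _ => he i, prod_gen_eq_one hp.1]
        rw [hH, Subgroup.mem_bot] at h1
        rw [h1, one_fn]
    exact this certList fun p hp => List.all_eq_true.1 cert_words p hp
  have hsplit : ∀ L : List (Fin 3 × ℕ), (L.map fun p => F p.1 p.2).sum =
      ∑ i, (((L.filter fun p => p.1 == i).map Prod.snd).map (F i)).sum := by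
    intro L
    induction L with
    | nil => simp
    | cons p t ih =>
      obtain ⟨j, n⟩ := p
      fin_cases j <;> simp [Fin.sum_univ_three, ih] <;> ring
  have hfold : ∀ i (L : List ℕ) (acc : A), L.all in11 = true →
      (e i).fn acc + (L.map (F i)).sum + foldD (genTbl i) acc.1 L =
        F i (L.foldl (· ^^^ ·) acc.1) := by
    intro i L
    induction L with
    | nil => intro acc _; simp [foldD, hF]
    | cons n t ih =>
      intro acc hall
      rw [List.all_cons, Bool.and_eq_true] at hall
      have hn := of_in11 hall.1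
      have h1 := ih (ax acc ⟨n, hn⟩) hall.2
      rw [(e i).cond, show (e i).perm = gen i from he i] at h1
      simp only [D, act_gen, ax_val, ← hF i ⟨n, hn⟩] at h1
      rw [List.map_cons, List.sum_cons, List.foldl_cons, foldD, ← h1]
      ring
  have h0 : ∀ i, (e i).fn a0 = 0 := fun i => by
    have := (e i).cond a0 a0
    rw [D_zero_left, add_zero, add_self_zmod2] at this
    rwa [show ax a0 a0 = a0 from rfl] at this
  have hi : ∀ i, ((argsOf i).map (F i)).sum = foldD (genTbl i) 0 (argsOf i) := fun i => by
    have h1 := hfold i (argsOf i) a0 (cert_args i).1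
    rw [show a0.1 = 0 from rfl, (cert_args i).2, h0 i, zero_add] at h1
    rw [show F i 0 = 0 from (hF i a0).trans (h0 i)] at h1
    linear_combination h1 - add_self_zmod2 (foldD (genTbl i) 0 (argsOf i))
  rw [hsplit, Fin.sum_univ_three] at hzero
  change ((argsOf 0).map (F 0)).sum + ((argsOf 1).map (F 1)).sum + ((argsOf 2).map (F 2)).sum = 0
    at hzero
  rw [hi, hi, hi, cert_value] at hzero
  exact one_ne_zero hzero

end Cfsg.Agent.H57.Parker
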