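import Cfsg.Agent.Golay.CodeFacts
import Cfsg.Agent.Golay.Mathieu

/-!
A cubic cocycle on the code words avoiding the extra point, with Parker's three identities.
-/

set_option autoImplicit false

namespace Cfsg.Agent.H57.Parker

open Cfsg Cfsg.Agent.Golay
open scoped Pointwise

/-- The first eleven basis masks: a basis of the words avoiding the extra point. -/
def basis11 : List ℕ :=
  [5279, 10558, 18147, 36294, 69395, 133817, 262637, 525274, 1050548, 2101096, 4196943]

/-- The masks of code words avoiding the extra point. -/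
def span11 : List ℕ := spanList basis11.reverse

theorem basis11_mem : ∀ b ∈ basis11, b ∈ basisList := by decide

theorem basis11_lt : ∀ b ∈ basis11, b < 2 ^ 23 := by decide

theorem span11_mem_codeList {m : ℕ} (hm : m ∈ span11) : m ∈ codeList := by
  refine spanList_induction (P := fun m => m ∈ codeList) _ (zero_mem_spanList _) ?_ ?_ m hm
  · intro b hb
    exact mem_spanList_of_mem _ (List.mem_reverse.2 (basis11_mem b (List.mem_reverse.1 hb)))
  · exact fun a b ha hb => xor_mem_spanList _ ha hb

theorem span11_lt {m : ℕ} (hm : m ∈ span11) : m < 2 ^ 23 := by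
  refine spanList_induction (P := fun m => m < 2 ^ 23) _ (by norm_num) ?_ ?_ m hm
  · intro b hb
    exact basis11_lt b (List.mem_reverse.1 hb)
  · exact fun a b ha hb => Nat.xor_lt_two_pow ha hb

theorem mem_span11_iff {m : ℕ} : m ∈ span11 ↔ m ∈ codeList ∧ m.testBit 23 = false := by
  constructor
  · exact fun h => ⟨span11_mem_codeList h, Nat.testBit_lt_two_pow (span11_lt h)⟩
  · rintro ⟨h, hb⟩
    have e : codeList = span11 ++ span11.map (8391797 ^^^ ·) := rfl
    rw [e, List.mem_append] at h
    rcases h with h | h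
    · exact h
    · obtain ⟨y, hy, rfl⟩ := List.mem_map.1 h
      rw [Nat.testBit_xor, Nat.testBit_lt_two_pow (span11_lt hy)] at hb
      simp at hb
      exact absurd hb (by decide)

/-- Parity. -/
def par (m : ℕ) : ZMod 2 := (popCnt m : ZMod 2)

/-- Half of the size of the meet, modulo 2. -/
def hh (a b : ℕ) : ZMod 2 := ((popCnt (a &&& b) / 2 : ℕ) : ZMod 2)

/-- A quarter of the weight, modulo 2. -/
def qq (a : ℕ) : ZMod 2 := ((popCnt a / 4 : ℕ) : ZMod 2)

/-- The `k`-th coordinate. -/
def crd (k : ℕ) (m : ℕ) : ZMod 2 := if m.testBit (12 + k) then 1 else 0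

/-- The `k`-th basis mask. -/
def bas (k : Fin 11) : ℕ := basis11.get (k.cast (by rfl))

/-- The bilinear correction. -/
def low (j i : Fin 11) : ZMod 2 :=
  if j < i then hh (bas j) (bas i) else if j = i then qq (bas i) else 0

/-- The value against one basis mask. -/
def thBas (a : ℕ) (i : Fin 11) : ZMod 2 := hh a (bas i) + ∑ j : Fin 11, crd j a * low j i

/-- Parker's cocycle. -/
def th (a c : ℕ) : ZMod 2 := ∑ i : Fin 11, crd i c * thBas a i

theorem bas_mem (k : Fin 11) : bas k ∈ span11 :=
  mem_spanList_of_mem _ (List.mem_reverse.2 (List.get_mem _ _))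

theorem exists_bas {b : ℕ} (hb : b ∈ basis11.reverse) : ∃ k, b = bas k := by
  obtain ⟨n, hn⟩ := List.get_of_mem (List.mem_reverse.1 hb)
  exact ⟨n.cast (by rfl), hn.symm⟩

theorem span11_induction {P : ℕ → Prop} (h0 : P 0) (hb : ∀ k, P (bas k))
    (hx : ∀ a ∈ span11, ∀ b ∈ span11, P a → P b → P (a ^^^ b)) : ∀ x ∈ span11, P x := by
  intro x hx'
  refine (spanList_induction (P := fun x => x ∈ span11 ∧ P x) _ ⟨zero_mem_spanList _, h0⟩
    ?_ ?_ x hx').2
  · intro b hbm
    obtain ⟨k, rfl⟩ := exists_bas hbm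
    exact ⟨bas_mem k, hb k⟩
  · exact fun a b ha hb' => ⟨xor_mem_spanList _ ha.1 hb'.1, hx a ha.1 b hb'.1 ha.2 hb'.2⟩

theorem crd_xor (k a b : ℕ) : crd k (a ^^^ b) = crd k a + crd k b := by
  unfold crd
  rw [Nat.testBit_xor]
  cases a.testBit (12 + k) <;> cases b.testBit (12 + k) <;> decide

theorem crd_bas : ∀ i k : Fin 11, crd i (bas k) = if i = k then 1 else 0 := by decide +kernel

theorem card_xor_and (a b c : ℕ) : popCnt ((a ^^^ b) &&& c) + 2 * popCnt (a &&& b &&& c) =
    popCnt (a &&& c) + popCnt (b &&& c) := by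
  rw [← card_ptSet, ← card_ptSet, ← card_ptSet, ← card_ptSet, ptSet_and, ptSet_xor, ptSet_and,
    ptSet_and, ptSet_and, ptSet_and]
  set A := ptSet a
  set B := ptSet b
  set C := ptSet c
  have h1 : symmDiff A B ∩ C = ((A ∩ C) ∪ (B ∩ C)) \ (A ∩ B ∩ C) := by
    ext p; simp [Finset.mem_symmDiff]; tauto
  have h2 : A ∩ B ∩ C = (A ∩ C) ∩ (B ∩ C) := by ext p; simp; try tauto
  rw [h1, h2, Finset.card_sdiff_of_subset
    (Finset.inter_subset_left.trans Finset.subset_union_left)]
  have h3 := Finset.card_union_add_card_inter (A ∩ C) (B ∩ C)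
  have h4 := Finset.card_le_card
    ((Finset.inter_subset_left (s₁ := A ∩ C) (s₂ := B ∩ C)).trans
      (Finset.subset_union_left (s₂ := B ∩ C)))
  omega

theorem par_xor_and (a b c : ℕ) : par ((a ^^^ b) &&& c) = par (a &&& c) + par (b &&& c) := by
  unfold par
  rw [← Nat.cast_add, ← card_xor_and a b c, Nat.cast_add, Nat.cast_mul,
    show ((2 : ℕ) : ZMod 2) = 0 from rfl, zero_mul, add_zero]

theorem par_eq_zero {a b : ℕ} (ha : a ∈ span11) (hb : b ∈ span11) : par (a &&& b) = 0 := by
  rw [par, ZMod.natCast_eq_zero_iff_even, Nat.even_iff]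
  exact codeList_orth (span11_mem_codeList ha) (span11_mem_codeList hb)

theorem hh_xor {a b c : ℕ} (ha : a ∈ span11) (hb : b ∈ span11) (hc : c ∈ span11) :
    hh (a ^^^ b) c = hh a c + hh b c + par (a &&& b &&& c) := by
  have h := card_xor_and a b c
  have h1 := codeList_orth (span11_mem_codeList ha) (span11_mem_codeList hc)
  have h2 := codeList_orth (span11_mem_codeList hb) (span11_mem_codeList hc)
  unfold hh par
  rw [← Nat.cast_add, ← Nat.cast_add, ZMod.natCast_eq_natCast_iff']
  omega

theorem hh_comm (a b : ℕ) : hh a b = hh b a := by rw [hh, hh, Nat.and_comm]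

theorem qq_xor {a b : ℕ} (ha : a ∈ span11) (hb : b ∈ span11) :
    qq (a ^^^ b) = qq a + qq b + hh a b := by
  have e : ∀ x, x < 2 ^ 23 → x &&& fullMask = x := fun x hx => by
    rw [fullMask, Nat.and_two_pow_sub_one_eq_mod, Nat.mod_eq_of_lt (by omega)]
  have h := card_xor_and a b fullMask
  rw [e _ (Nat.xor_lt_two_pow (span11_lt ha) (span11_lt hb)), e _ (span11_lt ha),
    e _ (span11_lt hb), e _ (lt_of_le_of_lt Nat.and_le_left (span11_lt ha))] at h
  have h1 := codeList_orth (span11_mem_codeList ha) (span11_mem_codeList hb)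
  have h2 := popCnt_codeList (span11_mem_codeList ha)
  have h3 := popCnt_codeList (span11_mem_codeList hb)
  unfold qq hh
  rw [← Nat.cast_add, ← Nat.cast_add, ZMod.natCast_eq_natCast_iff']
  omega

theorem th_xor_right (a c d : ℕ) : th a (c ^^^ d) = th a c + th a d := by
  simp only [th, crd_xor, add_mul, Finset.sum_add_distrib]

theorem th_bas (a : ℕ) (k : Fin 11) : th a (bas k) = thBas a k := by
  rw [th, Finset.sum_eq_single k]
  · rw [crd_bas, if_pos rfl, one_mul]
  · intro i _ hi; rw [crd_bas, if_neg hi, zero_mul]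
  · simp

theorem th_zero_right (a : ℕ) : th a 0 = 0 := by simp [th, crd]

theorem th_zero_left (c : ℕ) : th 0 c = 0 := by
  simp [th, thBas, crd, hh, show popCnt 0 = 0 from rfl]

theorem th_xor_left {a b c : ℕ} (ha : a ∈ span11) (hb : b ∈ span11) (hc : c ∈ span11) :
    th (a ^^^ b) c = th a c + th b c + par (a &&& b &&& c) := by
  refine span11_induction (P := fun c => th (a ^^^ b) c = th a c + th b c + par (a &&& b &&& c))
    ?_ ?_ ?_ c hc
  · simp [th_zero_right, par, show popCnt 0 = 0 from rfl]
  · intro k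
    simp only [th_bas, thBas, hh_xor ha hb (bas_mem k), crd_xor, add_mul, Finset.sum_add_distrib]
    ring
  · intro x _ y _ hx hy
    rw [th_xor_right, th_xor_right, th_xor_right, hx, hy, Nat.and_comm (a &&& b) (x ^^^ y),
      par_xor_and, Nat.and_comm x, Nat.and_comm y]
    ring

theorem th_comm_bas : ∀ i k : Fin 11,
    th (bas i) (bas k) + th (bas k) (bas i) = hh (bas i) (bas k) := by decide +kernel

theorem th_self_bas : ∀ k : Fin 11, th (bas k) (bas k) = qq (bas k) := by decide +kernel

theorem add_self_zmod2 (x : ZMod 2) : x + x = 0 := by revert x; decide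

theorem th_comm {a b : ℕ} (ha : a ∈ span11) (hb : b ∈ span11) : th a b + th b a = hh a b := by
  revert b
  refine span11_induction (P := fun a => ∀ {b}, b ∈ span11 → th a b + th b a = hh a b)
    ?_ ?_ ?_ a ha
  · intro b _; rw [th_zero_left, th_zero_right]; simp [hh, show popCnt 0 = 0 from rfl]
  · intro i b hb
    refine span11_induction (P := fun b => th (bas i) b + th b (bas i) = hh (bas i) b)
      ?_ (th_comm_bas i) ?_ b hb
    · rw [th_zero_left, th_zero_right]; simp [hh, show popCnt 0 = 0 from rfl]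
    · intro x hx y hy ex ey
      rw [th_xor_right, th_xor_left hx hy (bas_mem i), hh_comm _ (x ^^^ y),
        hh_xor hx hy (bas_mem i), hh_comm x, hh_comm y, ← ex, ← ey]
      ring
  · intro x hx y hy ex ey b hb
    rw [th_xor_right, th_xor_left hx hy hb, hh_xor hx hy hb, ← ex hb, ← ey hb]
    ring

theorem th_self {a : ℕ} (ha : a ∈ span11) : th a a = qq a := by
  refine span11_induction (P := fun a => th a a = qq a) ?_ th_self_bas ?_ a ha
  · rw [th_zero_left]; simp [qq, show popCnt 0 = 0 from rfl]
  · intro x hx y hy ex ey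
    have hxy : x ^^^ y ∈ span11 := xor_mem_spanList _ hx hy
    rw [th_xor_left hx hy hxy, th_xor_right, th_xor_right, qq_xor hx hy, ← th_comm hx hy, ex, ey,
      Nat.and_comm (x &&& y), par_xor_and, ← Nat.and_assoc, ← Nat.and_assoc, Nat.and_self,
      show y &&& x &&& y = x &&& y by rw [Nat.and_comm y x, Nat.and_assoc, Nat.and_self],
      par_eq_zero hx hy]
    ring

/-- The coboundary identity. -/
theorem th_cocycle {a b c : ℕ} (ha : a ∈ span11) (hb : b ∈ span11) (hc : c ∈ span11) :
    th b c + th (a ^^^ b) c + th a (b ^^^ c) + th a b = par (a &&& b &&& c) := by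
  rw [th_xor_left ha hb hc, th_xor_right]
  linear_combination add_self_zmod2 (th b c) + add_self_zmod2 (th a c) + add_self_zmod2 (th a b)

end Cfsg.Agent.H57.Parker
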