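import Mathlib
import Cfsg.Agent.Orthogonal.Generation
import Cfsg.Agent.Orthogonal.Witt

/-!
Classes of reflections in the abelianisation of `O(Q)`, and transitivity of the commutator subgroup
through stabilisers containing every class.
-/

set_option autoImplicit false

namespace Cfsg.Agent.H57

open QuadraticMap Orthogonal

variable {F V : Type*} [Field F] [AddCommGroup V] [Module F V] [FiniteDimensional F V]
variable {Q : QuadraticForm F V}

/-- class of the reflection in `v` -/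
def rc (Q : QuadraticForm F V) (v : V) : Abelianization (O Q) := Abelianization.of (rO Q v)

theorem rc_sq (v : V) : rc Q v * rc Q v = 1 := by
  rw [rc, ← map_mul, rO_mul_self, map_one]

theorem rc_eq (hQ : Nondeg Q) {x y : V} {c : F} (hx : Q x ≠ 0) (hc : c ≠ 0)
    (h : Q y = c ^ 2 * Q x) : rc Q y = rc Q x := by
  have hy : Q y ≠ 0 := h ▸ mul_ne_zero (pow_ne_zero _ hc) hx
  have hy0 : y ≠ 0 := fun e => hy (by rw [e, QuadraticMap.map_zero])
  have hx0 : c • x ≠ 0 := smul_ne_zero hc fun e => hx (by rw [e, QuadraticMap.map_zero])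
  obtain ⟨g, hg⟩ := exists_map_vec hQ hx0 hy0 (by rw [h, qmap_smul])
  have hconj := conj_rO g (c • x)
  rw [hg, rO_smul hc] at hconj
  rw [rc, rc, ← hconj, map_mul, map_mul, map_inv, mul_inv_cancel_comm]

/-- a class is trivial iff the element is in the commutator subgroup -/
theorem of_eq_one_iff {G : Type*} [Group G] (g : G) :
    (Abelianization.of g : Abelianization G) = 1 ↔ g ∈ commutator G := by
  rw [← MonoidHom.mem_ker, Abelianization.ker_of]

theorem mem_of_forall_rc (hgen : reflGroup Q = ⊤) (S : Subgroup (O Q))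
    (hS : ∀ v, Q v ≠ 0 → rc Q v ∈ S.map Abelianization.of) (g : O Q) :
    ∃ h ∈ S, g * h⁻¹ ∈ commutator (O Q) := by
  have hle : reflGroup Q ≤ (S.map (Abelianization.of : O Q →* _)).comap Abelianization.of := by
    refine (Subgroup.closure_le _).2 ?_
    rintro - ⟨v, rfl⟩
    by_cases hv : Q v = 0
    · rw [rO_of_singular hv]; exact one_mem _
    · exact hS v hv
  obtain ⟨h, hh, he⟩ := hle (hgen ▸ Subgroup.mem_top g)
  exact ⟨h, hh, (of_eq_one_iff _).1 (by rw [map_mul, map_inv, ← he, mul_inv_cancel])⟩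

/-- the stabiliser of a subspace -/
def stabSub (Q : QuadraticForm F V) (U : Submodule F V) : Subgroup (O Q) where
  carrier := {g | U.map ((g : V ≃ₗ[F] V) : V →ₗ[F] V) = U}
  mul_mem' {a b} ha hb := by
    show U.map _ = U
    rw [show (((a * b : O Q) : V ≃ₗ[F] V) : V →ₗ[F] V)
      = ((a : V ≃ₗ[F] V) : V →ₗ[F] V).comp ((b : V ≃ₗ[F] V) : V →ₗ[F] V) from rfl,
      Submodule.map_comp, hb, ha]
  one_mem' := Submodule.map_id U
  inv_mem' {a} ha := by
    show U.map _ = U
    conv_lhs => rw [← (show U.map ((a : V ≃ₗ[F] V) : V →ₗ[F] V) = U from ha)]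
    rw [← Submodule.map_comp,
      show (((a⁻¹ : O Q) : V ≃ₗ[F] V) : V →ₗ[F] V).comp ((a : V ≃ₗ[F] V) : V →ₗ[F] V)
        = LinearMap.id from LinearMap.ext fun x => (a : V ≃ₗ[F] V).symm_apply_apply x,
      Submodule.map_id]

theorem mem_stabSub_of_le {U : Submodule F V} {g : O Q}
    (h : ∀ x ∈ U, (g : V ≃ₗ[F] V) x ∈ U) : g ∈ stabSub Q U := by
  show U.map _ = U
  refine Submodule.eq_of_le_of_finrank_eq ?_ (LinearEquiv.finrank_map_eq _ U)
  rintro - ⟨x, hx, rfl⟩
  exact h x hx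

/-- moving by the commutator subgroup -/
theorem exists_commutator_map {U W : Submodule F V} (hgen : reflGroup Q = ⊤)
    (hS : ∀ v, Q v ≠ 0 → rc Q v ∈ (stabSub Q U).map Abelianization.of)
    {g : O Q} (hg : U.map ((g : V ≃ₗ[F] V) : V →ₗ[F] V) = W) :
    ∃ h : O Q, h ∈ commutator (O Q) ∧ U.map ((h : V ≃ₗ[F] V) : V →ₗ[F] V) = W := by
  obtain ⟨s, hs, hc⟩ := mem_of_forall_rc hgen (stabSub Q U) hS g
  refine ⟨g * s⁻¹, hc, ?_⟩
  rw [show (((g * s⁻¹ : O Q) : V ≃ₗ[F] V) : V →ₗ[F] V)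
    = ((g : V ≃ₗ[F] V) : V →ₗ[F] V).comp (((s⁻¹ : O Q) : V ≃ₗ[F] V) : V →ₗ[F] V) from rfl,
    Submodule.map_comp]
  have : U.map (((s⁻¹ : O Q) : V ≃ₗ[F] V) : V →ₗ[F] V) = U := inv_mem hs
  rw [this, hg]

theorem rc_mem_stab_nondeg [Finite F] (hQ : Nondeg Q) {U : Submodule F V}
    (hU : Nondeg (restr Q U)) (hn : 3 ≤ Module.finrank F V) {v : V} (hv : Q v ≠ 0) :
    rc Q v ∈ (stabSub Q U).map Abelianization.of := by
  have hsum := hQ.finrank_add_perp U
  have key : ∀ x : V, (x ∈ U ∨ x ∈ perp Q U) → Q x = Q v →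
      rc Q v ∈ (stabSub Q U).map Abelianization.of := by
    intro x hx hQx
    rw [show rc Q v = rc Q x from rc_eq hQ (by rw [hQx]; exact hv) one_ne_zero (by rw [hQx]; ring)]
    refine ⟨rO Q x, mem_stabSub_of_le fun y hy => ?_, rfl⟩
    rw [rO_app]
    rcases hx with hx | hx
    · exact U.sub_mem hy (U.smul_mem _ hx)
    · rw [(mem_perp' Q).1 hx y hy, mul_zero, zero_smul, sub_zero]; exact hy
  rcases (by omega : 2 ≤ Module.finrank F U ∨ 2 ≤ Module.finrank F (perp Q U)) with h | h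
  · obtain ⟨x, hx⟩ := hU.exists_value h (Q v)
    exact key x (Or.inl x.2) hx
  · obtain ⟨x, hx⟩ := (hQ.nondeg_perp hU).exists_value h (Q v)
    exact key x (Or.inr x.2) hx

theorem rc_mem_stab_totSing (hQ : Nondeg Q) {U : Submodule F V} (hU : TotSing Q U)
    (hU0 : U ≠ ⊥) (h2k : 2 * Module.finrank F U < Module.finrank F V) {v : V} (hv : Q v ≠ 0) :
    rc Q v ∈ (stabSub Q U).map Abelianization.of := by
  classical
  -- an anisotropic vector orthogonal to `U`
  obtain ⟨z, hz, hQz⟩ : ∃ z ∈ perp Q U, Q z ≠ 0 := by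
    by_contra hc
    push Not at hc
    have h1 : 2 * Module.finrank F (perp Q U) ≤ Module.finrank F V :=
      (show TotSing Q (perp Q U) from hc).two_mul_finrank_le hQ
    have := hQ.finrank_add_perp U
    omega
  obtain ⟨u, hu, hu0⟩ := Submodule.exists_mem_ne_zero_of_ne_bot hU0
  obtain ⟨U', hU'⟩ := (Submodule.span F {u}).exists_isCompl
  have huN : u ∉ U ⊓ U' := fun h => hu0 (by
    have : u ∈ Submodule.span F {u} ⊓ U' := ⟨Submodule.mem_span_singleton_self u, h.2⟩
    rwa [hU'.inf_eq_bot, Submodule.mem_bot] at this)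
  obtain ⟨l, hl1, hl2⟩ := Submodule.exists_dual_map_eq_bot_of_notMem huN inferInstance
  obtain ⟨y, hy⟩ := hQ.exists_repr ((l u)⁻¹ • l)
  have hyu : polar Q u y = 1 := by
    rw [polar_comm, hy]; simp [inv_mul_cancel₀ hl1]
  set f := y + (-Q y) • u with hf
  have hQu : Q u = 0 := hU u hu
  have hQf : Q f = 0 := by
    rw [hf, map_add_polar, qmap_smul, polar_smul_right', polar_comm (⇑Q) y u, hyu, hQu]; ring
  have huf : polar Q u f = 1 := by
    rw [hf, polar_add_right, polar_smul_right', polar_self', hQu, hyu]; ring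
  have hU'f : ∀ x ∈ U ⊓ U', polar Q x f = 0 := by
    intro x hx
    have h1 : l x = 0 := by
      have : l x ∈ (U ⊓ U').map l := ⟨x, hx, rfl⟩
      rwa [hl2, Submodule.mem_bot] at this
    rw [hf, polar_add_right, polar_smul_right', hU.polar_eq hx.1 hu, mul_zero, add_zero,
      polar_comm, hy]
    simp [h1]
  have hsplit : ∀ x ∈ U, ∃ a : F, ∃ x' ∈ U ⊓ U', x = a • u + x' := by
    intro x hx
    obtain ⟨a, ha, b, hb, hab⟩ :=
      Submodule.mem_sup.1 (hU'.sup_eq_top ▸ Submodule.mem_top (R := F) (x := x))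
    obtain ⟨r, rfl⟩ := Submodule.mem_span_singleton.1 ha
    refine ⟨r, b, ⟨?_, hb⟩, hab.symm⟩
    have : b = x - r • u := by rw [← hab]; abel
    rw [this]; exact U.sub_mem hx (U.smul_mem _ hu)
  -- the torus element `u ↦ μ u`
  have htor : ∀ l' : F, l' ≠ 0 → rO Q (u - l' • f) * rO Q (u - f) ∈ stabSub Q U := by
    intro l' hl'
    have hfix : ∀ (c : F) x, x ∈ U ⊓ U' → (rO Q (u - c • f) : V ≃ₗ[F] V) x = x := by
      intro c x hx
      refine rO_fix ?_
      rw [polar_sub_left, polar_smul_left', polar_comm (⇑Q) f x, hU'f x hx,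
        hU.polar_eq hu hx.1]; ring
    refine mem_stabSub_of_le fun x hx => ?_
    obtain ⟨a, x', hx', rfl⟩ := hsplit x hx
    have h1 := hfix 1 x' hx'
    rw [one_smul] at h1
    have hQ1 : Q (u - f) = -1 := by rw [qmap_sub, hQu, hQf, huf]; ring
    have hu1 : (rO Q (u - f) : V ≃ₗ[F] V) u = f :=
      rO_sub_swap (hQu.trans hQf.symm) (by rw [hQ1]; exact neg_ne_zero.2 one_ne_zero)
    rw [Subgroup.coe_mul, mul_app, map_add, map_smul, hu1, h1, map_add, map_smul, hfix l' x' hx']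
    have e1 : Q (u - l' • f) = -l' := by
      rw [qmap_sub, qmap_smul, hQu, hQf, polar_smul_right', huf]; ring
    have e2 : (rO Q (u - l' • f) : V ≃ₗ[F] V) f = l'⁻¹ • u := by
      rw [rO_app, e1, polar_sub_left, polar_smul_left', huf, polar_self', hQf, inv_neg]
      simp [smul_sub, smul_smul, hl']
    rw [e2]
    exact U.add_mem (U.smul_mem _ (U.smul_mem _ hu)) hx'.1
  -- all classes
  have hzmem : rc Q z ∈ (stabSub Q U).map Abelianization.of := by
    refine ⟨rO Q z, mem_stabSub_of_le fun x hx => ?_, rfl⟩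
    rw [rO_app, (mem_perp' Q).1 hz x hx, mul_zero, zero_smul, sub_zero]; exact hx
  have hval : ∀ c : F, c ≠ 0 → Q (u + c • f) = c := fun c hc => by
    rw [map_add_polar, qmap_smul, hQu, hQf, polar_smul_right', huf]; ring
  have hp : ∀ c : F, c ≠ 0 →
      rc Q (u + c • f) * rc Q (u - f) ∈ (stabSub Q U).map Abelianization.of := fun c hc => by
    refine ⟨_, htor (-c) (neg_ne_zero.2 hc), ?_⟩
    rw [map_mul, neg_smul, sub_neg_eq_add]; rfl
  have h1 := hp _ hv
  have h2 := hp _ hQz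
  rw [show rc Q v = rc Q (u + Q v • f) from rc_eq hQ (by rw [hval _ hv]; exact hv) one_ne_zero
    (by rw [hval _ hv]; ring)]
  rw [show rc Q (u + Q z • f) = rc Q z from rc_eq hQ hQz one_ne_zero (by rw [hval _ hQz]; ring)] at h2
  have := mul_mem (mul_mem h1 (inv_mem h2)) hzmem
  rwa [show ∀ a b c : Abelianization (O Q), a * b * (c * b)⁻¹ * c = a from fun a b c => by
    rw [mul_inv_rev, ← mul_assoc, mul_inv_cancel_right, inv_mul_cancel_right]] at this

end Cfsg.Agent.H57
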