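import Cfsg.Agent.Orthogonal.Spinor
import Cfsg.Agent.Orthogonal.Dickson

/-!
Products of reflection matrices, in the language of `Orthogonal.O`.
-/

set_option autoImplicit false

namespace Cfsg.Agent.H57

open Cfsg.Agent.Orthogonal QuadraticMap

variable {F : Type*} {ι : Type} [Field F] [Fintype ι] [DecidableEq ι]

theorem mulVec_refl_prod (Q : QuadraticForm F (ι → F)) (vs : List (ι → F)) (x : ι → F) :
    ((vs.map fun v => Cfsg.reflectionMatrix (⇑Q) v).prod).mulVec x =
      (((vs.map (rO Q)).prod : O Q) : (ι → F) ≃ₗ[F] (ι → F)) x := by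
  induction vs generalizing x with
  | nil => simp
  | cons a t ih =>
    rw [List.map_cons, List.prod_cons, ← Matrix.mulVec_mulVec, ih, reflectionMatrix_mulVec,
      List.map_cons, List.prod_cons, Subgroup.coe_mul, mul_app]

theorem toO_eq_prod (Q : QuadraticForm F (ι → F)) (g : Cfsg.isometryGroup F (⇑Q))
    (vs : List (ι → F))
    (hg : ((g : Matrix.GeneralLinearGroup ι F) : Matrix ι ι F) =
      (vs.map fun v => Cfsg.reflectionMatrix (⇑Q) v).prod) :
    toO Q g = (vs.map (rO Q)).prod :=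
  O.ext_app fun x => by rw [toO_apply, hg, mulVec_refl_prod]

theorem exists_iso_prod (Q : QuadraticForm F (ι → F)) (vs : List (ι → F)) :
    ∃ g : Cfsg.isometryGroup F (⇑Q), ((g : Matrix.GeneralLinearGroup ι F) : Matrix ι ι F) =
      (vs.map fun v => Cfsg.reflectionMatrix (⇑Q) v).prod :=
  ⟨(toO Q).symm (vs.map (rO Q)).prod, Matrix.ext_iff_mulVec.2 fun x => by
    rw [mulVec_refl_prod, toO_symm_apply]⟩

theorem neg_one_units_pow_eq_one_iff {k : ℕ} : (-1 : ℤˣ) ^ k = 1 ↔ Even k :=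
  neg_one_pow_eq_one_iff_even (by decide)

/-- Membership in `Ω` for a product of reflection matrices (odd characteristic). -/
theorem mem_omega_prod_iff [Finite F] {Q : QuadraticForm F (ι → F)} (hQ : Nondeg Q)
    (h2 : (2 : F) ≠ 0) (g : Cfsg.isometryGroup F (⇑Q)) (vs : List (ι → F))
    (hvs : ∀ v ∈ vs, Q v ≠ 0)
    (hg : ((g : Matrix.GeneralLinearGroup ι F) : Matrix ι ι F) =
      (vs.map fun v => Cfsg.reflectionMatrix (⇑Q) v).prod) :
    g ∈ Cfsg.Omega F (⇑Q) ↔ Even vs.length ∧ IsSquare (vs.map fun v => Q v).prod := by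
  rw [mem_omega_iff, toO_eq_prod Q g vs hg, mem_commutator_iff hQ h2, detSign_list hQ h2 hvs,
    spinor_list hQ h2 hvs, sqSign_eq_one_iff, neg_one_units_pow_eq_one_iff]

theorem exists_mem_omega_prod_iff [Finite F] {Q : QuadraticForm F (ι → F)} (hQ : Nondeg Q)
    (h2 : (2 : F) ≠ 0) (M : Matrix ι ι F) (vs : List (ι → F)) (hvs : ∀ v ∈ vs, Q v ≠ 0)
    (hM : M = (vs.map fun v => Cfsg.reflectionMatrix (⇑Q) v).prod) :
    (∃ g : Cfsg.isometryGroup F (⇑Q), g ∈ Cfsg.Omega F (⇑Q) ∧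
      ((g : Matrix.GeneralLinearGroup ι F) : Matrix ι ι F) = M) ↔
      Even vs.length ∧ IsSquare (vs.map fun v => Q v).prod := by
  constructor
  · rintro ⟨g, hg, hgM⟩
    exact (mem_omega_prod_iff hQ h2 g vs hvs (hgM.trans hM)).1 hg
  · intro h
    obtain ⟨g, hg⟩ := exists_iso_prod Q vs
    exact ⟨g, (mem_omega_prod_iff hQ h2 g vs hvs hg).2 h, hg.trans hM.symm⟩

end Cfsg.Agent.H57
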