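import Mathlib

set_option autoImplicit false

namespace Cfsg.Agent.H57

variable {X : Type*} [Group X] (σ : MulAut X)

theorem twist_pow_add (a b : ℕ) (x : X) : (σ ^ a) ((σ ^ b) x) = (σ ^ (a + b)) x := by
  rw [pow_add, MulAut.mul_apply]

theorem twist_pow_succ_apply (n : ℕ) (x : X) : σ ((σ ^ n) x) = (σ ^ (n + 1)) x := by
  rw [pow_succ', MulAut.mul_apply]

theorem twist_pow_succ_apply' (n : ℕ) (x : X) : (σ ^ n) (σ x) = (σ ^ (n + 1)) x := by
  rw [pow_succ, MulAut.mul_apply]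

theorem mem_eqLocus_iff (τ : MulAut X) (x : X) :
    x ∈ (MulEquiv.toMonoidHom τ).eqLocus (MonoidHom.id X) ↔ τ x = x := Iff.rfl

/-- telescoping norm product -/
theorem norm_prod (g a : X) (ha : g = a * (σ a)⁻¹) (d : ℕ) :
    ((List.range d).map (fun i => (σ ^ i) g)).prod = a * ((σ ^ d) a)⁻¹ := by
  induction d with
  | zero => simp
  | succ d ih =>
    rw [List.range_succ, List.map_append, List.prod_append, ih]
    simp only [List.map_cons, List.map_nil, List.prod_cons, List.prod_nil, mul_one]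
    rw [ha, map_mul, map_inv, twist_pow_succ_apply']
    group

/-- the descent element is σ-fixed -/
theorem descent_fixed (e : ℕ) (g a : X) (hg : (σ ^ e) g = g) (ha : g = a * (σ a)⁻¹) :
    σ (((σ ^ e) a)⁻¹ * a) = ((σ ^ e) a)⁻¹ * a := by
  rw [ha, map_mul, map_inv, twist_pow_succ_apply'] at hg
  rw [map_mul, map_inv, twist_pow_succ_apply]
  have h1 : ((σ ^ (e + 1)) a)⁻¹ = ((σ ^ e) a)⁻¹ * (a * (σ a)⁻¹) := by
    rw [← hg]; group
  rw [h1]; group

/-- twisted conjugation in terms of `σ`-fixed elements -/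
theorem twist_eq_iff (a b k g g' : X) (ha : g = a * (σ a)⁻¹) (hb : g' = b * (σ b)⁻¹) :
    g' = k * g * (σ k)⁻¹ ↔ σ (b⁻¹ * k * a) = b⁻¹ * k * a := by
  subst ha hb
  rw [map_mul, map_mul, map_inv]
  constructor
  · intro h
    have h2 : (σ b)⁻¹ = b⁻¹ * (k * (a * (σ a)⁻¹) * (σ k)⁻¹) := by rw [← h]; group
    rw [h2]; group
  · intro h
    calc b * (σ b)⁻¹ = b * (((σ b)⁻¹ * σ k * σ a) * (σ a)⁻¹ * (σ k)⁻¹) := by group
      _ = b * ((b⁻¹ * k * a) * (σ a)⁻¹ * (σ k)⁻¹) := by rw [h]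
      _ = _ := by group

theorem pow_fixed {h : X} (hh : σ h = h) (n : ℕ) : (σ ^ n) h = h := by
  induction n with
  | zero => simp
  | succ n ih => rw [← twist_pow_succ_apply', hh, ih]

/-- when `σ (b⁻¹ k a)` is fixed: `k` is `σ^e`-fixed iff the descents are conjugate by `b⁻¹ k a` -/
theorem pow_twist_iff (e : ℕ) (a b h : X) (hh : σ h = h) :
    (σ ^ e) (b * h * a⁻¹) = b * h * a⁻¹ ↔
      ((σ ^ e) b)⁻¹ * b = h * (((σ ^ e) a)⁻¹ * a) * h⁻¹ := by
  rw [map_mul, map_mul, map_inv, pow_fixed σ hh]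
  constructor
  · intro H
    calc ((σ ^ e) b)⁻¹ * b = ((σ ^ e) b)⁻¹ * (b * h * a⁻¹) * (a * h⁻¹) := by group
      _ = ((σ ^ e) b)⁻¹ * ((σ ^ e) b * h * ((σ ^ e) a)⁻¹) * (a * h⁻¹) := by rw [H]
      _ = _ := by group
  · intro H
    calc (σ ^ e) b * h * ((σ ^ e) a)⁻¹
        = (σ ^ e) b * (h * (((σ ^ e) a)⁻¹ * a) * h⁻¹) * h * a⁻¹ := by group
      _ = (σ ^ e) b * (((σ ^ e) b)⁻¹ * b) * h * a⁻¹ := by rw [H]
      _ = _ := by group

end Cfsg.Agent.H57
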