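import Mathlib
import Cfsg.Agent.Orthogonal.StdForms

set_option autoImplicit false

namespace Cfsg.Agent.H57

open QuadraticMap

variable {F : Type*} [Field F]

/-- transporting polar values along an isometry -/
theorem polar_transport {V W : Type*} [AddCommGroup V] [Module F V] [AddCommGroup W] [Module F W]
    (f : V → F) (g : W → F) (E : V ≃ₗ[F] W) (h : ∀ x, g (E x) = f x) (x y : V) :
    polar g (E x) (E y) = polar f x y := by
  simp only [polar, ← map_add, h]

/-- multiply the `x`-coordinates by `c` -/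
def scaleLeft (m : ℕ) {c : F} (hc : c ≠ 0) : (Fin m ⊕ Fin m → F) ≃ₗ[F] (Fin m ⊕ Fin m → F) where
  toFun v := Sum.elim (fun i => c * v (.inl i)) (fun i => v (.inr i))
  invFun v := Sum.elim (fun i => c⁻¹ * v (.inl i)) (fun i => v (.inr i))
  map_add' u v := by ext (i | i) <;> simp [mul_add]
  map_smul' a v := by ext (i | i) <;> simp [mul_left_comm]
  left_inv v := by ext (i | i) <;> simp [← mul_assoc, inv_mul_cancel₀ hc]
  right_inv v := by ext (i | i) <;> simp [← mul_assoc, mul_inv_cancel₀ hc]

theorem plus_scaleLeft (m : ℕ) {c : F} (hc : c ≠ 0) (v : Fin m ⊕ Fin m → F) :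
    Cfsg.quadFormPlus m F (scaleLeft m hc v) = c * Cfsg.quadFormPlus m F v := by
  simp [Cfsg.quadFormPlus, scaleLeft, Finset.mul_sum, mul_assoc]

/-- the binary form `z₁² + z₁ z₂ + ζ z₂²` is multiplicative -/
theorem exists_similitude_minus [Finite F] (m : ℕ) (ζ : F) (hζ : ∀ t : F, t ^ 2 + t + ζ ≠ 0)
    {c : F} (hc : c ≠ 0) :
    ∃ g : ((Fin m ⊕ Fin m) ⊕ Fin 2 → F) →ₗ[F] ((Fin m ⊕ Fin m) ⊕ Fin 2 → F),
      ∀ v, Cfsg.quadFormMinus m F 1 ζ (g v) = c * Cfsg.quadFormMinus m F 1 ζ v := by
  have hab := fun z₁ z₂ => Orthogonal.aniso_of_no_root hζ z₁ z₂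
  -- a vector of the binary form with value `c`
  obtain ⟨w, hw⟩ := (Orthogonal.formMinus_nondeg 0 hab).exists_value
    (by rw [Orthogonal.finrank_formMinus]) c
  rw [Orthogonal.formMinus_coe] at hw
  simp [Cfsg.quadFormMinus] at hw
  refine ⟨{
    toFun := fun v => Sum.elim (Sum.elim (fun i => c * v (.inl (.inl i)))
        (fun i => v (.inl (.inr i))))
      ![v (.inr 0) * w (.inr 0) - ζ * v (.inr 1) * w (.inr 1),
        v (.inr 0) * w (.inr 1) + v (.inr 1) * w (.inr 0) + v (.inr 1) * w (.inr 1)]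
    map_add' := fun u v => by
      ext s
      rcases s with (i | i) | j
      · simp [mul_add]
      · simp
      · fin_cases j <;> simp <;> ring
    map_smul' := fun a v => by
      ext s
      rcases s with (i | i) | j
      · simp [mul_left_comm]
      · simp
      · fin_cases j <;> simp <;> ring }, fun v => ?_⟩
  simp [Cfsg.quadFormMinus, Finset.mul_sum, mul_add, mul_assoc]
  linear_combination (v (.inr 0) ^ 2 + v (.inr 0) * v (.inr 1) + ζ * v (.inr 1) ^ 2) * hw

/-- every nonzero scalar is a multiplier in even dimension -/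
theorem exists_similitude [Finite F] {V : Type*} [AddCommGroup V] [Module F V]
    [FiniteDimensional F V] (Q : QuadraticForm F V) (hQ : Orthogonal.Nondeg Q) {k : ℕ}
    (hn : Module.finrank F V = 2 * (k + 1)) {c : F} (hc : c ≠ 0) :
    ∃ g : V ≃ₗ[F] V, ∀ v, Q (g v) = c * Q v := by
  rcases hQ.classify_even hn with ⟨E, hE⟩ | ⟨ζ, E, hζ, hE⟩
  · refine ⟨(E.symm.trans (scaleLeft (k + 1) hc)).trans E, fun v => ?_⟩
    rw [LinearEquiv.trans_apply, LinearEquiv.trans_apply, hE, Orthogonal.formPlus_coe,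
      plus_scaleLeft, ← Orthogonal.formPlus_coe, ← hE, E.apply_symm_apply]
  · obtain ⟨g, hg⟩ := exists_similitude_minus k ζ hζ hc
    have hq : ∀ v, Q ((E.toLinearMap.comp (g.comp E.symm.toLinearMap)) v) = c * Q v := fun v => by
      show Q (E (g (E.symm v))) = _
      rw [hE, Orthogonal.formMinus_coe, hg, ← Orthogonal.formMinus_coe, ← hE, E.apply_symm_apply]
    set G := E.toLinearMap.comp (g.comp E.symm.toLinearMap) with hG
    have hinj : Function.Injective G := by
      refine LinearMap.ker_eq_bot.1 (eq_bot_iff.2 fun x hx => ?_)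
      rw [LinearMap.mem_ker] at hx
      rw [Submodule.mem_bot]
      refine hQ x fun y => ?_
      have h1 : polar Q (G x) (G y) = c * polar Q x y := by
        simp only [polar, ← map_add, hq]; ring
      rw [hx, polar_zero_left] at h1
      exact (mul_eq_zero.1 h1.symm).resolve_left hc
    exact ⟨LinearEquiv.ofInjectiveEndo G hinj, hq⟩

end Cfsg.Agent.H57
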