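import Mathlib
import Cfsg.Agent.Unitary.Wall
import Cfsg.Agent.Arith.UnipotentClasses

/-!
# Unipotent classes of `GU_n(q)`

Every unipotent class of `GL_n(q^2)` meets `GU_n(q)`, and two unipotent elements of `GU_n(q)` are
conjugate when their Jordan partitions agree.
-/

set_option autoImplicit false
set_option linter.unusedSectionVars false

namespace Cfsg.Agent.H57.UnitaryUnipotent

open Matrix Cfsg Cfsg.Agent.Unitary Cfsg.Agent.Arith.UnipotentClasses Cfsg.Agent.H99

variable {F : Type*} [Field F] [Fintype F] {n q : ℕ}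

omit [Fintype F] in
theorem imDim_nilEnd (g : GL (Fin n) F) (j : ℕ) :
    imDim (nilEnd g) ⊤ j = (((g : Matrix (Fin n) (Fin n) F) - 1) ^ j).rank := by
  rw [imDim, Submodule.map_top, nilEnd, ← map_pow, Matrix.rank]
  rfl

omit [Fintype F] in
/-- The partition only depends on the ranks of the powers of `g - 1`. -/
theorem parts_eq_of_rank (e : ℕ) {g g' : GL (Fin n) F}
    (h : ∀ j, (((g : Matrix (Fin n) (Fin n) F) - 1) ^ j).rank
      = (((g' : Matrix (Fin n) (Fin n) F) - 1) ^ j).rank) : parts e g = parts e g' := by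
  have hd : ∀ j, blockDelta (nilEnd g) ⊤ j = blockDelta (nilEnd g') ⊤ j := fun j => by
    have h1 := imDim_succ (nilEnd g) ⊤ j
    have h2 := imDim_succ (nilEnd g') ⊤ j
    rw [imDim_nilEnd, imDim_nilEnd] at h1 h2
    rw [h, h] at h1
    omega
  simp only [parts, blockParts, hd]

/-- Field automorphisms preserve the rank. -/
theorem rank_map_equiv (σ : F ≃+* F) (A : Matrix (Fin n) (Fin n) F) : (A.map σ).rank = A.rank := by
  have e : LinearMap.range A.mulVecLin ≃ LinearMap.range (A.map σ).mulVecLin :=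
    (Equiv.piCongrRight fun _ : Fin n => σ.toEquiv).subtypeEquiv fun v => by
      have key : ∀ x, (fun i => σ ((A *ᵥ x) i)) = A.map σ *ᵥ fun i => σ (x i) := fun x =>
        funext fun i => RingHom.map_mulVec σ.toRingHom A x i
      constructor
      · rintro ⟨x, rfl⟩
        exact ⟨fun i => σ (x i), (key x).symm⟩
      · rintro ⟨y, hy⟩
        refine ⟨fun i => σ.symm (y i), funext fun i => σ.injective ?_⟩
        have h1 := congrFun (key fun i => σ.symm (y i)) i
        simp only [RingEquiv.apply_symm_apply] at h1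
        show σ ((A *ᵥ fun i => σ.symm (y i)) i) = σ (v i)
        rw [h1]
        exact congrFun hy i
  have h := Nat.card_congr e
  have e1 := Module.natCard_eq_pow_finrank (K := F) (V := LinearMap.range A.mulVecLin)
  have e2 := Module.natCard_eq_pow_finrank (K := F) (V := LinearMap.range (A.map σ).mulVecLin)
  rw [e1, e2] at h
  exact (Nat.pow_right_injective Finite.one_lt_card h).symm

theorem rank_hstar (hF : Fintype.card F = q ^ 2) (A : Matrix (Fin n) (Fin n) F) :
    (hstar q A).rank = A.rank := by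
  rw [hstar, Matrix.rank_transpose]
  exact rank_map_equiv (frob hF) A

/-- `(g*)⁻¹` has the same ranks of powers of `g - 1`. -/
theorem rank_hstar_inv (hF : Fintype.card F = q ^ 2) (g : GL (Fin n) F) (j : ℕ) :
    (((hstar q (g : Matrix (Fin n) (Fin n) F))⁻¹ - 1) ^ j).rank
      = (((g : Matrix (Fin n) (Fin n) F) - 1) ^ j).rank := by
  set M := hstar q (g : Matrix (Fin n) (Fin n) F)
  have hu : IsUnit M := hstar_isUnit hF g.isUnit
  have hd := (Matrix.isUnit_iff_isUnit_det _).1 hu
  have hc : Commute (-M⁻¹) (M - 1) := by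
    refine (Commute.sub_right ?_ (Commute.one_right _)).neg_left
    exact (Matrix.nonsing_inv_mul _ hd).trans (Matrix.mul_nonsing_inv _ hd).symm
  have h1 : M⁻¹ - 1 = -M⁻¹ * (M - 1) := by
    rw [neg_mul, mul_sub, mul_one, Matrix.nonsing_inv_mul _ hd, neg_sub]
  rw [h1, hc.mul_pow, Matrix.rank_mul_eq_right_of_isUnit_det _ _ ((Matrix.isUnit_iff_isUnit_det _).1
    (((Matrix.isUnit_nonsing_inv_iff.2 hu).neg).pow j))]
  have hsub : M - 1 = hstar q ((g : Matrix (Fin n) (Fin n) F) - 1) := by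
    have := hstar_add hF ((g : Matrix (Fin n) (Fin n) F) - 1) 1
    rw [sub_add_cancel, hstar_one hF] at this
    exact sub_eq_of_eq_add this
  have hpow : ∀ (A : Matrix (Fin n) (Fin n) F) (j : ℕ), hstar q (A ^ j) = hstar q A ^ j := fun A j => by
    induction j with
    | zero => simp [hstar_one hF]
    | succ j ih => rw [pow_succ, hstar_mul hF, ih, ← pow_succ']
  rw [hsub, ← hpow, rank_hstar hF]

/-- Every unipotent class of `GL` meets `GU`. -/
theorem exists_similar (hF : Fintype.card F = q ^ 2) (e : ℕ) (g : GL (Fin n) F)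
    (hg : ((g : Matrix (Fin n) (Fin n) F) - 1) ^ e = 0) :
    ∃ B : GU n F q, IsConj g (B : GL (Fin n) F) := by
  rw [exists_similar_GU_iff hF]
  set M := hstar q (g : Matrix (Fin n) (Fin n) F)
  have hu : IsUnit M⁻¹ := Matrix.isUnit_nonsing_inv_iff.2 (hstar_isUnit hF g.isUnit)
  have hg' : ((hu.unit : GL (Fin n) F) : Matrix (Fin n) (Fin n) F) = M⁻¹ := hu.unit_spec
  have h0 : (((hu.unit : GL (Fin n) F) : Matrix (Fin n) (Fin n) F) - 1) ^ e = 0 := by
    have h := rank_hstar_inv hF g e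
    rw [hg, Matrix.rank_zero] at h
    rw [hg']
    by_contra hne
    obtain ⟨v, hv⟩ : ∃ v, ((M⁻¹ - 1) ^ e) *ᵥ v ≠ 0 := by
      by_contra hall
      push Not at hall
      exact hne (Matrix.ext_iff_mulVec.2 fun v => by rw [hall, Matrix.zero_mulVec])
    have : LinearMap.range ((M⁻¹ - 1) ^ e).mulVecLin = ⊥ := Submodule.finrank_eq_zero.1 h
    exact hv ((Submodule.mem_bot F).1 (this ▸ ⟨v, rfl⟩))
  have hc := isConj_of_parts_eq e g hu.unit hg h0 (parts_eq_of_rank e fun j => by
    rw [hg', rank_hstar_inv hF])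
  obtain ⟨P, hP⟩ := hc
  refine ⟨P.val, ?_⟩
  have := congrArg (fun x : GL (Fin n) F => (x : Matrix (Fin n) (Fin n) F)) hP
  simp only [Units.val_mul, hg'] at this
  exact this

theorem card_classes_GU (hF : Fintype.card F = q ^ 2) (e : ℕ) :
    Nat.card {C : ConjClasses ↥(GU n F q) //
      ∃ g : GU n F q, ConjClasses.mk g = C ∧ (((g : GL (Fin n) F) : Matrix (Fin n) (Fin n) F) - 1) ^ e = 0} =
    (Finset.univ.filter fun μ : Nat.Partition n => ∀ a ∈ μ.parts, a ≤ e).card := by
  rw [← card_classes (F := F) e]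
  refine Nat.card_eq_of_bijective
    (fun C => ⟨ConjClasses.map (GU n F q).subtype C.1, (GU n F q).subtype C.2.choose, by
      conv_rhs => rw [← C.2.choose_spec.1]
      rfl, C.2.choose_spec.2⟩) ⟨?_, ?_⟩
  · rintro ⟨C, g, rfl, hg⟩ ⟨C', g', rfl, hg'⟩ h
    refine Subtype.ext (ConjClasses.mk_eq_mk_iff_isConj.2 ((isConj_GU_iff hF g g').2 ?_))
    exact ConjClasses.mk_eq_mk_iff_isConj.1 (congrArg Subtype.val h)
  · rintro ⟨C, g, rfl, hg⟩
    obtain ⟨B, hB⟩ := exists_similar hF e g hg
    obtain ⟨h, hh⟩ := isConj_iff.1 hB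
    exact ⟨⟨ConjClasses.mk B, B, rfl, hh ▸ pow_sub_one_conj g h e hg⟩,
      Subtype.ext (ConjClasses.mk_eq_mk_iff_isConj.2 hB.symm)⟩

/-- Elements of order `p`. -/
theorem card_classes_order (p : ℕ) [Fact p.Prime] [CharP F p] (hF : Fintype.card F = q ^ 2) :
    Nat.card {C : ConjClasses ↥(GU n F q) // ∃ g : GU n F q, ConjClasses.mk g = C ∧ orderOf g = p} =
    (Finset.univ.filter fun μ : Nat.Partition n => ∀ a ∈ μ.parts, a ≤ p).card - 1 := by
  classical
  rw [← card_classes_GU hF p]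
  set S := {C : ConjClasses ↥(GU n F q) |
      ∃ g : GU n F q, ConjClasses.mk g = C ∧ (((g : GL (Fin n) F) : Matrix (Fin n) (Fin n) F) - 1) ^ p = 0}
  have hone : ConjClasses.mk (1 : GU n F q) ∈ S := ⟨1, rfl, by
    simp [zero_pow (Fact.out : p.Prime).ne_zero]⟩
  have hset : {C : ConjClasses ↥(GU n F q) | ∃ g : GU n F q, ConjClasses.mk g = C ∧ orderOf g = p}
      = S \ {ConjClasses.mk 1} := by
    ext C
    constructor
    · rintro ⟨g, rfl, hg⟩
      rw [← Subgroup.orderOf_coe, orderOf_eq_prime_iff' p] at hg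
      refine ⟨⟨g, rfl, hg.2⟩, fun h => hg.1 ?_⟩
      rw [isConj_one_right.1 (ConjClasses.mk_eq_mk_iff_isConj.1 h).symm]
      rfl
    · rintro ⟨⟨g, rfl, hg⟩, hne⟩
      refine ⟨g, rfl, ?_⟩
      rw [← Subgroup.orderOf_coe, orderOf_eq_prime_iff' p]
      exact ⟨fun h => hne (congrArg ConjClasses.mk (Subtype.ext h : g = 1)), hg⟩
  show Nat.card {C : ConjClasses ↥(GU n F q) | ∃ g : GU n F q, ConjClasses.mk g = C ∧ orderOf g = p} = Nat.card S - 1
  rw [hset, Nat.card_coe_set_eq, Nat.card_coe_set_eq, Set.ncard_sdiff_singleton_of_mem hone]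

end Cfsg.Agent.H57.UnitaryUnipotent
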