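import Mathlib
import Cfsg.Agent.H57.UnitaryUnipotent
import Cfsg.Agent.Arith.JordanCent
import Cfsg.Agent.Unitary.Order

/-!
# Centralisers of unipotent elements of `GU_n(q)`

The units of the commutant `A` map onto the hermitian units of `A` by `x ↦ x* x`, with fibres the
cosets of the centraliser; the hermitian units are counted by reduction modulo the ideal of
elements whose socle blocks vanish.
-/

set_option autoImplicit false
set_option linter.unusedSectionVars false

namespace Cfsg.Agent.H57.UnitaryCentralizer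

open Matrix Cfsg Cfsg.Agent.Unitary Cfsg.Agent.Arith.JordanCent

variable {F : Type*} [Field F] [Fintype F] {q : ℕ}

section Star

variable {ι κ : Type*} [Fintype ι] [DecidableEq ι] [Fintype κ] [DecidableEq κ]

/-- conjugate transpose -/
def stq (q : ℕ) (X : Matrix ι κ F) : Matrix κ ι F := (X.map fun x => x ^ q)ᵀ

theorem stq_eq (hF : Fintype.card F = q ^ 2) (X : Matrix ι κ F) : stq q X = (X.map (frob hF))ᵀ := rfl

theorem stq_apply (X : Matrix ι κ F) (i : κ) (j : ι) : stq q X i j = X j i ^ q := rfl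

theorem stq_mul (hF : Fintype.card F = q ^ 2) (X Y : Matrix ι ι F) :
    stq q (X * Y) = stq q Y * stq q X := by
  rw [stq_eq hF, stq_eq hF, stq_eq hF, Matrix.map_mul, transpose_mul]

theorem stq_one (hF : Fintype.card F = q ^ 2) : stq q (1 : Matrix ι ι F) = 1 := by
  rw [stq_eq hF, Matrix.map_one _ (map_zero _) (map_one _), transpose_one]

theorem stq_add (hF : Fintype.card F = q ^ 2) (X Y : Matrix ι ι F) :
    stq q (X + Y) = stq q X + stq q Y := by
  ext i j
  exact add_pow_q hF _ _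

theorem stq_smul (c : F) (X : Matrix ι κ F) : stq q (c • X) = c ^ q • stq q X := by
  ext i j
  exact mul_pow c _ q

theorem stq_stq (hF : Fintype.card F = q ^ 2) (X : Matrix ι κ F) : stq q (stq q X) = X := by
  ext i j
  exact pow_q_q hF _

theorem stq_reindex (e : ι ≃ κ) (X : Matrix ι ι F) :
    stq q (Matrix.reindex e e X) = Matrix.reindex e e (stq q X) := rfl

theorem stq_isUnit (hF : Fintype.card F = q ^ 2) {X : Matrix ι ι F} (h : IsUnit X) :
    IsUnit (stq q X) := by
  obtain ⟨u, rfl⟩ := h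
  exact ⟨⟨stq q u, stq q ((u⁻¹ : (Matrix ι ι F)ˣ) : Matrix ι ι F),
    by rw [← stq_mul hF, Units.inv_mul, stq_one hF],
    by rw [← stq_mul hF, Units.mul_inv, stq_one hF]⟩, rfl⟩

end Star

/-- `x ↦ x* x` from the units commuting with `u` onto the hermitian ones. -/
theorem card_commuting_units (hF : Fintype.card F = q ^ 2) {n : ℕ} (u : GU n F q) :
    Nat.card {x : GL (Fin n) F // Commute (x : Matrix (Fin n) (Fin n) F) (gmat u)} =
      Nat.card ↥(Subgroup.centralizer ({u} : Set ↥(GU n F q))) *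
      Nat.card {H : GL (Fin n) F // stq q (H : Matrix (Fin n) (Fin n) F) = H ∧
        Commute (H : Matrix (Fin n) (Fin n) F) (gmat u)} := by
  classical
  set U := gmat u
  have hU : stq q U * U = 1 := (preserves_iff_hstar hF).1 u.2
  have hU' : U * stq q U = 1 := mul_eq_one_comm.1 hU
  have hst : ∀ x : Matrix (Fin n) (Fin n) F, Commute x U → Commute (stq q x) U := by
    intro x hx
    have h1 : stq q U * stq q x = stq q x * stq q U := by rw [← stq_mul hF, hx.eq, stq_mul hF]
    show stq q x * U = U * stq q x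
    calc stq q x * U = (U * stq q U) * (stq q x * U) := by rw [hU', one_mul]
      _ = U * ((stq q U * stq q x) * U) := by simp only [mul_assoc]
      _ = U * stq q x * (stq q U * U) := by rw [h1]; simp only [mul_assoc]
      _ = U * stq q x := by rw [hU, mul_one]
  have hlift : ∀ H : {H : GL (Fin n) F // stq q (H : Matrix (Fin n) (Fin n) F) = H ∧
      Commute (H : Matrix (Fin n) (Fin n) F) U}, ∃ y : GL (Fin n) F,
      Commute (y : Matrix (Fin n) (Fin n) F) U ∧ stq q (y : Matrix (Fin n) (Fin n) F) * y = H.1 := by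
    intro H
    obtain ⟨y, ⟨y, rfl⟩, hy, hc⟩ := exists_hstar_mul_self hF H.1.isUnit H.2.1
    exact ⟨y, hc _ H.2.2, hy⟩
  choose s hsc hs using hlift
  let f : {x : GL (Fin n) F // Commute (x : Matrix (Fin n) (Fin n) F) U} →
      {H : GL (Fin n) F // stq q (H : Matrix (Fin n) (Fin n) F) = H ∧
        Commute (H : Matrix (Fin n) (Fin n) F) U} := fun x =>
    ⟨((stq_isUnit hF x.1.isUnit).mul x.1.isUnit).unit, by
      rw [IsUnit.unit_spec]
      exact ⟨by rw [stq_mul hF, stq_stq hF], (hst _ x.2).mul_left x.2⟩⟩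
  have hf : ∀ x, ((f x).1 : Matrix (Fin n) (Fin n) F) = stq q (x.1 : Matrix (Fin n) (Fin n) F) * x.1 :=
    fun x => IsUnit.unit_spec _
  have hpres : ∀ x, Preserves q ((x.1 * (s (f x))⁻¹ : GL (Fin n) F) : Matrix (Fin n) (Fin n) F) := by
    intro x
    refine (preserves_iff_hstar hF).2 ?_
    show stq q _ * _ = 1
    rw [Units.val_mul, stq_mul hF, mul_assoc, ← mul_assoc (stq q (x.1 : Matrix (Fin n) (Fin n) F)),
      ← hf, ← hs, mul_assoc, Units.mul_inv, mul_one, ← stq_mul hF, Units.mul_inv, stq_one hF]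
  have hcu : ∀ x, (⟨x.1 * (s (f x))⁻¹, hpres x⟩ : GU n F q) ∈ Subgroup.centralizer ({u} : Set ↥(GU n F q)) := by
    intro x
    rw [Subgroup.mem_centralizer_singleton_iff]
    exact Subtype.ext (Units.ext (x.2.mul_left ((hsc (f x)).units_inv_left)))
  rw [← Nat.card_prod]
  refine Nat.card_congr
    { toFun := fun x => (⟨_, hcu x⟩, f x)
      invFun := fun p => ⟨((p.1.1 : GU n F q) : GL (Fin n) F) * s p.2, ?_⟩
      left_inv := fun x => Subtype.ext (inv_mul_cancel_right _ _)
      right_inv := fun p => ?_ }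
  · have h : Commute (gmat p.1.1) U :=
      congrArg (fun g : GU n F q => gmat g) (Subgroup.mem_centralizer_singleton_iff.1 p.1.2)
    exact h.mul_left (hsc p.2)
  · have hg : stq q (gmat p.1.1) * gmat p.1.1 = 1 := (preserves_iff_hstar hF).1 p.1.1.2
    have h2 : ∀ x, (x : GL (Fin n) F) = ((p.1.1 : GU n F q) : GL (Fin n) F) * s p.2 →
        stq q (x : Matrix (Fin n) (Fin n) F) * x = (p.2.1 : Matrix (Fin n) (Fin n) F) := by
      rintro x rfl
      rw [Units.val_mul, stq_mul hF, mul_assoc, ← mul_assoc (stq q (gmat p.1.1))]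
      show stq q _ * (stq q (gmat p.1.1) * gmat p.1.1 * _) = _
      rw [hg, one_mul, hs]
    refine Prod.ext (Subtype.ext (Subtype.ext ?_)) (Subtype.ext (Units.ext ((hf _).trans (h2 _ rfl))))
    show ((p.1.1 : GU n F q) : GL (Fin n) F) * s p.2 * (s _)⁻¹ = _
    rw [show f ⟨((p.1.1 : GU n F q) : GL (Fin n) F) * s p.2, _⟩ = p.2 from
      Subtype.ext (Units.ext ((hf _).trans (h2 _ rfl))), mul_inv_cancel_right]

/-- Hermitian invertible matrices. -/
theorem card_GL_eq_mul_card_herm (hF : Fintype.card F = q ^ 2) (ι : Type) [Fintype ι] [DecidableEq ι] :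
    Nat.card (GL ι F) = Nat.card (GU (Fintype.card ι) F q) *
      Nat.card {H : GL ι F // stq q (H : Matrix ι ι F) = H} := by
  classical
  set a := Fintype.card ι
  let e : ι ≃ Fin a := Fintype.equivFin ι
  let φ : GL ι F ≃* GL (Fin a) F := Units.mapEquiv (Matrix.reindexAlgEquiv F F e).toMulEquiv
  have h1 : gmat (1 : GU a F q) = (1 : Matrix (Fin a) (Fin a) F) := rfl
  have h := card_commuting_units hF (1 : GU a F q)
  rw [h1] at h
  rw [Nat.card_congr φ.toEquiv, ← Nat.card_congr (Equiv.subtypeUnivEquiv fun x : GL (Fin a) F => Commute.one_right (x : Matrix (Fin a) (Fin a) F)),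
    h]
  congr 1
  · refine Nat.card_congr (Equiv.subtypeUnivEquiv fun g => ?_)
    rw [Subgroup.mem_centralizer_singleton_iff, one_mul, mul_one]
  · refine Nat.card_congr (φ.toEquiv.subtypeEquiv fun H => ?_).symm
    show _ ↔ stq q (Matrix.reindex e e (H : Matrix ι ι F)) = Matrix.reindex e e (H : Matrix ι ι F) ∧
      Commute (Matrix.reindex e e (H : Matrix ι ι F)) 1
    rw [stq_reindex, (Matrix.reindex e e).injective.eq_iff]
    exact (and_iff_left (Commute.one_right _)).symm

/-- A hermitian form invariant under the Jordan block of size `i`. -/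
theorem exists_block_form (hF : Fintype.card F = q ^ 2) (i : ℕ) :
    ∃ G : Matrix (Fin i) (Fin i) F, stq q G = G ∧ IsUnit G ∧
      stq q (Cfsg.jordanBlock i F) * G * Cfsg.jordanBlock i F = G ∧
      (∀ a b : Fin i, (b : ℕ) + 1 = i → (a : ℕ) ≠ 0 → G a b = 0) ∧
      (∀ a b : Fin i, (b : ℕ) + 1 = i → (a : ℕ) = 0 → G a b ≠ 0) := by
  classical
  set J := Cfsg.jordanBlock i F
  have hN : ∀ j (a b : Fin i), (a : ℕ) < (b : ℕ) + j → ((J - 1) ^ j) a b = 0 := by
    intro j
    induction j with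
    | zero => intro a b h; rw [pow_zero, Matrix.one_apply_ne]; exact fun e => by subst e; omega
    | succ j ih =>
      intro a b h
      rw [pow_succ, Matrix.mul_apply]
      refine Finset.sum_eq_zero fun c _ => ?_
      by_cases hc : (c : ℕ) = (b : ℕ) + 1
      · rw [ih a c (by omega), zero_mul]
      · rw [show (J - 1) c b = 0 by
          simp only [J, Cfsg.jordanBlock, Matrix.sub_apply, Matrix.of_apply, Matrix.one_apply, Fin.ext_iff]
          split_ifs <;> first | omega | simp, mul_zero]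
  have hJi : (J - 1) ^ i = 0 := Matrix.ext fun a b => hN i a b (by omega)
  have hJu : IsUnit J := by
    simpa using (IsNilpotent.isUnit_one_add (r := J - 1) ⟨i, hJi⟩)
  obtain ⟨B, hB⟩ := UnitaryUnipotent.exists_similar hF i hJu.unit (by rw [IsUnit.unit_spec]; exact hJi)
  obtain ⟨P, hP⟩ := isConj_iff.1 hB
  have hPJ : (P : Matrix (Fin i) (Fin i) F) * J = gmat B * P := by
    have h1 := congrArg (fun g : GL (Fin i) F => (g : Matrix (Fin i) (Fin i) F)) (mul_inv_eq_iff_eq_mul.1 hP)
    simpa [gmat] using h1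
  set G := stq q (P : Matrix (Fin i) (Fin i) F) * P with hGdef
  have hGu : IsUnit G := (stq_isUnit hF P.isUnit).mul P.isUnit
  have hinv : stq q J * G * J = G := by
    have hBs : stq q (gmat B) * gmat B = 1 := (preserves_iff_hstar hF).1 B.2
    rw [hGdef, ← mul_assoc, ← stq_mul hF, hPJ, stq_mul hF, mul_assoc (stq q (P : Matrix (Fin i) (Fin i) F) * _),
      hPJ, mul_assoc, ← mul_assoc (stq q (gmat B)), hBs, one_mul]
  have hzero : ∀ a b : Fin i, (b : ℕ) + 1 = i → (a : ℕ) ≠ 0 → G a b = 0 := by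
    intro a b hb ha
    let a' : Fin i := ⟨(a : ℕ) - 1, by omega⟩
    have hcol : ∀ c, (G * J) c b = G c b := fun c => by
      rw [Matrix.mul_apply, jordanBlock_sum_right (fun m => G c m) b, dif_neg (by omega), add_zero]
    have h1 := congrFun (congrFun hinv a') b
    rw [mul_assoc, Matrix.mul_apply] at h1
    have h2 : ∀ c, stq q J a' c * (G * J) c b = G c b * J c a' := fun c => by
      rw [hcol, stq_apply, mul_comm]
      congr 1
      simp only [J, Cfsg.jordanBlock, Matrix.of_apply]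
      split_ifs <;> simp [q_ne_zero hF]
    rw [Finset.sum_congr rfl fun c _ => h2 c, jordanBlock_sum_right (fun c => G c b) a',
      dif_pos (show (a' : ℕ) + 1 < i by show (a : ℕ) - 1 + 1 < i; omega), add_eq_left] at h1
    rwa [show (⟨(a' : ℕ) + 1, _⟩ : Fin i) = a from Fin.ext (show (a : ℕ) - 1 + 1 = a by omega)] at h1
  refine ⟨G, by rw [hGdef, stq_mul hF, stq_stq hF], hGu, hinv, hzero, fun a b hb ha h0 => ?_⟩
  have hcol : ∀ c, G c b = 0 := fun c => by
    by_cases hc : (c : ℕ) = 0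
    · rw [show c = a from Fin.ext (hc.trans ha.symm), h0]
    · exact hzero c b hb hc
  have h1 := Matrix.mulVec_injective_of_isUnit hGu
    (show G *ᵥ Pi.single b 1 = G *ᵥ 0 by rw [Matrix.mulVec_zero, Matrix.mulVec_single_one]; exact funext hcol)
  simpa using congrFun h1 b

section Count

variable {t : ℕ} {d : Fin t → ℕ}

/-- indices of the blocks of size `i` -/
abbrev Blk (d : Fin t → ℕ) (i : Fin (Finset.univ.sup d + 1)) : Type := {k : Fin t // d k = (i : ℕ)}

/-- the socle blocks -/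
def socBlock (X : Matrix (Idx d) (Idx d) F) (i : Fin (Finset.univ.sup d + 1)) :
    Matrix (Blk d i) (Blk d i) F :=
  Matrix.of fun k l => Arith.JordanCent.ext X k.1 l.1 0 0

theorem socBlock_apply (hd : ∀ k, 1 ≤ d k) (X : Matrix (Idx d) (Idx d) F) (i : Fin (Finset.univ.sup d + 1))
    (k l : Blk d i) : socBlock X i k l = X ⟨k.1, ⟨0, hd k.1⟩⟩ ⟨l.1, ⟨0, hd l.1⟩⟩ :=
  (ext_apply X k.1 l.1 ⟨0, hd k.1⟩ ⟨0, hd l.1⟩).symm

theorem socBlock_sub (X Y : Matrix (Idx d) (Idx d) F) (i : Fin (Finset.univ.sup d + 1)) :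
    socBlock (X - Y) i = socBlock X i - socBlock Y i := by
  ext k l
  simp only [socBlock, Matrix.of_apply, Matrix.sub_apply, Arith.JordanCent.ext]
  split_ifs <;> simp

theorem socBlock_add (X Y : Matrix (Idx d) (Idx d) F) (i : Fin (Finset.univ.sup d + 1)) :
    socBlock (X + Y) i = socBlock X i + socBlock Y i := by
  ext k l
  simp only [socBlock, Matrix.of_apply, Matrix.add_apply, Arith.JordanCent.ext]
  split_ifs <;> simp

theorem socBlock_smul (c : F) (X : Matrix (Idx d) (Idx d) F) (i : Fin (Finset.univ.sup d + 1)) :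
    socBlock (c • X) i = c • socBlock X i := by
  ext k l
  simp only [socBlock, Matrix.of_apply, Matrix.smul_apply, Arith.JordanCent.ext]
  split_ifs <;> simp

/-- coefficients of the block scalar lift -/
def liftCoeff (d : Fin t → ℕ) (M : (i : Fin (Finset.univ.sup d + 1)) → Matrix (Blk d i) (Blk d i) F)
    (k l : Fin t) (s : ℕ) : F :=
  if h : d l = d k ∧ s + 1 = d k then
    M ⟨d k, Nat.lt_succ_of_le (Finset.le_sup (Finset.mem_univ k))⟩ ⟨l, h.1⟩ ⟨k, rfl⟩
  else 0

theorem adm_liftCoeff (M : (i : Fin (Finset.univ.sup d + 1)) → Matrix (Blk d i) (Blk d i) F) :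
    Adm d (liftCoeff d M) := by
  intro k l s h
  rw [liftCoeff, dif_neg (by omega)]

/-- block scalar lift -/
def liftBlocks (M : (i : Fin (Finset.univ.sup d + 1)) → Matrix (Blk d i) (Blk d i) F) :
    Matrix (Idx d) (Idx d) F := ofCoeff (liftCoeff d M)

theorem socBlock_lift (hd : ∀ k, 1 ≤ d k) (M : (i : Fin (Finset.univ.sup d + 1)) → Matrix (Blk d i) (Blk d i) F)
    (i : Fin (Finset.univ.sup d + 1)) : socBlock (liftBlocks M) i = M i := by
  obtain ⟨a, ha⟩ := i
  ext ⟨k, hk⟩ ⟨l, hl⟩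
  rw [socBlock_apply hd]
  simp only at hk hl
  subst hl
  have := hd k
  simp only [liftBlocks, ofCoeff, Matrix.of_apply, liftCoeff]
  rw [dif_pos ⟨hk, by omega⟩]

theorem lift_apply (M : (i : Fin (Finset.univ.sup d + 1)) → Matrix (Blk d i) (Blk d i) F) (k l : Fin t)
    (a : Fin (d k)) (b : Fin (d l)) :
    liftBlocks M ⟨k, a⟩ ⟨l, b⟩ = if h : d k = d l ∧ (a : ℕ) = b then
      M ⟨d l, Nat.lt_succ_of_le (Finset.le_sup (Finset.mem_univ l))⟩ ⟨k, h.1⟩ ⟨l, rfl⟩ else 0 := by
  simp only [liftBlocks, ofCoeff, Matrix.of_apply, liftCoeff]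
  have := a.2
  have := b.2
  by_cases h : d k = d l ∧ (a : ℕ) = b
  · rw [dif_pos h, dif_pos ⟨h.1, by omega⟩]
  · rw [dif_neg h, dif_neg (fun h' => h ⟨h'.1, by omega⟩)]

theorem socBlock_eq_coeff (hd : ∀ k, 1 ≤ d k) (X : Matrix (Idx d) (Idx d) F) (i : Fin (Finset.univ.sup d + 1)) :
    ((socle d (coeff X)).toSquareBlock d (i : ℕ))ᵀ = socBlock X i := by
  ext ⟨l, hl⟩ ⟨k, hk⟩
  have := hd k
  simp only [Matrix.transpose_apply, Matrix.toSquareBlock_def, socle, Matrix.of_apply, socBlock, coeff]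
  rw [if_pos (by omega), show d l - 1 - (d k - 1) = 0 by omega]

theorem isUnit_iff_socBlock (hd : ∀ k, 1 ≤ d k) {X : Matrix (Idx d) (Idx d) F}
    (hX : X * jordanTypeMatrix d F = jordanTypeMatrix d F * X) :
    IsUnit X ↔ ∀ i, IsUnit (socBlock X i) := by
  conv_lhs => rw [eq_ofCoeff hX]
  rw [isUnit_ofCoeff hd (adm_coeff X), det_socle_ne_zero_iff d (adm_coeff X)]
  refine forall_congr' fun i => ?_
  rw [← socBlock_eq_coeff hd, Matrix.isUnit_iff_isUnit_det, Matrix.det_transpose, isUnit_iff_ne_zero]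

/-- the commutant of the Jordan matrix with vanishing socle blocks -/
abbrev Rad (d : Fin t → ℕ) (F : Type*) [Field F] :=
  {X : Matrix (Idx d) (Idx d) F //
    X * jordanTypeMatrix d F = jordanTypeMatrix d F * X ∧ ∀ i, socBlock X i = 0}

theorem lift_commute (M : (i : Fin (Finset.univ.sup d + 1)) → Matrix (Blk d i) (Blk d i) F) :
    liftBlocks M * jordanTypeMatrix d F = jordanTypeMatrix d F * liftBlocks M :=
  commute_ofCoeff (adm_liftCoeff M)

/-- units of the commutant -/
theorem card_units_commutant (hd : ∀ k, 1 ≤ d k) :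
    Nat.card {g : GL (Idx d) F //
      (g : Matrix (Idx d) (Idx d) F) * jordanTypeMatrix d F = jordanTypeMatrix d F * g} =
      Nat.card (Rad d F) * ∏ i, Nat.card (GL (Blk d i) F) := by
  classical
  rw [← Nat.card_pi, ← Nat.card_prod]
  refine Nat.card_congr
    { toFun := fun g => (⟨(g.1 : Matrix (Idx d) (Idx d) F) - liftBlocks fun i => socBlock (g.1 : Matrix (Idx d) (Idx d) F) i,
        by rw [sub_mul, mul_sub, g.2, lift_commute],
        fun i => by rw [socBlock_sub, socBlock_lift hd, sub_self]⟩,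
        fun i => ((isUnit_iff_socBlock hd g.2).1 g.1.isUnit i).unit)
      invFun := fun p => ⟨((isUnit_iff_socBlock hd (X := p.1.1 + liftBlocks fun i => ((p.2 i : GL (Blk d i) F) : Matrix (Blk d i) (Blk d i) F))
        (by rw [add_mul, mul_add, p.1.2.1, lift_commute])).2 fun i => by
          rw [socBlock_add, p.1.2.2, zero_add, socBlock_lift hd]; exact (p.2 i).isUnit).unit, by
          rw [IsUnit.unit_spec, add_mul, mul_add, p.1.2.1, lift_commute]⟩
      left_inv := fun g => Subtype.ext (Units.ext (by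
        rw [IsUnit.unit_spec]
        simp only [IsUnit.unit_spec]
        rw [sub_add_cancel]))
      right_inv := fun p => by
        refine Prod.ext (Subtype.ext ?_) (funext fun i => Units.ext ?_)
        · simp only [IsUnit.unit_spec, socBlock_add, p.1.2.2, zero_add, socBlock_lift hd, add_sub_cancel_right]
        · simp only [IsUnit.unit_spec, socBlock_add, p.1.2.2, zero_add, socBlock_lift hd] }

theorem card_rad (hd : ∀ k, 1 ≤ d k) :
    Nat.card (Rad d F) = Fintype.card F ^ ∑ kl : Fin t × Fin t, nfree d kl := by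
  classical
  have hpos : 0 < ∏ i, Nat.card (GL (Blk d i) F) := Finset.prod_pos fun i _ => Nat.card_pos
  refine Nat.eq_of_mul_eq_mul_right hpos ?_
  rw [← card_units_commutant hd, card_commutant d hd, Nat.card_prod, Nat.card_pi, Nat.card_pi,
    Finset.prod_congr rfl (fun kl _ => by
      rw [Nat.card_fun, Nat.card_eq_fintype_card, Nat.card_fin]), Finset.prod_pow_eq_pow_sum]

/-- the twisted adjoint -/
def tau (q : ℕ) (G : (Matrix (Idx d) (Idx d) F)ˣ) (X : Matrix (Idx d) (Idx d) F) : Matrix (Idx d) (Idx d) F :=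
  (↑G⁻¹ : Matrix (Idx d) (Idx d) F) * stq q X * (G : Matrix (Idx d) (Idx d) F)

variable {G : (Matrix (Idx d) (Idx d) F)ˣ}

theorem tau_add (hF : Fintype.card F = q ^ 2) (X Y : Matrix (Idx d) (Idx d) F) :
    tau q G (X + Y) = tau q G X + tau q G Y := by
  simp [tau, stq_add hF, mul_add, add_mul]

theorem tau_smul (c : F) (X : Matrix (Idx d) (Idx d) F) : tau q G (c • X) = c ^ q • tau q G X := by
  simp [tau, stq_smul, Matrix.smul_mul, Matrix.mul_smul]

theorem G_mul_tau (X : Matrix (Idx d) (Idx d) F) :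
    (G : Matrix (Idx d) (Idx d) F) * tau q G X = stq q X * G := by
  simp [tau, ← mul_assoc]

theorem tau_tau (hF : Fintype.card F = q ^ 2) (hG : stq q (G : Matrix (Idx d) (Idx d) F) = G)
    (X : Matrix (Idx d) (Idx d) F) : tau q G (tau q G X) = X := by
  refine G.isUnit.mul_left_cancel ?_
  rw [G_mul_tau]
  have h := congrArg (stq q) (G_mul_tau (q := q) (G := G) X)
  rw [stq_mul hF, stq_mul hF, stq_stq hF, hG] at h
  exact h

theorem tau_commute (hF : Fintype.card F = q ^ 2) {J : Matrix (Idx d) (Idx d) F}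
    (hJ : stq q J * G * J = G) {X : Matrix (Idx d) (Idx d) F} (hX : X * J = J * X) :
    tau q G X * J = J * tau q G X := by
  have hu : IsUnit (stq q J) := by
    refine IsUnit.of_mul_eq_one ((G : Matrix (Idx d) (Idx d) F) * J * (↑G⁻¹ : Matrix (Idx d) (Idx d) F)) ?_
    rw [← mul_assoc, ← mul_assoc, hJ, Units.mul_inv]
  refine G.isUnit.mul_left_cancel (hu.mul_left_cancel ?_)
  have hs : stq q X * stq q J = stq q J * stq q X := by rw [← stq_mul hF, ← stq_mul hF, hX]
  rw [← mul_assoc (G : Matrix (Idx d) (Idx d) F) (tau q G X), G_mul_tau,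
    ← mul_assoc (G : Matrix (Idx d) (Idx d) F) J, ← mul_assoc (stq q J) _ (tau q G X),
    ← mul_assoc (stq q J) (G : Matrix (Idx d) (Idx d) F) J, hJ, G_mul_tau]
  rw [mul_assoc (stq q X), ← mul_assoc (stq q J), ← hs, mul_assoc (stq q X),
    ← mul_assoc (stq q J), hJ]

variable (Gi : (i : ℕ) → Matrix (Fin i) (Fin i) F)

theorem blockDiagonal'_sum (k : Fin t) (a : Fin (d k)) (f : Idx d → F) :
    ∑ p, blockDiagonal' (fun k => Gi (d k)) ⟨k, a⟩ p * f p = ∑ c, Gi (d k) a c * f ⟨k, c⟩ := by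
  rw [Fintype.sum_sigma, Finset.sum_eq_single k]
  · simp only [blockDiagonal'_apply_eq]
  · intro m _ hm
    exact Finset.sum_eq_zero fun y _ => by rw [blockDiagonal'_apply_ne _ _ _ (Ne.symm hm), zero_mul]
  · simp

theorem blockDiagonal'_sum_right (k : Fin t) (a : Fin (d k)) (f : Idx d → F) :
    ∑ p, f p * blockDiagonal' (fun k => Gi (d k)) p ⟨k, a⟩ = ∑ c, f ⟨k, c⟩ * Gi (d k) c a := by
  rw [Fintype.sum_sigma, Finset.sum_eq_single k]
  · simp only [blockDiagonal'_apply_eq]
  · intro m _ hm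
    exact Finset.sum_eq_zero fun y _ => by rw [blockDiagonal'_apply_ne _ _ _ hm, mul_zero]
  · simp

theorem socBlock_tau (hF : Fintype.card F = q ^ 2) (hd : ∀ k, 1 ≤ d k)
    (hG : (G : Matrix (Idx d) (Idx d) F) = blockDiagonal' (fun k => Gi (d k)))
    (hz : ∀ i (a b : Fin i), (b : ℕ) + 1 = i → (a : ℕ) ≠ 0 → Gi i a b = 0)
    (hnz : ∀ i (a b : Fin i), (b : ℕ) + 1 = i → (a : ℕ) = 0 → Gi i a b ≠ 0)
    (hJ : stq q (jordanTypeMatrix d F) * G * jordanTypeMatrix d F = G)
    {X : Matrix (Idx d) (Idx d) F} (hX : X * jordanTypeMatrix d F = jordanTypeMatrix d F * X)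
    (i : Fin (Finset.univ.sup d + 1)) : socBlock (tau q G X) i = stq q (socBlock X i) := by
  ext k l
  rw [stq_apply, socBlock_apply hd, socBlock_apply hd]
  have hk1 := hd k.1
  have hl1 := hd l.1
  have hkl : d k.1 = d l.1 := k.2.trans l.2.symm
  let bk : Fin (d k.1) := ⟨d k.1 - 1, by omega⟩
  let bl : Fin (d l.1) := ⟨d l.1 - 1, by omega⟩
  have h := congrFun (congrFun (G_mul_tau (q := q) (G := G) X) ⟨k.1, ⟨0, hd k.1⟩⟩) ⟨l.1, bl⟩
  rw [Matrix.mul_apply, Matrix.mul_apply, hG, blockDiagonal'_sum, blockDiagonal'_sum_right] at h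
  have hY := eq_ofCoeff (tau_commute hF hJ hX)
  rw [Finset.sum_eq_single bk, Finset.sum_eq_single (⟨0, hd l.1⟩ : Fin (d l.1))] at h
  · have hcast : Gi (d l.1) ⟨0, hd l.1⟩ bl = Gi (d k.1) ⟨0, hd k.1⟩ bk := by
      have key : ∀ (i j : ℕ) (hij : i = j) (a b : Fin i), Gi i a b = Gi j (Fin.cast hij a) (Fin.cast hij b) := by
        rintro i j rfl a b; rfl
      rw [key (d l.1) (d k.1) hkl.symm]
      congr 1
      exact Fin.ext (by show d l.1 - 1 = d k.1 - 1; omega)
    have hdiag : tau q G X ⟨k.1, bk⟩ ⟨l.1, bl⟩ = tau q G X ⟨k.1, ⟨0, hd k.1⟩⟩ ⟨l.1, ⟨0, hd l.1⟩⟩ := by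
      rw [hY]
      simp only [ofCoeff, Matrix.of_apply, bk, bl]
      congr 1
      omega
    rw [hcast, hdiag, stq_apply, mul_comm (_ ^ q)] at h
    exact mul_left_cancel₀ (hnz _ ⟨0, hd k.1⟩ bk (by show d k.1 - 1 + 1 = _; omega) rfl) h
  · intro c _ hc
    rw [hz _ c bl (by show d l.1 - 1 + 1 = _; omega) (fun h0 => hc (Fin.ext h0)), mul_zero]
  · simp
  · intro c _ hc
    rw [hY]
    simp only [ofCoeff, Matrix.of_apply, bl]
    have := c.2
    have hne : (c : ℕ) ≠ d k.1 - 1 := fun h0 => hc (Fin.ext h0)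
    rw [adm_coeff _ l.1 k.1 _ (Or.inr (by omega)), mul_zero]
  · simp

theorem tau_lift (hF : Fintype.card F = q ^ 2)
    (hG : (G : Matrix (Idx d) (Idx d) F) = blockDiagonal' (fun k => Gi (d k)))
    {M : (i : Fin (Finset.univ.sup d + 1)) → Matrix (Blk d i) (Blk d i) F}
    (hM : ∀ i, stq q (M i) = M i) : tau q G (liftBlocks M) = liftBlocks M := by
  refine G.isUnit.mul_left_cancel ?_
  rw [G_mul_tau, hG]
  ext ⟨k, a⟩ ⟨l, b⟩
  rw [Matrix.mul_apply, Matrix.mul_apply, blockDiagonal'_sum_right, blockDiagonal'_sum]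
  by_cases hkl : d k = d l
  · have key : ∀ c : Fin (d l), stq q (liftBlocks M) ⟨k, a⟩ ⟨l, c⟩ = liftBlocks M ⟨k, a⟩ ⟨l, c⟩ := by
      intro c
      rw [stq_apply, lift_apply, lift_apply]
      by_cases hc : (a : ℕ) = c
      · rw [dif_pos ⟨hkl.symm, hc.symm⟩, dif_pos ⟨hkl, hc⟩]
        have e := hM ⟨d l, Nat.lt_succ_of_le (Finset.le_sup (Finset.mem_univ l))⟩
        have e2 := congrFun (congrFun e ⟨k, hkl⟩) ⟨l, rfl⟩
        rw [stq_apply] at e2
        rw [← e2]
        congr 1
        have key : ∀ (i j : Fin (Finset.univ.sup d + 1)) (hij : i = j) (k' l' : Blk d i),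
            M i k' l' = M j ⟨k'.1, hij ▸ k'.2⟩ ⟨l'.1, hij ▸ l'.2⟩ := by
          rintro i j rfl k' l'; rfl
        exact key _ _ (Fin.ext hkl) _ _
      · rw [dif_neg (fun h => hc h.2.symm), dif_neg (fun h => hc h.2), zero_pow (q_ne_zero hF)]
    simp only [key, lift_apply]
    let cl : Fin (d l) := Fin.cast hkl a
    let ck : Fin (d k) := Fin.cast hkl.symm b
    rw [Finset.sum_eq_single cl, Finset.sum_eq_single ck]
    · rw [dif_pos ⟨hkl, rfl⟩, dif_pos ⟨hkl, rfl⟩, mul_comm]
      congr 1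
      have key : ∀ (i j : ℕ) (hij : i = j) (a b : Fin i), Gi i a b = Gi j (Fin.cast hij a) (Fin.cast hij b) := by
        rintro i j rfl a b; rfl
      exact (key (d k) (d l) hkl a ck).symm
    · intro c _ hc
      rw [dif_neg (fun h => hc (Fin.ext h.2)), mul_zero]
    · simp
    · intro c _ hc
      rw [dif_neg (fun h => hc (Fin.ext h.2.symm)), zero_mul]
    · simp
  · rw [Finset.sum_eq_zero fun c _ => ?_, Finset.sum_eq_zero fun c _ => ?_]
    · rw [lift_apply, dif_neg (fun h => hkl h.1), mul_zero]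
    · rw [stq_apply, lift_apply, dif_neg (fun h => hkl h.1.symm), zero_pow (q_ne_zero hF), zero_mul]

/-- hermitian units of the commutant -/
theorem card_sym_units (hF : Fintype.card F = q ^ 2) (hd : ∀ k, 1 ≤ d k)
    (hG : (G : Matrix (Idx d) (Idx d) F) = blockDiagonal' (fun k => Gi (d k)))
    (hGs : stq q (G : Matrix (Idx d) (Idx d) F) = G)
    (hz : ∀ i (a b : Fin i), (b : ℕ) + 1 = i → (a : ℕ) ≠ 0 → Gi i a b = 0)
    (hnz : ∀ i (a b : Fin i), (b : ℕ) + 1 = i → (a : ℕ) = 0 → Gi i a b ≠ 0)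
    (hJ : stq q (jordanTypeMatrix d F) * G * jordanTypeMatrix d F = G) :
    Nat.card {X : GL (Idx d) F // tau q G (X : Matrix (Idx d) (Idx d) F) = X ∧
      (X : Matrix (Idx d) (Idx d) F) * jordanTypeMatrix d F = jordanTypeMatrix d F * X} =
      q ^ (∑ kl : Fin t × Fin t, nfree d kl) *
        ∏ i, Nat.card {H : GL (Blk d i) F // stq q (H : Matrix (Blk d i) (Blk d i) F) = H} := by
  classical
  obtain ⟨θ, hθ⟩ : ∃ θ : F, θ - θ ^ q ≠ 0 := by
    obtain ⟨δ, hδ0, hδ⟩ := exists_skew hF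
    by_contra hcon
    push Not at hcon
    have h1 := hcon δ
    rw [hδ, sub_neg_eq_add] at h1
    obtain ⟨x, hx⟩ := exists_trace_ne_zero hF
    have h2 : (2 : F) = 0 := (mul_eq_zero.1 (show (2 : F) * δ = 0 by linear_combination h1)).resolve_right hδ0
    exact hx (by linear_combination -(hcon x) + x * h2)
  have hθ' : θ ^ q - θ ≠ 0 := fun h => hθ (by linear_combination -h)
  have hrt : ∀ X : Rad d F, tau q G X.1 * jordanTypeMatrix d F = jordanTypeMatrix d F * tau q G X.1 ∧
      ∀ i, socBlock (tau q G X.1) i = 0 := fun X => ⟨tau_commute hF hJ X.2.1, fun i => by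
    rw [socBlock_tau Gi hF hd hG hz hnz hJ X.2.1, X.2.2]
    ext a b
    exact zero_pow (q_ne_zero hF)⟩
  let Fix := {X : Rad d F // tau q G X.1 = X.1}
  have hfix : Nat.card Fix = q ^ (∑ kl : Fin t × Fin t, nfree d kl) := by
    have e : Nat.card (Fix × Fix) = Nat.card (Rad d F) := by
      let c : F := (θ - θ ^ q)⁻¹
      have hc : c ^ q = -c := by
        simp only [c, inv_pow, sub_pow_q hF, pow_q_q hF]
        rw [← neg_sub θ (θ ^ q), inv_neg]
      refine (Nat.card_eq_of_bijective (fun p : Fix × Fix =>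
        (⟨p.1.1.1 + θ • p.2.1.1, by rw [add_mul, mul_add, p.1.1.2.1, Matrix.smul_mul, Matrix.mul_smul, p.2.1.2.1],
          fun i => by rw [socBlock_add, socBlock_smul, p.1.1.2.2, p.2.1.2.2, smul_zero, add_zero]⟩ : Rad d F))
        ⟨?_, ?_⟩)
      · rintro ⟨a, b⟩ ⟨a', b'⟩ h
        have h1 : a.1.1 + θ • b.1.1 = a'.1.1 + θ • b'.1.1 := congrArg Subtype.val h
        have h2 := congrArg (tau q G) h1
        rw [tau_add hF, tau_add hF, tau_smul, tau_smul, a.2, b.2, a'.2, b'.2] at h2
        have h3 : (θ - θ ^ q) • b.1.1 = (θ - θ ^ q) • b'.1.1 := by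
          rw [sub_smul, sub_smul]
          calc θ • b.1.1 - θ ^ q • b.1.1 = (a.1.1 + θ • b.1.1) - (a.1.1 + θ ^ q • b.1.1) := by abel
            _ = (a'.1.1 + θ • b'.1.1) - (a'.1.1 + θ ^ q • b'.1.1) := by rw [h1, h2]
            _ = _ := by abel
        have hb : b.1.1 = b'.1.1 := smul_right_injective _ hθ h3
        have ha : a.1.1 = a'.1.1 := by rw [hb] at h1; exact add_right_cancel h1
        exact Prod.ext (Subtype.ext (Subtype.ext ha)) (Subtype.ext (Subtype.ext hb))
      · intro x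
        set b := c • (x.1 - tau q G x.1)
        have hbmem : b * jordanTypeMatrix d F = jordanTypeMatrix d F * b ∧ ∀ i, socBlock b i = 0 :=
          ⟨by rw [Matrix.smul_mul, Matrix.mul_smul, sub_mul, mul_sub, x.2.1, (hrt x).1],
            fun i => by rw [socBlock_smul, socBlock_sub, x.2.2, (hrt x).2, sub_zero, smul_zero]⟩
        have hbfix : tau q G b = b := by
          rw [tau_smul, hc, sub_eq_add_neg, tau_add hF, ← neg_one_smul F (tau q G x.1), tau_smul,
            tau_tau hF hGs, neg_pow_q hF, one_pow]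
          show -c • (tau q G x.1 + (-1 : F) • x.1) = c • (x.1 - tau q G x.1)
          module
        have hamem : (x.1 - θ • b) * jordanTypeMatrix d F = jordanTypeMatrix d F * (x.1 - θ • b) ∧
            ∀ i, socBlock (x.1 - θ • b) i = 0 :=
          ⟨by rw [sub_mul, mul_sub, Matrix.smul_mul, Matrix.mul_smul, x.2.1, hbmem.1],
            fun i => by rw [socBlock_sub, socBlock_smul, x.2.2, hbmem.2, smul_zero, sub_zero]⟩
        refine ⟨(⟨⟨_, hamem⟩, ?_⟩, ⟨⟨b, hbmem⟩, hbfix⟩), Subtype.ext (sub_add_cancel _ _)⟩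
        show tau q G (x.1 - θ • b) = x.1 - θ • b
        rw [sub_eq_add_neg, tau_add hF, ← neg_smul, tau_smul, hbfix, neg_pow_q hF]
        have hcb : (θ - θ ^ q) • b = x.1 - tau q G x.1 := by
          rw [smul_smul, mul_inv_cancel₀ hθ, one_smul]
        rw [sub_smul] at hcb
        linear_combination (norm := module) hcb
    rw [card_rad hd, Nat.card_prod, hF, ← pow_mul, mul_comm 2, pow_mul, ← pow_two] at e
    exact Nat.pow_left_injective two_ne_zero e
  rw [← hfix, ← Nat.card_pi, ← Nat.card_prod]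
  have hunit : ∀ p : Fix × ((i : Fin (Finset.univ.sup d + 1)) → {H : GL (Blk d i) F // stq q (H : Matrix (Blk d i) (Blk d i) F) = H}),
      IsUnit (p.1.1.1 + liftBlocks fun i => ((p.2 i).1 : Matrix (Blk d i) (Blk d i) F)) := fun p =>
    (isUnit_iff_socBlock hd (by rw [add_mul, mul_add, p.1.1.2.1, lift_commute])).2 fun i => by
      rw [socBlock_add, p.1.1.2.2, zero_add, socBlock_lift hd]; exact (p.2 i).1.isUnit
  have hmem : ∀ p, tau q G ((hunit p).unit : Matrix (Idx d) (Idx d) F) = (hunit p).unit ∧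
      ((hunit p).unit : Matrix (Idx d) (Idx d) F) * jordanTypeMatrix d F =
        jordanTypeMatrix d F * (hunit p).unit := fun p => by
    rw [IsUnit.unit_spec]
    exact ⟨by rw [tau_add hF, p.1.2, tau_lift Gi hF hG fun i => (p.2 i).2],
      by rw [add_mul, mul_add, p.1.1.2.1, lift_commute]⟩
  refine (Nat.card_eq_of_bijective (fun p => ⟨(hunit p).unit, hmem p⟩) ⟨?_, ?_⟩).symm
  · rintro p p' h
    have h1 := congrArg (fun X => ((X.1 : GL (Idx d) F) : Matrix (Idx d) (Idx d) F)) h
    simp only [IsUnit.unit_spec] at h1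
    have h2 : p.2 = p'.2 := funext fun i => Subtype.ext (Units.ext (by
      have := congrArg (fun X => socBlock X i) h1
      simpa only [socBlock_add, p.1.1.2.2, p'.1.1.2.2, zero_add, socBlock_lift hd] using this))
    rw [h2] at h1
    exact Prod.ext (Subtype.ext (Subtype.ext (add_right_cancel h1))) h2
  · rintro ⟨X, hXt, hXc⟩
    have hsoc : ∀ i, stq q (socBlock (X : Matrix (Idx d) (Idx d) F) i) = socBlock (X : Matrix (Idx d) (Idx d) F) i :=
      fun i => by rw [← socBlock_tau Gi hF hd hG hz hnz hJ hXc, hXt]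
    refine ⟨(⟨⟨(X : Matrix (Idx d) (Idx d) F) - liftBlocks fun i => socBlock (X : Matrix (Idx d) (Idx d) F) i,
      by rw [sub_mul, mul_sub, hXc, lift_commute],
      fun i => by rw [socBlock_sub, socBlock_lift hd, sub_self]⟩, ?_⟩,
      fun i => ⟨((isUnit_iff_socBlock hd hXc).1 X.isUnit i).unit, by rw [IsUnit.unit_spec]; exact hsoc i⟩),
      Subtype.ext (Units.ext ?_)⟩
    · show tau q G (_ - _) = _ - _
      rw [sub_eq_add_neg, tau_add hF, ← neg_one_smul F (liftBlocks _), tau_smul, hXt,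
        tau_lift Gi hF hG hsoc, neg_pow_q hF, one_pow]
    · simp only [IsUnit.unit_spec]
      rw [sub_add_cancel]

end Count

/-- The order of the centraliser. -/
theorem card_centralizer (hF : Fintype.card F = q ^ 2) {n t : ℕ} (d : Fin t → ℕ) (hd : ∀ k, 1 ≤ d k)
    (e : Idx d ≃ Fin n) (u : GU n F q)
    (hu : IsConj (Matrix.reindex e e (jordanTypeMatrix d F)) ((u : GL (Fin n) F) : Matrix (Fin n) (Fin n) F)) :
    Nat.card ↥(Subgroup.centralizer ({u} : Set ↥(GU n F q))) =
      q ^ (∑ kl : Fin t × Fin t, nfree d kl) *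
        ∏ i : Fin (Finset.univ.sup d + 1), Nat.card (GU (Fintype.card (Blk d i)) F q) := by
  classical
  choose Gi hGs hGu hGJ hz hnz using fun i => exists_block_form (F := F) hF i
  have hBu : IsUnit (blockDiagonal' fun k => Gi (d k)) :=
    (Pi.isUnit_iff.2 fun k => hGu (d k)).map (Matrix.blockDiagonal'RingHom (fun k => Fin (d k)) F)
  set G := hBu.unit with hGdef
  have hG : (G : Matrix (Idx d) (Idx d) F) = blockDiagonal' fun k => Gi (d k) := hBu.unit_spec
  have hst : ∀ M : (k : Fin t) → Matrix (Fin (d k)) (Fin (d k)) F,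
      stq q (blockDiagonal' M) = blockDiagonal' fun k => stq q (M k) := fun M => by
    rw [stq, blockDiagonal'_map M (fun x : F => x ^ q) (zero_pow (q_ne_zero hF)), blockDiagonal'_transpose]
    rfl
  have hGs' : stq q (G : Matrix (Idx d) (Idx d) F) = G := by
    rw [hG, hst]
    exact congrArg _ (funext fun k => hGs _)
  have hJ : stq q (jordanTypeMatrix d F) * G * jordanTypeMatrix d F = G := by
    rw [hG, jordanTypeMatrix, hst, ← blockDiagonal'_mul, ← blockDiagonal'_mul]
    exact congrArg _ (funext fun k => hGJ _)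
  set R := Matrix.reindexAlgEquiv F F e with hR
  have hRst : ∀ X, stq q (R X) = R (stq q X) := fun X => stq_reindex e X
  obtain ⟨y, hyu, hy, -⟩ := exists_hstar_mul_self hF (H := R (G : Matrix (Idx d) (Idx d) F))
    ((G.isUnit).map R) (by show stq q _ = _; rw [hRst, hGs'])
  obtain ⟨Y, rfl⟩ := hyu
  have hy : stq q (Y : Matrix (Fin n) (Fin n) F) * Y = R (G : Matrix (Idx d) (Idx d) F) := hy
  let Φ : Matrix (Idx d) (Idx d) F ≃* Matrix (Fin n) (Fin n) F :=
    { toFun := fun X => Y * R X * (↑Y⁻¹ : Matrix (Fin n) (Fin n) F)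
      invFun := fun Z => R.symm ((↑Y⁻¹ : Matrix (Fin n) (Fin n) F) * Z * Y)
      left_inv := fun X => by
        simp only [mul_assoc, Units.inv_mul_cancel_left, Units.inv_mul, mul_one, AlgEquiv.symm_apply_apply]
      right_inv := fun Z => by
        simp only [AlgEquiv.apply_symm_apply, mul_assoc, Units.mul_inv_cancel_left, Units.mul_inv, mul_one]
      map_mul' := fun A B => by
        simp only [map_mul, mul_assoc, Units.inv_mul_cancel_left] }
  have hΦ : ∀ X, Φ X = Y * R X * (↑Y⁻¹ : Matrix (Fin n) (Fin n) F) := fun X => rfl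
  have hΦt : ∀ X, stq q (Φ X) = Φ (tau q G X) := by
    intro X
    refine (stq_isUnit hF Y.isUnit).mul_left_cancel ?_
    rw [hΦ, hΦ, stq_mul hF, stq_mul hF, hRst, ← mul_assoc, ← stq_mul hF, Units.inv_mul, stq_one hF, one_mul,
      ← mul_assoc, ← mul_assoc, hy, ← map_mul, G_mul_tau, map_mul, ← hy, ← mul_assoc, mul_assoc _ _ (↑Y⁻¹ : Matrix (Fin n) (Fin n) F),
      Units.mul_inv, mul_one]
  have hU0 : Preserves q (Φ (jordanTypeMatrix d F)) := by
    refine (preserves_iff_hstar hF).2 ?_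
    show stq q _ * _ = 1
    rw [hΦt, ← map_mul, tau, mul_assoc, mul_assoc, ← mul_assoc (stq q _), hJ, Units.inv_mul, map_one]
  let u₀ : GU n F q := toGU hF hU0
  have hu₀ : gmat u₀ = Φ (jordanTypeMatrix d F) := coe_toGU hF hU0
  have hconj : IsConj u u₀ := by
    obtain ⟨c, hc⟩ := hu
    refine (isConj_GU_iff hF u u₀).2 (isConj_iff.2 ⟨Y * c⁻¹, ?_⟩)
    rw [mul_inv_eq_iff_eq_mul]
    refine Units.ext ?_
    show (Y : Matrix (Fin n) (Fin n) F) * (↑c⁻¹ : Matrix (Fin n) (Fin n) F) * ((u : GL (Fin n) F) : Matrix (Fin n) (Fin n) F)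
      = gmat u₀ * ((Y : Matrix (Fin n) (Fin n) F) * (↑c⁻¹ : Matrix (Fin n) (Fin n) F))
    rw [hu₀, hΦ, mul_assoc (Y : Matrix (Fin n) (Fin n) F), mul_assoc, mul_assoc (Y : Matrix (Fin n) (Fin n) F),
      ← mul_assoc (↑Y⁻¹ : Matrix (Fin n) (Fin n) F), Units.inv_mul, one_mul]
    congr 1
    apply c.isUnit.mul_left_cancel
    rw [← mul_assoc (c : Matrix (Fin n) (Fin n) F), Units.mul_inv, one_mul,
      ← mul_assoc (c : Matrix (Fin n) (Fin n) F)]
    show _ = (c : Matrix (Fin n) (Fin n) F) * Matrix.reindex e e (jordanTypeMatrix d F) * _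
    rw [hc.eq, mul_assoc, Units.mul_inv, mul_one]
  have hcent : Nat.card ↥(Subgroup.centralizer ({u} : Set ↥(GU n F q))) =
      Nat.card ↥(Subgroup.centralizer ({u₀} : Set ↥(GU n F q))) := by
    obtain ⟨g, hg⟩ := isConj_iff.1 hconj
    refine Nat.card_congr ((MulAut.conj g).toEquiv.subtypeEquiv fun x => ?_)
    rw [← hg]
    show x ∈ Subgroup.centralizer {u} ↔ g * x * g⁻¹ ∈ Subgroup.centralizer {g * u * g⁻¹}
    rw [Subgroup.mem_centralizer_singleton_iff, Subgroup.mem_centralizer_singleton_iff,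
      show g * x * g⁻¹ * (g * u * g⁻¹) = g * (x * u) * g⁻¹ by group,
      show g * u * g⁻¹ * (g * x * g⁻¹) = g * (u * x) * g⁻¹ by group, mul_left_inj, mul_right_inj]
  have hmain := card_commuting_units hF u₀
  rw [hu₀, ← hcent] at hmain
  have e1 : Nat.card {x : GL (Fin n) F // Commute (x : Matrix (Fin n) (Fin n) F) (Φ (jordanTypeMatrix d F))} =
      Nat.card {g : GL (Idx d) F //
        (g : Matrix (Idx d) (Idx d) F) * jordanTypeMatrix d F = jordanTypeMatrix d F * g} := by
    refine Nat.card_congr ((Units.mapEquiv Φ).toEquiv.subtypeEquiv fun g => ?_).symm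
    show _ ↔ Φ _ * Φ _ = Φ _ * Φ _
    rw [← map_mul, ← map_mul, Φ.injective.eq_iff]
  have e2 : Nat.card {H : GL (Fin n) F // stq q (H : Matrix (Fin n) (Fin n) F) = H ∧
        Commute (H : Matrix (Fin n) (Fin n) F) (Φ (jordanTypeMatrix d F))} =
      Nat.card {X : GL (Idx d) F // tau q G (X : Matrix (Idx d) (Idx d) F) = X ∧
        (X : Matrix (Idx d) (Idx d) F) * jordanTypeMatrix d F = jordanTypeMatrix d F * X} := by
    refine Nat.card_congr ((Units.mapEquiv Φ).toEquiv.subtypeEquiv fun g => ?_).symm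
    show _ ↔ stq q (Φ _) = Φ _ ∧ Φ _ * Φ _ = Φ _ * Φ _
    rw [hΦt, ← map_mul, ← map_mul, Φ.injective.eq_iff, Φ.injective.eq_iff]
  rw [e1, e2, card_units_commutant hd, card_rad hd, card_sym_units Gi hF hd hG hGs' hz hnz hJ, hF,
    Finset.prod_congr rfl (fun i _ => card_GL_eq_mul_card_herm hF (Blk d i)), Finset.prod_mul_distrib] at hmain
  have hpos : 0 < q ^ (∑ kl : Fin t × Fin t, nfree d kl) *
      ∏ i : Fin (Finset.univ.sup d + 1), Nat.card {H : GL (Blk d i) F // stq q (H : Matrix (Blk d i) (Blk d i) F) = H} := by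
    refine Nat.mul_pos (pow_pos (q_pos hF) _) (Finset.prod_pos fun i _ => ?_)
    have : Nonempty {H : GL (Blk d i) F // stq q (H : Matrix (Blk d i) (Blk d i) F) = H} := ⟨⟨1, stq_one hF⟩⟩
    exact Nat.card_pos
  refine Nat.eq_of_mul_eq_mul_right hpos (hmain.symm.trans ?_)
  rw [← pow_mul, mul_comm 2, pow_mul]
  ring

end Cfsg.Agent.H57.UnitaryCentralizer
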