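import Mathlib
import Cfsg.Agent.H57.UnitaryCentralizer
import Cfsg.Agent.H57.Diagonalise
import Cfsg.Agent.H72.OrthTypeFix
import Cfsg.Agent.H72.UnipotentTypes
import Cfsg.Agent.H58.FormInvariants

/-!
# Invariant alternating forms of a unipotent Jordan matrix, up to congruence by its centraliser

Over a finite field of odd order the orbits are separated by the square classes of the determinants
of the forms induced on the blocks of each even size.
-/

set_option autoImplicit false
set_option linter.unusedSectionVars false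
set_option linter.style.haveILetI false

namespace Cfsg.Agent.H57.SpForms

open Matrix Cfsg Cfsg.Agent.Arith.JordanCent Cfsg.Agent.H58.FormSim
open Cfsg.Agent.H57.UnitaryCentralizer (Blk socBlock Rad liftBlocks socBlock_lift lift_commute isUnit_iff_socBlock
  card_rad socBlock_sub socBlock_add)

variable {F : Type*} [Field F] [Fintype F]

/-- A non-singular alternating form has a symplectic frame. -/
theorem exists_frame {κ : Type} [Fintype κ] [DecidableEq κ] {H : Matrix κ κ F} (hd : H.det ≠ 0)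
    (halt : ∀ v, bf H v v = 0) {m : ℕ} (hcard : Fintype.card κ = 2 * m) :
    ∃ (P : Matrix (Fin m ⊕ Fin m) κ F) (Q : Matrix κ (Fin m ⊕ Fin m) F), P * Q = 1 ∧ Q * P = 1 ∧
      Pᵀ * Matrix.J (Fin m) F * P = H := by
  obtain ⟨m', hm', E, l, hl, hE⟩ := H58.FormClass.congr_J hd halt
  obtain rfl : m' = m := by omega
  set R : Matrix κ (Fin m' ⊕ Fin m') F := LinearMap.toMatrix' (E : (Fin m' ⊕ Fin m' → F) →ₗ[F] (κ → F))
  set R' : Matrix (Fin m' ⊕ Fin m') κ F := LinearMap.toMatrix' (E.symm : (κ → F) →ₗ[F] (Fin m' ⊕ Fin m' → F))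
  have hRv : ∀ u, R *ᵥ u = E u := fun u => LinearMap.toMatrix'_mulVec _ u
  have h1 : R * R' = 1 := by
    rw [← LinearMap.toMatrix'_comp, LinearEquiv.comp_symm, LinearMap.toMatrix'_id]
  have h2 : R' * R = 1 := by
    rw [← LinearMap.toMatrix'_comp, LinearEquiv.symm_comp, LinearMap.toMatrix'_id]
  have hR : Rᵀ * H * R = l • Matrix.J (Fin m') F := by
    refine bf_inj fun u v => ?_
    rw [bf_smul_mat, ← hE, ← hRv, ← hRv]
    simp only [bf, ← Matrix.mulVec_mulVec, Matrix.dotProduct_mulVec u, Matrix.vecMul_transpose]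
  let D : Matrix (Fin m' ⊕ Fin m') (Fin m' ⊕ Fin m') F := fromBlocks (l • 1) 0 0 1
  let D' : Matrix (Fin m' ⊕ Fin m') (Fin m' ⊕ Fin m') F := fromBlocks (l⁻¹ • 1) 0 0 1
  have hDD' : D * D' = 1 := by
    simp [D, D', fromBlocks_multiply, Matrix.smul_mul, smul_smul, hl, fromBlocks_one]
  have hD'D : D' * D = 1 := mul_eq_one_comm.1 hDD'
  have hD : Dᵀ * Matrix.J (Fin m') F * D = l • Matrix.J (Fin m') F := by
    simp [D, Matrix.J, fromBlocks_multiply, fromBlocks_transpose, fromBlocks_smul, Matrix.smul_mul,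
      Matrix.mul_smul]
  refine ⟨D * R', R * D', ?_, ?_, ?_⟩
  · rw [Matrix.mul_assoc, ← Matrix.mul_assoc R', h2, Matrix.one_mul, hDD']
  · rw [Matrix.mul_assoc, ← Matrix.mul_assoc D', hD'D, Matrix.one_mul, h1]
  · calc (D * R')ᵀ * Matrix.J (Fin m') F * (D * R')
        = R'ᵀ * (Dᵀ * Matrix.J (Fin m') F * D) * R' := by
          rw [Matrix.transpose_mul]; simp only [Matrix.mul_assoc]
      _ = R'ᵀ * (Rᵀ * H * R) * R' := by rw [hD, hR]
      _ = (R * R')ᵀ * H * (R * R') := by rw [Matrix.transpose_mul]; simp only [Matrix.mul_assoc]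
      _ = H := by rw [h1, Matrix.transpose_one, Matrix.one_mul, Matrix.mul_one]

/-- Symmetric forms are congruent when their determinants are in the same square class. -/
theorem sym_congr (h2 : (2 : F) ≠ 0) {ι : Type} [Fintype ι] [DecidableEq ι] {H₁ H₂ : Matrix ι ι F}
    (hs₁ : H₁ᵀ = H₁) (hs₂ : H₂ᵀ = H₂) (hd₁ : H₁.det ≠ 0) (hd₂ : H₂.det ≠ 0)
    (hsq : IsSquare (H₁.det * H₂.det)) : ∃ P : Matrix ι ι F, Pᵀ * H₁ * P = H₂ := by
  classical
  rcases Nat.eq_zero_or_pos (Fintype.card ι) with h0 | hpos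
  · haveI : IsEmpty ι := Fintype.card_eq_zero_iff.1 h0
    exact ⟨1, Subsingleton.elim _ _⟩
  obtain ⟨n, hn⟩ : ∃ n, Fintype.card ι = n + 1 := ⟨Fintype.card ι - 1, by omega⟩
  let e : Fin (n + 1) ≃ ι := (Fintype.equivFinOfCardEq hn).symm
  have key : ∀ {H : Matrix ι ι F}, Hᵀ = H → H.det ≠ 0 → ∃ (d : F) (P P' : Matrix ι ι F),
      P * P' = 1 ∧ Pᵀ * H * P = Matrix.diagonal (fun i => lastWeight n d (e.symm i)) ∧ d ≠ 0 := by
    intro H hs hd
    obtain ⟨d, b, hd0, hb, hb'⟩ := exists_diag h2 (H58.FormClass.qf H) (H58.FormClass.qf_nondeg h2 hs hd) n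
      (by rw [Module.finrank_fintype_fun_eq_card, hn])
    let b' := b.reindex e
    let P : Matrix ι ι F := LinearMap.toMatrix' (b'.equivFun.symm : (ι → F) →ₗ[F] (ι → F))
    let P' : Matrix ι ι F := LinearMap.toMatrix' (b'.equivFun : (ι → F) →ₗ[F] (ι → F))
    have hPP' : P * P' = 1 := by
      rw [← LinearMap.toMatrix'_comp, LinearEquiv.symm_comp, LinearMap.toMatrix'_id]
    have hcol : ∀ i, P *ᵥ Pi.single i 1 = b' i := fun i => by
      rw [LinearMap.toMatrix'_mulVec]
      exact b'.equivFun.symm_apply_eq.2 (funext fun j => by rw [b'.equivFun_self, Pi.single_apply]; simp [eq_comm])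
    refine ⟨d, P, P', hPP', ?_, hd0⟩
    ext i j
    rw [← bf_single (Pᵀ * H * P), ← bf_mulVec, hcol, hcol, Matrix.diagonal_apply, Module.Basis.reindex_apply,
      Module.Basis.reindex_apply]
    split_ifs with hij
    · subst hij
      rw [← H58.FormClass.qf_apply, hb]
    · have h := hb' _ _ (fun h => hij (e.symm.injective h))
      rw [H58.FormClass.polar_qf hs] at h
      exact (mul_eq_zero.1 h).resolve_left h2
  obtain ⟨d₁, P₁, P₁', h1, h1', hd1⟩ := key hs₁ hd₁
  obtain ⟨d₂, P₂, P₂', h3, h3', hd2⟩ := key hs₂ hd₂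
  have hdet : ∀ {H P P' : Matrix ι ι F} {d : F}, P * P' = 1 →
      Pᵀ * H * P = Matrix.diagonal (fun i => lastWeight n d (e.symm i)) → P.det ≠ 0 ∧ P.det ^ 2 * H.det = d := by
    intro H P P' d hP hPd
    have h := congrArg Matrix.det hPd
    rw [Matrix.det_mul, Matrix.det_mul, Matrix.det_transpose, Matrix.det_diagonal, ← e.prod_comp] at h
    refine ⟨fun h0 => ?_, ?_⟩
    · have := congrArg Matrix.det hP
      rw [Matrix.det_mul, h0, zero_mul, Matrix.det_one] at this
      exact zero_ne_one this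
    · rw [show d = ∏ i, lastWeight n d (e.symm (e i)) by
        simp [lastWeight, Fin.prod_univ_castSucc], ← h]
      ring
  obtain ⟨hp1, e1⟩ := hdet h1 h1'
  obtain ⟨hp2, e2⟩ := hdet h3 h3'
  obtain ⟨r, hr⟩ : IsSquare (d₁ * d₂) := by
    rw [← e1, ← e2, show P₁.det ^ 2 * H₁.det * (P₂.det ^ 2 * H₂.det) = (P₁.det * P₂.det) ^ 2 * (H₁.det * H₂.det) by ring]
    exact (isSquare_mul_sq_iff (mul_ne_zero hp1 hp2)).2 hsq
  let w : Fin (n + 1) → F := lastWeight n (r / d₁)
  let S : Matrix ι ι F := Matrix.diagonal (fun i => w (e.symm i))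
  have hS : Sᵀ * (P₁ᵀ * H₁ * P₁) * S = P₂ᵀ * H₂ * P₂ := by
    rw [h1', h3', Matrix.diagonal_transpose, Matrix.diagonal_mul_diagonal, Matrix.diagonal_mul_diagonal]
    congr 1
    funext i
    simp only [w]
    induction e.symm i using Fin.lastCases with
    | last =>
      simp only [lastWeight, Fin.snoc_last]
      field_simp
      linear_combination -hr
    | cast j => simp [lastWeight]
  refine ⟨P₁ * S * P₂', ?_⟩
  calc (P₁ * S * P₂')ᵀ * H₁ * (P₁ * S * P₂')
      = P₂'ᵀ * (Sᵀ * (P₁ᵀ * H₁ * P₁) * S) * P₂' := by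
        simp only [Matrix.transpose_mul, Matrix.mul_assoc]
    _ = (P₂ * P₂')ᵀ * H₂ * (P₂ * P₂') := by
        rw [hS, Matrix.transpose_mul]; simp only [Matrix.mul_assoc]
    _ = H₂ := by rw [h3, Matrix.transpose_one, Matrix.one_mul, Matrix.mul_one]

variable {t : ℕ} {d : Fin t → ℕ}

/-- invariant alternating forms -/
def Inv (G : Matrix (Idx d) (Idx d) F) : Prop :=
  (jordanTypeMatrix d F)ᵀ * G * jordanTypeMatrix d F = G ∧ Gᵀ = -G ∧ IsUnit G

/-- the induced form on the blocks of size `j` -/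
def botBlock (G : Matrix (Idx d) (Idx d) F) (j : ℕ) :
    Matrix {k : Fin t // d k = j} {k : Fin t // d k = j} F :=
  Matrix.of fun k l => Arith.JordanCent.ext G k.1 l.1 0 (j - 1)

/-- the socle block of size `j` -/
def socN (X : Matrix (Idx d) (Idx d) F) (j : ℕ) :
    Matrix {k : Fin t // d k = j} {k : Fin t // d k = j} F :=
  Matrix.of fun k l => Arith.JordanCent.ext X k.1 l.1 0 0

theorem socN_eq (X : Matrix (Idx d) (Idx d) F) (i : Fin (Finset.univ.sup d + 1)) :
    socBlock X i = socN X (i : ℕ) := rfl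

theorem recurrence {G : Matrix (Idx d) (Idx d) F}
    (hG : (jordanTypeMatrix d F)ᵀ * G * jordanTypeMatrix d F = G) (k l : Fin t) (a b : ℕ)
    (ha : a < d k) (hb : b < d l) :
    Arith.JordanCent.ext G k l (a + 1) b + Arith.JordanCent.ext G k l a (b + 1) +
      Arith.JordanCent.ext G k l (a + 1) (b + 1) = 0 := by
  have h : ((G * jordanTypeMatrix d F)ᵀ * jordanTypeMatrix d F)ᵀ ⟨k, ⟨a, ha⟩⟩ ⟨l, ⟨b, hb⟩⟩ =
      G ⟨k, ⟨a, ha⟩⟩ ⟨l, ⟨b, hb⟩⟩ := by
    conv_rhs => rw [← hG]
    rw [Matrix.transpose_mul, Matrix.transpose_transpose, Matrix.mul_assoc]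
  rw [Matrix.transpose_apply, mul_jordan] at h
  have hX : ∀ c, Arith.JordanCent.ext (G * jordanTypeMatrix d F)ᵀ l k b c =
      Arith.JordanCent.ext G k l c b + Arith.JordanCent.ext G k l c (b + 1) := fun c => by
    by_cases hc : c < d k
    · rw [← ext_apply (G * jordanTypeMatrix d F)ᵀ l k ⟨b, hb⟩ ⟨c, hc⟩, Matrix.transpose_apply, mul_jordan]
    · simp [Arith.JordanCent.ext, hc]
  rw [hX, hX, ext_apply G k l ⟨a, ha⟩ ⟨b, hb⟩] at h
  linear_combination h

theorem vanish {G : Matrix (Idx d) (Idx d) F}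
    (hG : (jordanTypeMatrix d F)ᵀ * G * jordanTypeMatrix d F = G) (k l : Fin t) :
    ∀ a b : ℕ, min (d k) (d l) ≤ a + b → Arith.JordanCent.ext G k l a b = 0 := by
  suffices ∀ (N : ℕ) (a b : ℕ), d k + d l ≤ a + b + N → min (d k) (d l) ≤ a + b →
      Arith.JordanCent.ext G k l a b = 0 from fun a b h => this (d k + d l) a b (by omega) h
  intro N
  induction N with
  | zero =>
    intro a b h _
    rw [Arith.JordanCent.ext, dif_neg (by omega)]
  | succ N ih =>
    intro a b hN hmin
    rcases Nat.lt_or_ge (a + b) (d k + d l) with hlt | hge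
    swap
    · exact ih a b (by omega) hmin
    have step : ∀ x y, x + y + 1 = a + b → x < d k → y < d l →
        Arith.JordanCent.ext G k l (x + 1) y + Arith.JordanCent.ext G k l x (y + 1) = 0 := fun x y h hx hy => by
      have := recurrence hG k l x y hx hy
      rwa [ih (x + 1) (y + 1) (by omega) (by omega), add_zero] at this
    rcases le_total (d k) (d l) with hkl | hkl
    · have key : ∀ j x, x + j = d k → ∀ y, x + y = a + b → Arith.JordanCent.ext G k l x y = 0 := by
        intro j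
        induction j with
        | zero =>
          intro x hx y hy
          rw [Arith.JordanCent.ext, dif_neg (by omega)]
        | succ j ih' =>
          intro x hx y hy
          obtain ⟨y', rfl⟩ : ∃ y', y = y' + 1 := ⟨y - 1, by omega⟩
          by_cases hy' : y' < d l
          · have := step x y' (by omega) (by omega) hy'
            rwa [ih' (x + 1) (by omega) y' (by omega), zero_add] at this
          · rw [Arith.JordanCent.ext, dif_neg (by omega)]
      by_cases hak : a < d k
      · exact key (d k - a) a (by omega) b rfl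
      · rw [Arith.JordanCent.ext, dif_neg (by omega)]
    · have key : ∀ j y, y + j = d l → ∀ x, x + y = a + b → Arith.JordanCent.ext G k l x y = 0 := by
        intro j
        induction j with
        | zero =>
          intro y hy x hx
          rw [Arith.JordanCent.ext, dif_neg (by omega)]
        | succ j ih' =>
          intro y hy x hx
          obtain ⟨x', rfl⟩ : ∃ x', x = x' + 1 := ⟨x - 1, by omega⟩
          by_cases hx' : x' < d k
          · have := step x' y (by omega) hx' (by omega)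
            rwa [ih' (y + 1) (by omega) x' (by omega), add_zero] at this
          · rw [Arith.JordanCent.ext, dif_neg (by omega)]
      by_cases hbl : b < d l
      · exact key (d l - b) b (by omega) a rfl
      · rw [Arith.JordanCent.ext, dif_neg (by omega)]

theorem botBlock_transpose {G : Matrix (Idx d) (Idx d) F} (hG : Inv G) (j : ℕ) :
    (botBlock G j)ᵀ = (-1 : F) ^ j • botBlock G j := by
  ext ⟨k, hk⟩ ⟨l, hl⟩
  simp only [Matrix.transpose_apply, Matrix.smul_apply, botBlock, Matrix.of_apply, smul_eq_mul]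
  subst hk
  rcases Nat.eq_zero_or_pos (d k) with h0 | hpos
  · simp [Arith.JordanCent.ext, h0, hl]
  have hskew : ∀ a b, Arith.JordanCent.ext G l k a b = - Arith.JordanCent.ext G k l b a := by
    intro a b
    have h := hG.2.1
    by_cases hh : a < d l ∧ b < d k
    · rw [← ext_apply G l k ⟨a, hh.1⟩ ⟨b, hh.2⟩, ← ext_apply G k l ⟨b, hh.2⟩ ⟨a, hh.1⟩]
      exact congrFun (congrFun h _) _
    · rw [Arith.JordanCent.ext, dif_neg hh, Arith.JordanCent.ext, dif_neg (fun h => hh ⟨h.2, h.1⟩), neg_zero]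
  have hanti : ∀ a, a + 1 ≤ d k → Arith.JordanCent.ext G k l a (d k - 1 - a) =
      (-1 : F) ^ a * Arith.JordanCent.ext G k l 0 (d k - 1) := by
    intro a
    induction a with
    | zero => simp
    | succ a ih =>
      intro ha
      have h := recurrence hG.1 k l a (d k - 1 - (a + 1)) (by omega) (by omega)
      rw [vanish hG.1 k l (a + 1) (d k - 1 - (a + 1) + 1) (by omega), add_zero,
        show d k - 1 - (a + 1) + 1 = d k - 1 - a by omega, ih (by omega)] at h
      rw [pow_succ]
      linear_combination h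
  have h := hanti (d k - 1) (by omega)
  rw [Nat.sub_self] at h
  rw [hskew, h]
  have hp : (-1 : F) ^ d k = (-1) ^ (d k - 1) * (-1) := by
    rw [← pow_succ]; congr 1; omega
  rw [hp]
  ring

theorem botBlock_det_ne_zero (hd : ∀ k, 1 ≤ d k) {G : Matrix (Idx d) (Idx d) F} (hG : Inv G) (j : ℕ) :
    (botBlock G j).det ≠ 0 := by
  classical
  let B : Matrix (Fin t) (Fin t) F := Matrix.of fun k l => Arith.JordanCent.ext G l k 0 (d k - 1)
  have htri : B.BlockTriangular d := fun k l h => vanish hG.1 l k 0 (d k - 1) (by have := hd l; omega)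
  have hdet : B.det ≠ 0 := by
    intro h0
    obtain ⟨v, hv0, hv⟩ := Matrix.exists_vecMul_eq_zero_iff.2 h0
    let x : Idx d → F := fun p => if (p.2 : ℕ) + 1 = d p.1 then v p.1 else 0
    have hGx : G *ᵥ x = 0 := by
      funext ⟨k, a⟩
      rw [Matrix.mulVec, dotProduct, Fintype.sum_sigma]
      have hterm : ∀ l, ∑ b : Fin (d l), G ⟨k, a⟩ ⟨l, b⟩ * x ⟨l, b⟩ =
          Arith.JordanCent.ext G k l a (d l - 1) * v l := by
        intro l
        have := hd l
        rw [Finset.sum_eq_single (⟨d l - 1, by omega⟩ : Fin (d l))]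
        · rw [← ext_apply G k l a ⟨d l - 1, _⟩]
          simp only [x]
          rw [if_pos (by omega)]
        · intro b _ hb
          have : (b : ℕ) ≠ d l - 1 := fun h => hb (Fin.ext h)
          simp only [x]
          rw [if_neg (by omega), mul_zero]
        · simp
      simp only [hterm, Pi.zero_apply]
      by_cases ha : (a : ℕ) = 0
      · have h1 := congrFun hv k
        simp only [Matrix.vecMul, dotProduct, B, Matrix.of_apply, Pi.zero_apply] at h1
        rw [ha]
        exact (Finset.sum_congr rfl fun l _ => mul_comm _ _).trans h1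
      · refine Finset.sum_eq_zero fun l _ => ?_
        rw [vanish hG.1 k l a (d l - 1) (by have := hd l; omega), zero_mul]
    have hx := Matrix.mulVec_injective_of_isUnit hG.2.2 (hGx.trans (Matrix.mulVec_zero G).symm)
    refine hv0 (funext fun k => ?_)
    have h1 := congrFun hx ⟨k, d k - 1, by have := hd k; omega⟩
    simp only [x, Pi.zero_apply] at h1
    rwa [if_pos (by have := hd k; omega)] at h1
  by_cases hj : ∃ k, d k = j
  · rw [htri.det, Finset.prod_ne_zero_iff] at hdet
    obtain ⟨k, hk⟩ := hj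
    have h := hdet j (Finset.mem_image.2 ⟨k, Finset.mem_univ _, hk⟩)
    intro h0
    refine h ?_
    have e : B.toSquareBlock d j = (botBlock G j)ᵀ := by
      ext ⟨k, hk⟩ ⟨l, hl⟩
      simp only [Matrix.toSquareBlock_def, Matrix.of_apply, B, Matrix.transpose_apply, botBlock, hk]
    rw [e, Matrix.det_transpose, h0]
  · haveI : IsEmpty {k : Fin t // d k = j} := ⟨fun k => hj ⟨k.1, k.2⟩⟩
    rw [Matrix.det_isEmpty]
    exact one_ne_zero

theorem commutant_shape {X : Matrix (Idx d) (Idx d) F}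
    (hX : X * jordanTypeMatrix d F = jordanTypeMatrix d F * X) (k l : Fin t) (a : Fin (d k)) (b : Fin (d l)) :
    X ⟨k, a⟩ ⟨l, b⟩ = coeff X l k (d k - 1 - (a : ℕ) + b) := by
  conv_lhs => rw [eq_ofCoeff hX]
  rfl

theorem botBlock_congr (hd : ∀ k, 1 ≤ d k) {G : Matrix (Idx d) (Idx d) F}
    (hG : (jordanTypeMatrix d F)ᵀ * G * jordanTypeMatrix d F = G) {X Y : Matrix (Idx d) (Idx d) F}
    (hX : X * jordanTypeMatrix d F = jordanTypeMatrix d F * X)
    (hY : Y * jordanTypeMatrix d F = jordanTypeMatrix d F * Y) (j : ℕ) :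
    botBlock (Xᵀ * G * Y) j = (socN X j)ᵀ * botBlock G j * socN Y j := by
  ext ⟨k, hk⟩ ⟨l, hl⟩
  subst hk
  have hk1 := hd k
  simp only [botBlock, Matrix.of_apply, Matrix.mul_apply, Matrix.transpose_apply, socN]
  rw [show Arith.JordanCent.ext (Xᵀ * G * Y) k l 0 (d k - 1) =
      (Xᵀ * G * Y) ⟨k, ⟨0, by omega⟩⟩ ⟨l, ⟨d k - 1, by omega⟩⟩ from
    (ext_apply _ k l ⟨0, by omega⟩ ⟨d k - 1, by omega⟩).symm]
  simp only [Matrix.mul_apply, Matrix.transpose_apply, Fintype.sum_sigma]
  have hYb : ∀ (l' : Fin t) (b : Fin (d l')),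
      Y ⟨l', b⟩ ⟨l, ⟨d k - 1, by omega⟩⟩ = if (b : ℕ) + 1 = d l' ∧ d l ≤ d l' then coeff Y l l' (d l - 1) else 0 := by
    intro l' b
    rw [commutant_shape hY]
    have := b.2
    split_ifs with h
    · simp only
      congr 1
      omega
    · exact adm_coeff Y l l' _ (by simp only; omega)
  have hXa : ∀ (m : Fin t) (a : Fin (d m)),
      X ⟨m, a⟩ ⟨k, ⟨0, by omega⟩⟩ = coeff X k m (d m - 1 - (a : ℕ)) := fun m a => by
    rw [commutant_shape hX, Nat.add_zero]
  rw [← Finset.sum_subset (Finset.subset_univ (Finset.univ.filter fun l' : Fin t => d l' = d k))]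
  · rw [Finset.sum_subtype (Finset.univ.filter fun l' : Fin t => d l' = d k) (p := fun l' => d l' = d k) (by simp)]
    refine Finset.sum_congr rfl fun l' _ => ?_
    have hl'1 := hd l'.1
    rw [Finset.sum_eq_single (⟨d l'.1 - 1, by omega⟩ : Fin (d l'.1))]
    · rw [hYb, if_pos ⟨by simp only; omega, by rw [l'.2, hl]⟩]
      have hY0 : Arith.JordanCent.ext Y l'.1 l 0 0 = coeff Y l l'.1 (d l - 1) := by
        rw [← ext_apply Y l'.1 l ⟨0, by omega⟩ ⟨0, by omega⟩, commutant_shape hY]
        simp only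
        rw [l'.2, hl]
        rfl
      rw [hY0]
      congr 1
      rw [← Finset.sum_subset (Finset.subset_univ (Finset.univ.filter fun m : Fin t => d m = d k))]
      · rw [Finset.sum_subtype (Finset.univ.filter fun m : Fin t => d m = d k) (p := fun m => d m = d k) (by simp)]
        refine Finset.sum_congr rfl fun m _ => ?_
        have hm1 := hd m.1
        rw [Finset.sum_eq_single (⟨0, by omega⟩ : Fin (d m.1))]
        · rw [← ext_apply X m.1 k ⟨0, by omega⟩ ⟨0, by omega⟩, ← ext_apply G m.1 l'.1 ⟨0, by omega⟩ ⟨d k - 1, by omega⟩]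
          congr 3
          exact Fin.ext (by simp only; rw [l'.2])
        · intro a _ ha
          have ha' : (a : ℕ) ≠ 0 := fun h => ha (Fin.ext h)
          rw [ext_apply G m.1 l'.1, vanish hG _ _ _ _ (by simp only; omega), mul_zero]
        · simp
      · intro m _ hm
        simp only [Finset.mem_filter, Finset.mem_univ, true_and] at hm
        refine Finset.sum_eq_zero fun a _ => ?_
        have := a.2
        rcases Nat.lt_or_ge (d m) (d k) with h | h
        · rw [ext_apply G m l'.1, vanish hG _ _ _ _ (by simp only; have := l'.2; omega), mul_zero]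
        · by_cases ha : (a : ℕ) = 0
          · rw [hXa, adm_coeff X k m _ (Or.inl (by omega)), zero_mul]
          · rw [ext_apply G m l'.1, vanish hG _ _ _ _ (by simp only; have := l'.2; omega), mul_zero]
    · intro b _ hb
      have hb' : (b : ℕ) ≠ d l'.1 - 1 := fun h => hb (Fin.ext h)
      rw [hYb, if_neg (fun h => hb' (by omega)), mul_zero]
    · simp
  · intro l' _ hl'
    simp only [Finset.mem_filter, Finset.mem_univ, true_and] at hl'
    refine Finset.sum_eq_zero fun b _ => ?_
    rw [hYb]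
    split_ifs with h
    · rw [Finset.sum_eq_zero fun m _ => Finset.sum_eq_zero fun a _ => ?_, zero_mul]
      have := a.2
      have := hd l'
      by_cases hm : d m ≤ d k
      · rw [ext_apply G m l', vanish hG _ _ _ _ (by omega), mul_zero]
      · by_cases ha : (a : ℕ) = 0
        · rw [hXa, adm_coeff X k m _ (Or.inl (by omega)), zero_mul]
        · rw [ext_apply G m l', vanish hG _ _ _ _ (by omega), mul_zero]
    · rw [mul_zero]

theorem socN_mul (hd : ∀ k, 1 ≤ d k) {X Y : Matrix (Idx d) (Idx d) F}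
    (hX : X * jordanTypeMatrix d F = jordanTypeMatrix d F * X)
    (hY : Y * jordanTypeMatrix d F = jordanTypeMatrix d F * Y) (j : ℕ) :
    socN (X * Y) j = socN X j * socN Y j := by
  ext ⟨k, hk⟩ ⟨l, hl⟩
  subst hk
  have hk1 := hd k
  simp only [socN, Matrix.of_apply, Matrix.mul_apply]
  rw [show Arith.JordanCent.ext (X * Y) k l 0 0 = (X * Y) ⟨k, ⟨0, by omega⟩⟩ ⟨l, ⟨0, by omega⟩⟩ from
    (ext_apply _ k l ⟨0, by omega⟩ ⟨0, by omega⟩).symm, Matrix.mul_apply, Fintype.sum_sigma,
    ← Finset.sum_subset (Finset.subset_univ (Finset.univ.filter fun m : Fin t => d m = d k)),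
    Finset.sum_subtype (Finset.univ.filter fun m : Fin t => d m = d k) (p := fun m => d m = d k) (by simp)]
  · refine Finset.sum_congr rfl fun m _ => ?_
    have := hd m.1
    rw [Finset.sum_eq_single (⟨0, by omega⟩ : Fin (d m.1))]
    · rw [← ext_apply X k m.1 ⟨0, by omega⟩ ⟨0, by omega⟩, ← ext_apply Y m.1 l ⟨0, by omega⟩ ⟨0, by omega⟩]
    · intro b _ hb
      have hb' : (b : ℕ) ≠ 0 := fun h => hb (Fin.ext h)
      rw [commutant_shape hX, adm_coeff X m.1 k _ (Or.inr (by simp only; omega)), zero_mul]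
    · simp
  · intro m _ hm
    simp only [Finset.mem_filter, Finset.mem_univ, true_and] at hm
    refine Finset.sum_eq_zero fun b _ => ?_
    have := b.2
    rw [commutant_shape hX, commutant_shape hY]
    rcases Nat.lt_or_ge (d m) (d k) with h | h
    · rw [adm_coeff X m k _ (Or.inl (by simp only; omega)), zero_mul]
    · by_cases hb : (b : ℕ) = 0
      · rw [adm_coeff Y l m _ (Or.inl (by simp only; omega)), mul_zero]
      · rw [adm_coeff X m k _ (Or.inr (by simp only; omega)), zero_mul]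

theorem socN_one (hd : ∀ k, 1 ≤ d k) (j : ℕ) : socN (1 : Matrix (Idx d) (Idx d) F) j = 1 := by
  ext ⟨k, hk⟩ ⟨l, hl⟩
  simp only [socN, Matrix.of_apply]
  rw [← ext_apply (1 : Matrix (Idx d) (Idx d) F) k l ⟨0, hd k⟩ ⟨0, hd l⟩]
  by_cases h : k = l
  · subst h; simp
  · rw [Matrix.one_apply_ne (fun e => h (congrArg Sigma.fst e)),
      Matrix.one_apply_ne (fun e => h (congrArg Subtype.val e))]

/-- units of the commutant with trivial socle blocks -/
def congKer (hd : ∀ k, 1 ≤ d k) : Subgroup (GL (Idx d) F) where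
  carrier := {g | (g : Matrix (Idx d) (Idx d) F) * jordanTypeMatrix d F = jordanTypeMatrix d F * g ∧
    ∀ j, socN (g : Matrix (Idx d) (Idx d) F) j = 1}
  mul_mem' {a b} ha hb :=
    ⟨by rw [Units.val_mul, Matrix.mul_assoc, hb.1, ← Matrix.mul_assoc, ha.1, Matrix.mul_assoc],
      fun j => by rw [Units.val_mul, socN_mul hd ha.1 hb.1, ha.2, hb.2, Matrix.one_mul]⟩
  one_mem' := ⟨by rw [Units.val_one, Matrix.one_mul, Matrix.mul_one], fun j => by rw [Units.val_one]; exact socN_one hd j⟩
  inv_mem' {a} ha := by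
    have hc : Commute (a : Matrix (Idx d) (Idx d) F) (jordanTypeMatrix d F) := ha.1
    refine ⟨hc.units_inv_left, fun j => ?_⟩
    have h := socN_mul hd hc.units_inv_left ha.1 j
    rw [Units.inv_mul, socN_one hd, ha.2, Matrix.mul_one] at h
    exact h.symm

theorem card_congKer (hd : ∀ k, 1 ≤ d k) :
    Nat.card (congKer (F := F) hd) = Nat.card (Rad d F) := by
  classical
  have hval : ∀ X : Rad d F, IsUnit (X.1 + 1) := fun X => by
    refine (isUnit_iff_socBlock hd (by rw [Matrix.add_mul, Matrix.mul_add, X.2.1, Matrix.one_mul, Matrix.mul_one])).2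
      fun i => ?_
    rw [socBlock_add, X.2.2, zero_add, socN_eq, socN_one hd]
    exact isUnit_one
  refine (Nat.card_eq_of_bijective (fun X : Rad d F => (⟨(hval X).unit, ?_, ?_⟩ : congKer (F := F) hd)) ⟨?_, ?_⟩).symm
  · rw [IsUnit.unit_spec, Matrix.add_mul, Matrix.mul_add, X.2.1, Matrix.one_mul, Matrix.mul_one]
  · intro j
    rw [IsUnit.unit_spec]
    have hadd : socN (X.1 + 1) j = socN X.1 j + socN 1 j := by
      ext k l
      simp only [socN, Matrix.of_apply, Matrix.add_apply, Arith.JordanCent.ext]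
      split_ifs <;> simp
    by_cases hj : j < Finset.univ.sup d + 1
    · rw [hadd, socN_one hd, ← socN_eq X.1 ⟨j, hj⟩, X.2.2, zero_add]
    · haveI : IsEmpty {k : Fin t // d k = j} := ⟨fun k => hj (by
        have := Finset.le_sup (f := d) (Finset.mem_univ k.1)
        have := k.2
        omega)⟩
      exact Subsingleton.elim _ _
  · intro X Y h
    have h1 := congrArg (fun g : congKer (F := F) hd => ((g : GL (Idx d) F) : Matrix (Idx d) (Idx d) F)) h
    simp only [IsUnit.unit_spec] at h1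
    exact Subtype.ext (add_right_cancel h1)
  · rintro ⟨g, hg⟩
    refine ⟨⟨(g : Matrix (Idx d) (Idx d) F) - 1, by rw [Matrix.sub_mul, Matrix.mul_sub, hg.1, Matrix.one_mul, Matrix.mul_one],
      fun i => by rw [socBlock_sub, socN_eq, socN_eq, hg.2, socN_one hd, sub_self]⟩, Subtype.ext (Units.ext ?_)⟩
    simp [IsUnit.unit_spec]

/-- Forms with equal induced forms are congruent. -/
theorem exists_congr_of_botBlock_eq (h2 : Odd (Fintype.card F)) (hd : ∀ k, 1 ≤ d k)
    {G G' : Matrix (Idx d) (Idx d) F} (hG : Inv G) (hG' : Inv G') (h : ∀ j, botBlock G' j = botBlock G j) :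
    ∃ X : Matrix (Idx d) (Idx d) F, X * jordanTypeMatrix d F = jordanTypeMatrix d F * X ∧ Xᵀ * G * X = G' := by
  classical
  set J := jordanTypeMatrix d F
  obtain ⟨u, hu⟩ := hG.2.2
  obtain ⟨u', hu'⟩ := hG'.2.2
  set g : GL (Idx d) F := u⁻¹ * u'
  have hGg : G * (g : Matrix (Idx d) (Idx d) F) = G' := by
    rw [← hu, ← hu', ← Units.val_mul, mul_inv_cancel_left]
  have hJu : IsUnit Jᵀ := by
    refine IsUnit.of_mul_eq_one (G * J * (↑u⁻¹ : Matrix (Idx d) (Idx d) F)) ?_
    rw [← Matrix.mul_assoc, ← Matrix.mul_assoc, hG.1, ← hu, Units.mul_inv]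
  have hgc : (g : Matrix (Idx d) (Idx d) F) * J = J * g := by
    refine hG.2.2.mul_left_cancel (hJu.mul_left_cancel ?_)
    calc Jᵀ * (G * ((g : Matrix (Idx d) (Idx d) F) * J)) = Jᵀ * G' * J := by
          rw [← hGg]; simp only [Matrix.mul_assoc]
      _ = G' := hG'.1
      _ = Jᵀ * G * J * g := by rw [hG.1, hGg]
      _ = Jᵀ * (G * (J * (g : Matrix (Idx d) (Idx d) F))) := by simp only [Matrix.mul_assoc]
  have hker : g ∈ congKer (F := F) hd := ⟨hgc, fun j => by
    have h1 := botBlock_congr hd hG.1 (X := 1) (Y := (g : Matrix (Idx d) (Idx d) F)) (by simp) hgc j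
    rw [Matrix.transpose_one, Matrix.one_mul, hGg, socN_one hd, Matrix.transpose_one, Matrix.one_mul, h j] at h1
    have hB := botBlock_det_ne_zero hd hG j
    have hBu : IsUnit (botBlock G j) := (Matrix.isUnit_iff_isUnit_det _).2 (isUnit_iff_ne_zero.2 hB)
    exact (hBu.mul_left_cancel (h1.symm.trans (Matrix.mul_one _).symm) : socN (g : Matrix (Idx d) (Idx d) F) j = 1)⟩
  have hNodd : Odd (Nat.card (congKer (F := F) hd)) := by
    rw [card_congKer hd, card_rad hd]
    exact h2.pow
  obtain ⟨r, hr⟩ := hNodd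
  have hpow : (g : GL (Idx d) F) ^ (2 * (r + 1)) = g := by
    have h1 : (⟨g, hker⟩ : congKer (F := F) hd) ^ (2 * r + 1) = 1 := by rw [← hr]; exact pow_card_eq_one'
    have h2' := congrArg Subtype.val h1
    simp only [SubmonoidClass.coe_pow, OneMemClass.coe_one] at h2'
    rw [show 2 * (r + 1) = 2 * r + 1 + 1 by ring, pow_succ, h2', one_mul]
  set y : Matrix (Idx d) (Idx d) F := (g : Matrix (Idx d) (Idx d) F) ^ (r + 1)
  have hyy : y * y = (g : Matrix (Idx d) (Idx d) F) := by
    rw [← pow_add, ← two_mul, ← Units.val_pow_eq_pow_val, hpow]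
  have hadj : (g : Matrix (Idx d) (Idx d) F)ᵀ * G = G * g := by
    have h1 := congrArg Matrix.transpose hGg
    rw [Matrix.transpose_mul, hG.2.1, hG'.2.1, ← hGg, Matrix.mul_neg, neg_inj] at h1
    exact h1
  have hadjn : ∀ n, (((g : Matrix (Idx d) (Idx d) F)) ^ n)ᵀ * G = G * (g : Matrix (Idx d) (Idx d) F) ^ n := by
    intro n
    induction n with
    | zero => simp
    | succ n ih =>
      rw [pow_succ, Matrix.transpose_mul, Matrix.mul_assoc, ih, ← Matrix.mul_assoc, hadj, Matrix.mul_assoc,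
        ← pow_succ', pow_succ]
  refine ⟨y, (Commute.pow_left (show Commute (g : Matrix (Idx d) (Idx d) F) J from hgc) _).eq, ?_⟩
  rw [hadjn, Matrix.mul_assoc, hyy, hGg]

theorem inv_congr {G X : Matrix (Idx d) (Idx d) F} (hG : Inv G) (hX : IsUnit X)
    (hc : X * jordanTypeMatrix d F = jordanTypeMatrix d F * X) : Inv (Xᵀ * G * X) := by
  refine ⟨?_, ?_, ?_⟩
  · calc (jordanTypeMatrix d F)ᵀ * (Xᵀ * G * X) * jordanTypeMatrix d F
        = (X * jordanTypeMatrix d F)ᵀ * G * (X * jordanTypeMatrix d F) := by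
          rw [Matrix.transpose_mul]; simp only [Matrix.mul_assoc]
      _ = Xᵀ * ((jordanTypeMatrix d F)ᵀ * G * jordanTypeMatrix d F) * X := by
          rw [hc, Matrix.transpose_mul]; simp only [Matrix.mul_assoc]
      _ = Xᵀ * G * X := by rw [hG.1]
  · rw [Matrix.transpose_mul, Matrix.transpose_mul, Matrix.transpose_transpose, hG.2.1]
    simp [Matrix.mul_assoc]
  · have ht : IsUnit Xᵀ := by
      rw [Matrix.isUnit_iff_isUnit_det, Matrix.det_transpose]
      exact (Matrix.isUnit_iff_isUnit_det _).1 hX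
    exact (ht.mul hG.2.2).mul hX

/-- The square classes of the even blocks determine the orbit. -/
theorem exists_congr (hodd : Odd (Fintype.card F)) (hd : ∀ k, 1 ≤ d k)
    {G G' : Matrix (Idx d) (Idx d) F} (hG : Inv G) (hG' : Inv G')
    (h : ∀ j, Even j → IsSquare ((botBlock G j).det * (botBlock G' j).det)) :
    ∃ X : Matrix (Idx d) (Idx d) F, IsUnit X ∧ X * jordanTypeMatrix d F = jordanTypeMatrix d F * X ∧
      Xᵀ * G * X = G' := by
  classical
  have h2 := card_odd_two_ne_zero hodd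
  have hblock : ∀ i : Fin (Finset.univ.sup d + 1), ∃ P : Matrix (Blk d i) (Blk d i) F,
      IsUnit P ∧ Pᵀ * botBlock G (i : ℕ) * P = botBlock G' (i : ℕ) := by
    intro i
    have hb := botBlock_det_ne_zero hd hG (i : ℕ)
    have hb' := botBlock_det_ne_zero hd hG' (i : ℕ)
    obtain ⟨P, hP⟩ : ∃ P, Pᵀ * botBlock G (i : ℕ) * P = botBlock G' (i : ℕ) := by
      rcases Nat.even_or_odd (i : ℕ) with he | ho
      · refine sym_congr h2 ?_ ?_ hb hb' (h _ he) <;>
          rw [botBlock_transpose (by assumption), he.neg_one_pow, one_smul]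
      · have halt : ∀ {H : Matrix (Idx d) (Idx d) F}, Inv H → ∀ v, bf (botBlock H (i : ℕ)) v v = 0 := fun hH =>
          H58.FormClass.alt_of_skew h2 (by rw [botBlock_transpose hH, ho.neg_one_pow])
        obtain ⟨m, hm, -⟩ := H58.FormClass.congr_J hb (halt hG)
        obtain ⟨P, Q, hPQ, hQP, hP⟩ := exists_frame hb (halt hG) hm
        obtain ⟨P', Q', hPQ', hQP', hP'⟩ := exists_frame hb' (halt hG') hm
        refine ⟨Q * P', ?_⟩
        rw [Matrix.transpose_mul, ← hP]
        calc P'ᵀ * Qᵀ * (Pᵀ * Matrix.J (Fin m) F * P) * (Q * P')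
            = P'ᵀ * (P * Q)ᵀ * Matrix.J (Fin m) F * (P * Q) * P' := by
              rw [Matrix.transpose_mul]; simp only [Matrix.mul_assoc]
          _ = botBlock G' (i : ℕ) := by rw [hPQ, Matrix.transpose_one, Matrix.mul_one, Matrix.mul_one, hP']
    refine ⟨P, (Matrix.isUnit_iff_isUnit_det _).2 (isUnit_iff_ne_zero.2 fun h0 => hb' ?_), hP⟩
    rw [← hP, Matrix.det_mul, h0, mul_zero]
  choose P hPu hP using hblock
  have hXu : IsUnit (liftBlocks P) :=
    (isUnit_iff_socBlock hd (lift_commute P)).2 fun i => by rw [socBlock_lift hd]; exact hPu i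
  have hG1 := inv_congr hG hXu (lift_commute P)
  obtain ⟨y, hyc, hy⟩ := exists_congr_of_botBlock_eq hodd hd hG1 hG' fun j => by
    by_cases hj : j < Finset.univ.sup d + 1
    · rw [botBlock_congr hd hG.1 (lift_commute P) (lift_commute P), ← socN_eq (liftBlocks P) ⟨j, hj⟩,
        socBlock_lift hd]
      exact (hP ⟨j, hj⟩).symm
    · haveI : IsEmpty {k : Fin t // d k = j} := ⟨fun k => hj (by
        have := Finset.le_sup (f := d) (Finset.mem_univ k.1)
        have := k.2
        omega)⟩
      exact Subsingleton.elim _ _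
  refine ⟨liftBlocks P * y, hXu.mul ?_, ?_, ?_⟩
  · rw [Matrix.isUnit_iff_isUnit_det, isUnit_iff_ne_zero]
    intro h0
    refine ((Matrix.isUnit_iff_isUnit_det _).1 hG'.2.2).ne_zero ?_
    rw [← hy, Matrix.det_mul, h0, mul_zero]
  · rw [Matrix.mul_assoc, hyc, ← Matrix.mul_assoc, lift_commute, Matrix.mul_assoc]
  · rw [← hy, Matrix.transpose_mul]
    simp only [Matrix.mul_assoc]

/-- Congruent forms have the same square classes. -/
theorem isSquare_of_congr (hd : ∀ k, 1 ≤ d k) {G X : Matrix (Idx d) (Idx d) F} (hG : Inv G) (hX : IsUnit X)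
    (hc : X * jordanTypeMatrix d F = jordanTypeMatrix d F * X) (j : ℕ) :
    IsSquare ((botBlock G j).det * (botBlock (Xᵀ * G * X) j).det) := by
  rw [botBlock_congr hd hG.1 hc hc, Matrix.det_mul, Matrix.det_mul, Matrix.det_transpose]
  exact ⟨(botBlock G j).det * (socN X j).det, by ring⟩

/-- All square classes occur. -/
theorem exists_with_classes (hodd : Odd (Fintype.card F)) (hd : ∀ k, 1 ≤ d k)
    (hev : ∀ j, Odd j → Even (Finset.univ.filter fun k : Fin t => d k = j).card) (f : ℕ → Bool) :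
    ∃ G : Matrix (Idx d) (Idx d) F, Inv G ∧
      ∀ j, Even j → (∃ k, d k = j) → (f j = true ↔ IsSquare (botBlock G j).det) := by
  classical
  have h2 := card_odd_two_ne_zero hodd
  obtain ⟨G₀, hdet, hsym, -, hinv, hblock⟩ := H72.UnipotentForm.exists_form (d := d) (-1 : F) (by ring)
    (fun n => Even n) (fun n => H72.UnipotentForm.altS (n / 2))
    (fun n _ => H72.UnipotentForm.altS_rec _)
    (fun n hn a b h => H72.UnipotentForm.altS_out (by obtain ⟨r, rfl⟩ := hn; omega))
    (fun n hn a b h => H72.UnipotentForm.altS_anti (by obtain ⟨r, rfl⟩ := hn; omega))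
    (fun n _ a b => by unfold H72.UnipotentForm.altS; ring)
    (fun n hn => hev n (Nat.not_even_iff_odd.1 hn))
  have hsym' : G₀ᵀ = -G₀ := by rw [hsym, neg_one_smul]
  have hG₀ : Inv G₀ := ⟨hinv, hsym', (Matrix.isUnit_iff_isUnit_det _).2 (isUnit_iff_ne_zero.2 hdet)⟩
  obtain ⟨ν, hν0, hν⟩ : ∃ ν : F, ν ≠ 0 ∧ ¬ IsSquare ν := by
    obtain ⟨ν, hν⟩ := FiniteField.exists_nonsquare (F := F) (by
      intro h
      apply h2
      have h' : ((ringChar F : ℕ) : F) = 0 := ringChar.Nat.cast_ringChar
      rw [h] at h'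
      exact_mod_cast h')
    exact ⟨ν, fun h0 => hν (h0 ▸ IsSquare.zero), hν⟩
  let sel : ℕ → Fin t → Prop := fun j k => d k = j ∧ ∀ k', d k' = j → k ≤ k'
  let c : Fin t → F := fun k =>
    if Even (d k) ∧ sel (d k) k ∧ ¬ (f (d k) = true ↔ IsSquare (botBlock G₀ (d k)).det) then ν else 1
  let D : Matrix (Idx d) (Idx d) F := Matrix.diagonal fun p => c p.1
  have hG : ∀ p q : Idx d, (D * G₀) p q = c p.1 * G₀ p q := fun p q => by
    simp [D, Matrix.diagonal_mul]
  have hskew : ∀ p q : Idx d, G₀ q p = - G₀ p q := fun p q => congrFun (congrFun hsym' p) q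
  refine ⟨D * G₀, ⟨?_, ?_, ?_⟩, ?_⟩
  · calc (jordanTypeMatrix d F)ᵀ * (D * G₀) * jordanTypeMatrix d F
        = D * ((jordanTypeMatrix d F)ᵀ * G₀ * jordanTypeMatrix d F) := by
          simp only [← Matrix.mul_assoc]
          rw [H72.OrthTypeFix.diagonal_comm_jordan d c]
      _ = D * G₀ := by rw [hinv]
  · ext p q
    rw [Matrix.transpose_apply, Matrix.neg_apply, hG, hG, hskew p q]
    by_cases hpq : q.1 = p.1
    · rw [hpq]; ring
    · by_cases hep : Even (d p.1)
      · rw [hblock p q hep hpq]; ring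
      · by_cases heq : Even (d q.1)
        · rw [show G₀ p q = 0 by rw [hskew q p, hblock q p heq (Ne.symm hpq), neg_zero]]; ring
        · simp only [c]
          rw [if_neg (fun h => heq h.1), if_neg (fun h => hep h.1)]; ring
  · refine IsUnit.mul ?_ hG₀.2.2
    rw [Matrix.isUnit_iff_isUnit_det, Matrix.det_diagonal, isUnit_iff_ne_zero, Finset.prod_ne_zero_iff]
    intro p _
    simp only [c]
    split_ifs
    · exact hν0
    · exact one_ne_zero
  · intro j hj ⟨k₁, hk₁⟩
    obtain ⟨k₀, hk₀, hmin⟩ := (Finset.univ.filter fun k : Fin t => d k = j).exists_min_image id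
      ⟨k₁, by simp [hk₁]⟩
    simp only [Finset.mem_filter, Finset.mem_univ, true_and, id] at hk₀ hmin
    have hb : botBlock (D * G₀) j = Matrix.diagonal (fun k : {k : Fin t // d k = j} => c k.1) * botBlock G₀ j := by
      ext ⟨k, hk⟩ ⟨l, hl⟩
      have := hd k
      simp only [botBlock, Matrix.of_apply, Matrix.diagonal_mul]
      rw [← ext_apply (D * G₀) k l ⟨0, by omega⟩ ⟨j - 1, by omega⟩,
        ← ext_apply G₀ k l ⟨0, by omega⟩ ⟨j - 1, by omega⟩, hG]
    have hprod : (∏ k : {k : Fin t // d k = j}, c k.1) =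
        if (f j = true ↔ IsSquare (botBlock G₀ j).det) then 1 else ν := by
      rw [Finset.prod_eq_single (⟨k₀, hk₀⟩ : {k : Fin t // d k = j})]
      · subst hk₀
        simp only [c]
        by_cases hf : (f (d k₀) = true ↔ IsSquare (botBlock G₀ (d k₀)).det)
        · rw [if_pos hf, if_neg (fun h => h.2.2 hf)]
        · rw [if_neg hf, if_pos ⟨hj, ⟨rfl, hmin⟩, hf⟩]
      · rintro ⟨k, hk⟩ _ hne
        simp only [c]
        refine if_neg fun h => hne (Subtype.ext ?_)
        exact le_antisymm (h.2.1.2 k₀ (hk₀.trans hk.symm)) (hmin k hk)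
      · simp
    rw [hb, Matrix.det_mul, Matrix.det_diagonal, hprod]
    have hB := botBlock_det_ne_zero hd hG₀ j
    split_ifs with hf
    · rw [one_mul]; exact hf
    · rw [mul_comm ν, isSquare_mul_nonsquare hB hν0 hν]
      tauto

end Cfsg.Agent.H57.SpForms
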