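import Mathlib
import Cfsg.Agent.H33.Hermitian
import Cfsg.Agent.Unitary.Rank2
import Cfsg.Agent.Unitary.Stab
import Cfsg.Agent.Unitary.Order
import Cfsg.Agent.Symplectic.Std

/-!
# The centraliser of a fixed-point-free element of order three in `Sp_{2m}(q)`, `q ≡ 2 (mod 3)`
-/

set_option autoImplicit false
set_option linter.unusedSectionVars false
set_option linter.unusedSimpArgs false
set_option linter.style.haveILetI false

namespace Cfsg.Agent.H57.SpOrderThree

open Cfsg Matrix Polynomial

variable {F : Type*} [Field F] [Fintype F] {q m : ℕ}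

theorem no_root (hF : Fintype.card F = q) (hq : q % 3 = 2) (a : F) : a ^ 2 + a + 1 ≠ 0 := by
  intro h
  have h3 : a ^ 3 = 1 := by linear_combination (a - 1) * h
  have ha0 : a ≠ 0 := by rintro rfl; simp at h
  have hq1 : a ^ (q - 1) = 1 := by rw [← hF]; exact FiniteField.pow_card_sub_one_eq_one a ha0
  have ha : a = 1 := by
    rw [show q - 1 = 3 * (q / 3) + 1 by omega, pow_add, pow_mul, h3, one_pow, one_mul, pow_one]
      at hq1
    exact hq1
  subst ha
  have h3' : (3 : F) = 0 := by linear_combination h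
  obtain ⟨n, hp, hn⟩ := FiniteField.card F (ringChar F)
  have hdvd : ringChar F ∣ 3 := (ringChar.spec F 3).1 (by exact_mod_cast h3')
  have := (Nat.prime_dvd_prime_iff_eq hp Nat.prime_three).1 hdvd
  rw [hF, this] at hn
  have h0 : q % 3 = 0 := by
    rw [hn]; exact Nat.mod_eq_zero_of_dvd (dvd_pow_self 3 n.ne_zero) |>.trans rfl
  omega

/-- `X ^ 2 + X + 1` -/
noncomputable def cyc (F : Type*) [Field F] : F[X] := X ^ 2 + X + 1

theorem cyc_natDegree (F : Type*) [Field F] : (cyc F).natDegree = 2 := by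
  unfold cyc
  compute_degree!

theorem cyc_irreducible (hF : Fintype.card F = q) (hq : q % 3 = 2) : Irreducible (cyc F) := by
  refine Polynomial.irreducible_of_degree_le_three_of_not_isRoot ?_ fun a h => ?_
  · rw [cyc_natDegree]; simp
  · exact no_root hF hq a (by simpa [cyc, IsRoot] using h)

theorem natCard_centralizer (hF : Fintype.card F = q) (hq : q % 3 = 2)
    (x : Matrix.symplecticGroup (Fin m) F) (hx3 : x ^ 3 = 1)
    (hfpf : IsUnit ((x : Matrix (Fin m ⊕ Fin m) (Fin m ⊕ Fin m) F) - 1)) :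
    Nat.card ↥(Subgroup.centralizer ({x} : Set ↥(Matrix.symplecticGroup (Fin m) F))) =
      q ^ (m * (m - 1) / 2) * ∏ i ∈ Finset.range m, Unitary.guFactor q i := by
  classical
  have : Fact (Irreducible (cyc F)) := ⟨cyc_irreducible hF hq⟩
  set A : Matrix (Fin m ⊕ Fin m) (Fin m ⊕ Fin m) F := x.1 with hA
  have hA3 : A ^ 3 = 1 := by
    have := congrArg Subtype.val hx3
    simpa [SubmonoidClass.coe_pow] using this
  have hA2 : A ^ 2 + A + 1 = 0 := by
    have h : (A - 1) * (A ^ 2 + A + 1) = 0 := by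
      rw [show (A - 1) * (A ^ 2 + A + 1) = A ^ 3 - 1 by noncomm_ring, hA3, sub_self]
    exact hfpf.mul_right_eq_zero.1 h
  let X' : Module.End F (Fin m ⊕ Fin m → F) := Matrix.toLinAlgEquiv' A
  have hX : ∀ v, X' v = A *ᵥ v := fun v => Matrix.toLinAlgEquiv'_apply A v
  have hpoly : Polynomial.aeval X' (cyc F) = 0 := by
    simp only [cyc, map_add, map_pow, map_one, Polynomial.aeval_X, X']
    rw [← map_pow, ← map_add, ← map_one (Matrix.toLinAlgEquiv' (R := F) (n := Fin m ⊕ Fin m)), ← map_add, hA2, map_zero]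
  let ψ : AdjoinRoot (cyc F) →+* Module.End F (Fin m ⊕ Fin m → F) :=
    Ideal.Quotient.lift (Ideal.span {cyc F}) (Polynomial.aeval X' : F[X] →ₐ[F] _).toRingHom
      (fun a ha => by
        obtain ⟨c, rfl⟩ := Ideal.mem_span_singleton'.1 ha
        show Polynomial.aeval X' (c * cyc F) = 0
        rw [map_mul, hpoly, mul_zero])
  letI : Module (AdjoinRoot (cyc F)) (Fin m ⊕ Fin m → F) := Module.compHom _ ψ
  have hsmul : ∀ (c : AdjoinRoot (cyc F)) v, c • v = ψ c v := fun c v => rfl
  set ι := AdjoinRoot.of (cyc F) with hι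
  set ω : AdjoinRoot (cyc F) := AdjoinRoot.root (cyc F) with hωdef
  have hι' : ∀ (a : F) (v : Fin m ⊕ Fin m → F), ι a • v = a • v := by
    intro a v
    show Polynomial.aeval X' (C a) v = a • v
    rw [Polynomial.aeval_C]
    rfl
  have hω' : ∀ v : Fin m ⊕ Fin m → F, ω • v = A *ᵥ v := by
    intro v
    show Polynomial.aeval X' X v = A *ᵥ v
    rw [Polynomial.aeval_X, hX]
  have hcyc0 : cyc F ≠ 0 := (cyc_irreducible hF hq).ne_zero
  let pb := AdjoinRoot.powerBasis hcyc0
  letI : Fintype (AdjoinRoot (cyc F)) := Fintype.ofEquiv _ pb.basis.equivFun.toEquiv.symm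
  have hK : Fintype.card (AdjoinRoot (cyc F)) = q ^ 2 := by
    rw [Fintype.card_congr pb.basis.equivFun.toEquiv, Fintype.card_fun, Fintype.card_fin,
      AdjoinRoot.powerBasis_dim, cyc_natDegree, hF]
  have hω2 : ω ^ 2 + ω + 1 = 0 := by
    have e : Polynomial.eval₂ ι ω (X ^ 2 + X + 1) = 0 := AdjoinRoot.eval₂_root (cyc F)
    simpa using e
  have hω3 : ω ^ 3 = 1 := by linear_combination (ω - 1) * hω2
  have hωq : ω ^ q = -1 - ω := by
    rw [show q = 3 * (q / 3) + 2 by omega, pow_add, pow_mul, hω3, one_pow, one_mul]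
    linear_combination hω2
  have hιq : ∀ a : F, ι a ^ q = ι a := fun a => by rw [← map_pow, ← hF, FiniteField.pow_card]
  have hcoord : ∀ c : AdjoinRoot (cyc F), ∃ a b : F, c = ι a + ι b * ω := by
    intro c
    obtain ⟨f, hf, hc⟩ := pb.exists_eq_aeval c
    rw [AdjoinRoot.powerBasis_dim, cyc_natDegree] at hf
    refine ⟨f.coeff 0, f.coeff 1, ?_⟩
    rw [hc, AdjoinRoot.powerBasis_gen, Polynomial.eq_X_add_C_of_natDegree_le_one (show f.natDegree ≤ 1 by omega)]
    simp only [map_add, map_mul, Polynomial.aeval_C, Polynomial.aeval_X, AdjoinRoot.algebraMap_eq]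
    simp [hι, hωdef]
    ring
  have hωne : ω ^ q - ω ≠ 0 := by
    intro h
    rw [hωq] at h
    have h21 : 2 * ω + 1 = 0 := by linear_combination -h
    have h30 : (3 : AdjoinRoot (cyc F)) = 0 := by linear_combination 4 * hω2 - (2 * ω + 1) * h21
    have : (3 : F) = 0 := ι.injective (by rw [map_ofNat, map_zero, h30])
    exact no_root hF hq 1 (by linear_combination this)
  have hAB : ∀ u v, sympForm m F (A *ᵥ u) (A *ᵥ v) = sympForm m F u v :=
    (Symplectic.mem_symplectic_iff_form A).1 x.2
  have hA2v : ∀ u, A *ᵥ (A *ᵥ u) = -u - A *ᵥ u := by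
    intro u
    have := congrArg (fun M => M *ᵥ u) hA2
    simp only [pow_two, add_mulVec, one_mulVec, zero_mulVec, ← mulVec_mulVec] at this
    linear_combination (norm := abel) this
  have hBflip : ∀ u v, sympForm m F v u = - sympForm m F u v := by
    intro u v
    rw [Symplectic.sympForm_eq, Symplectic.sympForm_eq, ← Finset.sum_neg_distrib]
    exact Finset.sum_congr rfl fun i _ => by ring
  have hadd : ∀ u u' v, sympForm m F (u + u') v = sympForm m F u v + sympForm m F u' v :=
    fun u u' v => by simp only [sympForm, add_dotProduct]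
  have hsm : ∀ (a : F) u v, sympForm m F (a • u) v = a * sympForm m F u v :=
    fun a u v => by simp only [sympForm, smul_dotProduct, smul_eq_mul]
  have haddr : ∀ u v v', sympForm m F u (v + v') = sympForm m F u v + sympForm m F u v' :=
    fun u v v' => by simp only [sympForm, mulVec_add, dotProduct_add]
  have hsmr : ∀ (a : F) u v, sympForm m F u (a • v) = a * sympForm m F u v :=
    fun a u v => by simp only [sympForm, mulVec_smul, dotProduct_smul, smul_eq_mul]
  have hnegr : ∀ u v, sympForm m F u (-v) = - sympForm m F u v :=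
    fun u v => by simp only [sympForm, mulVec_neg, dotProduct_neg]
  have hsubr : ∀ u v v', sympForm m F u (v - v') = sympForm m F u v - sympForm m F u v' :=
    fun u v v' => by rw [sub_eq_add_neg, haddr, hnegr, sub_eq_add_neg]
  -- the hermitian form
  let h : (Fin m ⊕ Fin m → F) → (Fin m ⊕ Fin m → F) → AdjoinRoot (cyc F) :=
    fun u v => ι (sympForm m F (A *ᵥ u) v) - ω ^ q * ι (sympForm m F u v)
  have hh_swap : ∀ u v, h v u = h u v ^ q := by
    intro u v
    have h1 : sympForm m F (A *ᵥ v) u = sympForm m F u v + sympForm m F (A *ᵥ u) v := by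
      rw [hBflip u (A *ᵥ v), ← hAB u (A *ᵥ v), hA2v, hsubr, hnegr, hAB]
      ring
    simp only [h]
    rw [Unitary.sub_pow_q hK, mul_pow, hιq, hιq, Unitary.pow_q_q hK, h1, map_add, hBflip u v,
      map_neg, hωq]
    ring
  have hh_smul : ∀ c u v, h (c • u) v = c * h u v := by
    intro c u v
    obtain ⟨a, b, rfl⟩ := hcoord c
    rw [add_smul, mul_smul, hι', hω', hι']
    simp only [h, mulVec_add, mulVec_smul, hA2v, hadd, hsm, map_add, map_mul]
    rw [sub_eq_add_neg (-u), hadd, ← neg_one_smul F u, ← neg_one_smul F (A *ᵥ u), hsm, hsm, map_add,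
      map_mul, map_mul, map_neg, map_one, hωq]
    linear_combination (-(ι b * ι (sympForm m F u v))) * hω2
  have hh_add : ∀ u u' v, h (u + u') v = h u v + h u' v := by
    intro u u' v
    simp only [h, mulVec_add, hadd, map_add]
    ring
  have hrec : ∀ u v, h u v - h v u = (-(ω ^ q - ω)) * -ι (sympForm m F u v) * -1 := by
    intro u v
    rw [hh_swap u v]
    simp only [h]
    rw [Unitary.sub_pow_q hK, mul_pow, hιq, hιq, Unitary.pow_q_q hK]
    ring
  let σ : AdjoinRoot (cyc F) →+* AdjoinRoot (cyc F) := (Unitary.frob hK).toRingHom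
  have hσ : ∀ c, σ c = c ^ q := fun c => rfl
  let B : (Fin m ⊕ Fin m → F) →ₛₗ[σ] (Fin m ⊕ Fin m → F) →ₗ[AdjoinRoot (cyc F)] AdjoinRoot (cyc F) :=
    LinearMap.mk₂'ₛₗ σ (RingHom.id _) (fun u v => h v u)
      (fun u u' v => by
        show h v (u + u') = h v u + h v u'
        rw [hh_swap (u + u') v, hh_swap u v, hh_swap u' v, hh_add, Unitary.add_pow_q hK])
      (fun c u v => by
        show h v (c • u) = σ c * h v u
        rw [hh_swap (c • u) v, hh_smul, mul_pow, hh_swap u v, hσ])
      (fun u v v' => hh_add v v' u)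
      (fun c u v => hh_smul c v u)
  have hBS : B.IsSymm := ⟨fun u v => by
    show σ (h v u) = h u v
    rw [hσ, hh_swap v u]⟩
  have hB0 : ∀ u, (∀ v, h v u = 0) → u = 0 := by
    intro u hu
    refine (Symplectic.spB_nondeg m F).1 u fun v => ?_
    rw [Symplectic.spB_apply]
    have h0 := hrec u v
    rw [hh_swap v u, hu, zero_pow (by omega), sub_zero] at h0
    have h0' : (ω ^ q - ω) * ι (sympForm m F u v) = 0 := by linear_combination h0
    exact ι.injective (by rw [map_zero]; exact (mul_eq_zero.1 h0').resolve_left hωne)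
  have hBN : B.Nondegenerate :=
    ⟨fun u hu => hB0 u hu, fun u hu => hB0 u fun v => by
      rw [hh_swap u v, show h u v = 0 from hu v, zero_pow (by omega)]⟩
  have hσne : σ ≠ RingHom.id _ := fun e => hωne (by
    rw [sub_eq_zero]; exact RingHom.congr_fun e ω)
  obtain ⟨b, hb⟩ := H33.exists_orthonormal hσne (fun c => Unitary.pow_q_q hK c) B hBS hBN
  have hdim : Module.finrank (AdjoinRoot (cyc F)) (Fin m ⊕ Fin m → F) = m := by
    have h1 : Fintype.card (Fin m ⊕ Fin m → F) =
        Fintype.card (Fin (Module.finrank (AdjoinRoot (cyc F)) (Fin m ⊕ Fin m → F)) → AdjoinRoot (cyc F)) :=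
      Fintype.card_congr b.equivFun.toEquiv
    simp only [Fintype.card_fun, Fintype.card_sum, Fintype.card_fin, hK, hF, ← pow_mul] at h1
    have := Nat.pow_right_injective (show 2 ≤ q by omega) h1
    omega
  generalize hd : Module.finrank (AdjoinRoot (cyc F)) (Fin m ⊕ Fin m → F) = d at b hb hdim
  subst hdim
  let Φ := b.equivFun
  have hΦ : ∀ u v, h u v = hermForm d (AdjoinRoot (cyc F)) q (Φ u) (Φ v) := by
    intro u v
    show B v u = _
    conv_lhs => rw [← b.sum_equivFun u, ← b.sum_equivFun v]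
    simp only [map_sum, LinearMap.sum_apply, map_smulₛₗ, LinearMap.smul_apply, smul_eq_mul, map_smul, hb]
    simp only [mul_ite, mul_one, mul_zero, Finset.sum_ite_eq, Finset.sum_ite_eq', Finset.mem_univ, if_true,
      hermForm, Φ, hσ]
    exact Finset.sum_congr rfl fun i _ => by rw [RingHom.id_apply, mul_comm]
  rw [← Unitary.card_GU hK d]
  refine (Nat.card_eq_of_bijective (fun g : GU d (AdjoinRoot (cyc F)) q =>
    (⟨⟨LinearMap.toMatrix' ({ toFun := fun v => Φ.symm (Unitary.gap g (Φ v))
                              map_add' := fun v w => by rw [map_add, Unitary.gap_add, map_add]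
                              map_smul' := fun a v => by
                                rw [← hι', map_smul, Unitary.gap_smul, map_smul, hι', RingHom.id_apply] } :
        (Fin d ⊕ Fin d → F) →ₗ[F] (Fin d ⊕ Fin d → F)), ?_⟩, ?_⟩ :
      ↥(Subgroup.centralizer ({x} : Set ↥(Matrix.symplecticGroup (Fin d) F))))) ⟨?_, ?_⟩).symm
  · rw [Symplectic.mem_symplectic_iff_form]
    intro u v
    simp only [LinearMap.toMatrix'_mulVec]
    show sympForm d F (Φ.symm _) (Φ.symm _) = _
    apply ι.injective
    apply mul_left_cancel₀ (neg_ne_zero.2 hωne)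
    have h0 := hrec (Φ.symm (Unitary.gap g (Φ u))) (Φ.symm (Unitary.gap g (Φ v)))
    rw [hΦ, hΦ, LinearEquiv.apply_symm_apply, LinearEquiv.apply_symm_apply, Unitary.herm_gap,
      Unitary.herm_gap, ← hΦ, ← hΦ, hrec] at h0
    linear_combination -h0
  · rw [Subgroup.mem_centralizer_singleton_iff]
    refine Subtype.ext (Matrix.toLin'.injective (LinearMap.ext fun v => ?_))
    simp only [Submonoid.coe_mul, Matrix.toLin'_apply, ← mulVec_mulVec, LinearMap.toMatrix'_mulVec]
    show Φ.symm (Unitary.gap g (Φ (A *ᵥ v))) = A *ᵥ Φ.symm (Unitary.gap g (Φ v))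
    rw [← hω', map_smul, Unitary.gap_smul, map_smul, hω']
  · intro g g' e
    refine Unitary.gap_ext fun y => ?_
    have e1 := congrArg (fun c => (c.1.1) *ᵥ Φ.symm y) e
    simp only [LinearMap.toMatrix'_mulVec] at e1
    simpa using e1
  · intro c
    have hc : ∀ v, A *ᵥ (c.1.1 *ᵥ v) = c.1.1 *ᵥ (A *ᵥ v) := by
      intro v
      have e := congrArg Subtype.val (Subgroup.mem_centralizer_singleton_iff.1 c.2)
      simp only [Submonoid.coe_mul] at e
      rw [mulVec_mulVec, mulVec_mulVec]
      rw [e]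
    let L : (Fin d → AdjoinRoot (cyc F)) →ₗ[AdjoinRoot (cyc F)] (Fin d → AdjoinRoot (cyc F)) :=
      { toFun := fun y => Φ (c.1.1 *ᵥ Φ.symm y)
        map_add' := fun y z => by rw [map_add, mulVec_add, map_add]
        map_smul' := fun k y => by
          rw [RingHom.id_apply, map_smul, ← map_smul Φ k]
          obtain ⟨a, e, rfl⟩ := hcoord k
          simp only [add_smul, mul_smul, hι', hω', mulVec_add, mulVec_smul, hc] }
    have hL : Unitary.Preserves q (LinearMap.toMatrix' L) := by
      intro u v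
      rw [LinearMap.toMatrix'_mulVec, LinearMap.toMatrix'_mulVec]
      show hermForm _ _ q (Φ _) (Φ _) = _
      rw [← hΦ]
      conv_rhs => rw [← Φ.apply_symm_apply u, ← Φ.apply_symm_apply v, ← hΦ]
      simp only [h, hc, (Symplectic.mem_symplectic_iff_form c.1.1).1 c.1.2]
    refine ⟨Unitary.toGU hK hL, Subtype.ext (Subtype.ext (Matrix.toLin'.injective (LinearMap.ext fun v => ?_)))⟩
    simp only [Matrix.toLin'_apply, LinearMap.toMatrix'_mulVec]
    show Φ.symm (Unitary.gap (Unitary.toGU hK hL) (Φ v)) = _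
    rw [Unitary.gap, show Unitary.gmat (Unitary.toGU hK hL) = LinearMap.toMatrix' L from
      Unitary.coe_toGU hK hL, LinearMap.toMatrix'_mulVec]
    show Φ.symm (Φ _) = _
    rw [Φ.symm_apply_apply, Φ.symm_apply_apply]

end Cfsg.Agent.H57.SpOrderThree
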