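import Mathlib
import Cfsg.Agent.H57.SpForms
import Cfsg.Agent.Arith.UnipotentClasses

/-!
# Classes of elements of order `p` in symplectic groups in odd characteristic

They correspond to the signed partitions.
-/

set_option autoImplicit false
set_option linter.unusedSectionVars false

namespace Cfsg.Agent.H57.SpUnipotentClasses

open Matrix Cfsg Cfsg.Agent.Arith.JordanCent Cfsg.Agent.H99 Cfsg.Agent.H57.SpForms

variable {F : Type*} [Field F] {t : ℕ} {m : ℕ}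

theorem jordan_sub_one_pow {d : Fin t → ℕ} {e : ℕ} (hd : ∀ k, d k ≤ e) :
    (jordanTypeMatrix d F - 1) ^ e = 0 := by
  have h : (H72.UnipotentForm.jEnd d - 1 : Module.End F (Idx d → F)) ^ e = 0 := by
    rw [H72.OrthTypeFix.jEnd_eq_shiftEnd]
    exact shiftEnd_pow_eq_zero _ hd
  rw [H72.UnipotentForm.jEnd, ← map_one (Matrix.toLinAlgEquiv' (R := F) (n := Idx d)), ← map_sub,
    ← map_pow, map_eq_zero_iff _ (AlgEquiv.injective _)] at h
  exact h

variable {κ : Type} [Fintype κ] [DecidableEq κ]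

/-- A rectangular change of basis to the Jordan matrix. -/
def Frame (d : Fin t → ℕ) (u : Matrix κ κ F) (P : Matrix κ (Idx d) F) (Q : Matrix (Idx d) κ F) : Prop :=
  P * Q = 1 ∧ Q * P = 1 ∧ u = P * jordanTypeMatrix d F * Q

theorem Frame.mul_left {d : Fin t → ℕ} {u : Matrix κ κ F} {P : Matrix κ (Idx d) F} {Q : Matrix (Idx d) κ F}
    (h : Frame d u P Q) : u * P = P * jordanTypeMatrix d F := by
  rw [h.2.2, Matrix.mul_assoc, h.2.1, Matrix.mul_one]

theorem Frame.pow_eq_zero {d : Fin t → ℕ} {u : Matrix κ κ F} {P : Matrix κ (Idx d) F}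
    {Q : Matrix (Idx d) κ F} (h : Frame d u P Q) {e : ℕ} (hd : ∀ k, d k ≤ e) : (u - 1) ^ e = 0 := by
  have h1 : u - 1 = P * (jordanTypeMatrix d F - 1) * Q := by
    rw [Matrix.mul_sub, Matrix.sub_mul, Matrix.mul_one, h.1, ← h.2.2]
  have h2 : ∀ k, (u - 1) ^ k * P = P * (jordanTypeMatrix d F - 1) ^ k := by
    intro k
    induction k with
    | zero => simp
    | succ k ih =>
      rw [pow_succ, Matrix.mul_assoc, h1, Matrix.mul_assoc _ Q P, h.2.1, Matrix.mul_one, ← Matrix.mul_assoc,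
        ← h1, ih, Matrix.mul_assoc, ← pow_succ]
  have h3 := h2 e
  rw [jordan_sub_one_pow hd, Matrix.mul_zero] at h3
  calc (u - 1) ^ e = (u - 1) ^ e * P * Q := by rw [Matrix.mul_assoc, h.1, Matrix.mul_one]
    _ = 0 := by rw [h3, Matrix.zero_mul]

/-- The linear equivalence of a frame. -/
noncomputable def frameEquiv {d : Fin t → ℕ} {P : Matrix κ (Idx d) F} {Q : Matrix (Idx d) κ F}
    (h1 : P * Q = 1) (h2 : Q * P = 1) : (Idx d → F) ≃ₗ[F] (κ → F) :=
  LinearEquiv.ofLinearMap (Matrix.toLin' P) (Matrix.toLin' Q)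
    (by rw [← Matrix.toLin'_mul, h1, Matrix.toLin'_one]) (by rw [← Matrix.toLin'_mul, h2, Matrix.toLin'_one])

theorem Frame.blockParts_eq {d : Fin t → ℕ} {u : Matrix κ κ F} {P : Matrix κ (Idx d) F}
    {Q : Matrix (Idx d) κ F} (h : Frame d u P Q) {e : ℕ} (hd : ∀ k, 0 < d k ∧ d k ≤ e) :
    blockParts (Matrix.toLinAlgEquiv' (u - 1) : Module.End F (κ → F)) ⊤ e = Finset.univ.val.map d := by
  rw [show (Matrix.toLinAlgEquiv' (u - 1) : Module.End F (κ → F)) =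
      shiftEnd ((Pi.basisFun F (Idx d)).map (frameEquiv h.1 h.2.1)) from ?_, blockParts_shiftEnd _ hd]
  rw [H72.OrthTypeFix.shiftEnd_map, ← H72.OrthTypeFix.jEnd_eq_shiftEnd, H72.UnipotentForm.jEnd,
    ← map_one (Matrix.toLinAlgEquiv' (R := F) (n := Idx d)), ← map_sub,
    show u - 1 = P * ((jordanTypeMatrix d F - 1) * Q) by
      rw [← Matrix.mul_assoc, Matrix.mul_sub, Matrix.sub_mul, Matrix.mul_one, h.1, ← h.2.2]]
  refine LinearMap.ext fun x => ?_
  show (P * ((jordanTypeMatrix d F - 1) * Q)) *ᵥ x = P *ᵥ ((jordanTypeMatrix d F - 1) *ᵥ (Q *ᵥ x))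
  rw [Matrix.mulVec_mulVec, Matrix.mulVec_mulVec, ← Matrix.mul_assoc]

/-- Jordan form of a unipotent matrix with prescribed order of blocks. -/
theorem exists_frame_of_pow {e : ℕ} (u : Matrix κ κ F) (hu : (u - 1) ^ e = 0) :
    ∃ (L : ℕ) (d : Fin L → ℕ), (∀ k, 0 < d k ∧ d k ≤ e) ∧
      ∀ (t : ℕ) (d' : Fin t → ℕ), Finset.univ.val.map d' = Finset.univ.val.map d →
        ∃ P Q, Frame d' u P Q := by
  classical
  obtain ⟨L, d, b, hd, hb⟩ := exists_shift_basis (Matrix.toLinAlgEquiv' (u - 1) : Module.End F (κ → F)) (p := e)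
    (by rw [← map_pow, hu, map_zero])
  refine ⟨L, d, hd, fun t d' hmap => ?_⟩
  let σ : Fin t ≃ Fin L := Equiv.ofFiberEquiv (f := d') (g := d) fun c => Fintype.equivOfCardEq (by
    have h := congrArg (Multiset.count c) hmap
    rw [Multiset.count_map, Multiset.count_map, ← Finset.filter_val, ← Finset.filter_val,
      Finset.card_val, Finset.card_val] at h
    rw [Fintype.card_subtype, Fintype.card_subtype]
    simpa [eq_comm] using h)
  have hσ : ∀ i, d (σ i) = d' i := fun i => Equiv.ofFiberEquiv_map _ i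
  let τ : Idx d' ≃ Idx d := σ.sigmaCongr fun i => finCongr (hσ i).symm
  let Φ : (Idx d' → F) ≃ₗ[F] (κ → F) := (Pi.basisFun F (Idx d')).equiv b τ
  have hΦ : Φ.toLinearMap ∘ₗ (H72.UnipotentForm.jEnd d' - 1 : Module.End F (Idx d' → F)) =
      (Matrix.toLinAlgEquiv' (u - 1) : Module.End F (κ → F)) ∘ₗ Φ.toLinearMap := by
    rw [H72.OrthTypeFix.jEnd_eq_shiftEnd, ← hb]
    refine (Pi.basisFun F (Idx d')).ext fun x => ?_
    obtain ⟨i, k⟩ := x
    simp only [LinearMap.comp_apply, LinearEquiv.coe_coe, shiftEnd, Module.Basis.constr_basis, Φ,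
      Module.Basis.equiv_apply]
    by_cases hk : (k : ℕ) + 1 < d' i
    · have hk' : ((τ ⟨i, k⟩).2 : ℕ) + 1 < d (τ ⟨i, k⟩).1 := by
        show (k : ℕ) + 1 < d (σ i)
        rw [hσ]; exact hk
      rw [dif_pos hk, dif_pos hk', Module.Basis.equiv_apply]
      rfl
    · have hk' : ¬ ((τ ⟨i, k⟩).2 : ℕ) + 1 < d (τ ⟨i, k⟩).1 := by
        show ¬ (k : ℕ) + 1 < d (σ i)
        rw [hσ]; exact hk
      rw [dif_neg hk, dif_neg hk', map_zero]
  have h1 : LinearMap.toMatrix' Φ.toLinearMap * LinearMap.toMatrix' Φ.symm.toLinearMap = 1 := by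
    rw [← LinearMap.toMatrix'_comp, LinearEquiv.comp_coe, LinearEquiv.symm_trans_self,
      LinearEquiv.refl_toLinearMap, LinearMap.toMatrix'_id]
  have h2 : LinearMap.toMatrix' Φ.symm.toLinearMap * LinearMap.toMatrix' Φ.toLinearMap = 1 := by
    rw [← LinearMap.toMatrix'_comp, LinearEquiv.comp_coe, LinearEquiv.self_trans_symm,
      LinearEquiv.refl_toLinearMap, LinearMap.toMatrix'_id]
  refine ⟨_, _, h1, h2, ?_⟩
  have h3 := congrArg LinearMap.toMatrix' hΦ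
  have e1 : ∀ (ι : Type) [Fintype ι] [DecidableEq ι] (A : Matrix ι ι F),
      (Matrix.toLinAlgEquiv' A : Module.End F (ι → F)) = Matrix.toLin' A := fun _ _ _ _ => rfl
  rw [LinearMap.toMatrix'_comp, LinearMap.toMatrix'_comp, H72.UnipotentForm.jEnd,
    ← map_one (Matrix.toLinAlgEquiv' (R := F) (n := Idx d')), ← map_sub, e1, e1,
    LinearMap.toMatrix'_toLin', LinearMap.toMatrix'_toLin', Matrix.mul_sub, Matrix.sub_mul, Matrix.mul_one,
    Matrix.one_mul, sub_left_inj] at h3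
  rw [h3, Matrix.mul_assoc, h1, Matrix.mul_one]

section Sp

variable [Fintype F]

local notation "Ω" => Matrix.J (Fin m) F

theorem inv_of_frame {d : Fin t → ℕ} (_h2 : (2 : F) ≠ 0) {u : Matrix (Fin m ⊕ Fin m) (Fin m ⊕ Fin m) F}
    (hu : uᵀ * Ω * u = Ω) {P : Matrix (Fin m ⊕ Fin m) (Idx d) F} {Q : Matrix (Idx d) (Fin m ⊕ Fin m) F}
    (h : Frame d u P Q) : Inv (Pᵀ * Ω * P) := by
  refine ⟨?_, ?_, ?_⟩
  · calc (jordanTypeMatrix d F)ᵀ * (Pᵀ * Ω * P) * jordanTypeMatrix d F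
        = (P * jordanTypeMatrix d F)ᵀ * Ω * (P * jordanTypeMatrix d F) := by
          rw [Matrix.transpose_mul]; simp only [Matrix.mul_assoc]
      _ = Pᵀ * (uᵀ * Ω * u) * P := by
          rw [← h.mul_left, Matrix.transpose_mul]; simp only [Matrix.mul_assoc]
      _ = Pᵀ * Ω * P := by rw [hu]
  · rw [Matrix.transpose_mul, Matrix.transpose_mul, Matrix.transpose_transpose, Matrix.J_transpose]
    simp [Matrix.mul_assoc]
  · have h5 : Qᵀ * Pᵀ = 1 := by rw [← Matrix.transpose_mul, h.1, Matrix.transpose_one]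
    have h6 : Pᵀ * Ω * P * (Q * (-Ω) * Qᵀ) = 1 := by
      calc Pᵀ * Ω * P * (Q * (-Ω) * Qᵀ) = Pᵀ * Ω * (P * Q) * (-Ω) * Qᵀ := by simp only [Matrix.mul_assoc]
        _ = Pᵀ * -(Ω * Ω) * Qᵀ := by rw [h.1, Matrix.mul_one]; simp [Matrix.mul_assoc]
        _ = 1 := by
          rw [Matrix.J_squared, neg_neg, Matrix.mul_one, ← Matrix.transpose_mul, h.2.1, Matrix.transpose_one]
    exact (Matrix.isUnit_iff_isUnit_det _).2
      (IsUnit.of_mul_eq_one _ (by rw [← Matrix.det_mul, h6, Matrix.det_one]))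

theorem alt_of_inv {d : Fin t → ℕ} (h2 : (2 : F) ≠ 0) {G : Matrix (Idx d) (Idx d) F} (hG : Inv G)
    (v : Idx d → F) : H58.FormSim.bf G v v = 0 :=
  H58.FormClass.alt_of_skew h2 (by rw [hG.2.1, neg_one_smul]) v

/-- The blocks of an element. -/
noncomputable def dd {n : ℕ} (μ : Nat.Partition n) : Fin μ.parts.toList.length → ℕ :=
  fun i => μ.parts.toList[i.1]

theorem map_dd {n : ℕ} (μ : Nat.Partition n) : Finset.univ.val.map (dd μ) = μ.parts := by
  conv_rhs => rw [← Multiset.coe_toList μ.parts]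
  rw [Fin.univ_val_map]
  exact congrArg _ List.ofFn_getElem

theorem mem_dd {n : ℕ} (μ : Nat.Partition n) (k) : dd μ k ∈ μ.parts :=
  map_dd μ ▸ Multiset.mem_map_of_mem (dd μ) (Finset.mem_univ_val k)

theorem dd_pos {n : ℕ} (μ : Nat.Partition n) (k) : 1 ≤ dd μ k :=
  μ.parts_pos (mem_dd μ k)

theorem exists_dd {n : ℕ} (μ : Nat.Partition n) {j : ℕ} (hj : j ∈ μ.parts) : ∃ k, dd μ k = j := by
  rw [← map_dd μ] at hj
  obtain ⟨k, -, hk⟩ := Multiset.mem_map.1 hj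
  exact ⟨k, hk⟩

theorem count_dd {n : ℕ} (μ : Nat.Partition n) (j : ℕ) :
    μ.parts.count j = (Finset.univ.filter fun k => dd μ k = j).card := by
  refine (congrArg (Multiset.count j) (map_dd μ)).symm.trans ?_
  rw [Multiset.count_map, ← Finset.filter_val, Finset.card_val]
  simp only [eq_comm]

theorem card_dd {n : ℕ} (μ : Nat.Partition n) : Fintype.card (Idx (dd μ)) = n := by
  rw [Fintype.card_sigma]
  simp only [Fintype.card_fin]
  rw [Finset.sum, map_dd, μ.parts_sum]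

/-- Good partitions. -/
abbrev GoodPart (m e : ℕ) : Type :=
  {μ : Nat.Partition (2 * m) // (∀ a ∈ μ.parts, a ≤ e) ∧ ∀ j : ℕ, Odd j → Even (μ.parts.count j)}

/-- Signed partitions. -/
abbrev Signed (m e : ℕ) : Type :=
  Σ μ : GoodPart m e, ({j // j ∈ μ.1.parts.toFinset.filter fun j : ℕ => Even j} → Bool)

open Classical in
theorem card_signed (m e : ℕ) : Nat.card (Signed m e) = ∑ μ ∈ Finset.univ.filter (fun μ : Nat.Partition (2 * m) =>
    (∀ a ∈ μ.parts, a ≤ e) ∧ ∀ j : ℕ, Odd j → Even (μ.parts.count j)),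
      2 ^ ((μ.parts.toFinset.filter (fun j : ℕ => Even j)).card) := by
  classical
  rw [Nat.card_sigma, Finset.sum_subtype (p := fun μ : Nat.Partition (2 * m) =>
    (∀ a ∈ μ.parts, a ≤ e) ∧ ∀ j : ℕ, Odd j → Even (μ.parts.count j)) _ (fun x => by simp)]
  refine Finset.sum_congr rfl fun μ _ => ?_
  rw [Nat.card_fun, Nat.card_eq_fintype_card, Fintype.card_bool, Nat.card_eq_fintype_card, Fintype.card_coe]

theorem isSquare_mul_iff {a b : F} (ha : a ≠ 0) (hb : b ≠ 0) : IsSquare (a * b) ↔ (IsSquare a ↔ IsSquare b) := by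
  by_cases h : IsSquare b
  · refine ⟨fun hab => iff_of_true ?_ h, fun hi => (hi.2 h).mul h⟩
    obtain ⟨r, hr⟩ := hab
    obtain ⟨s, hs⟩ := h
    refine ⟨r / s, ?_⟩
    have hs0 : s ≠ 0 := fun h0 => hb (by rw [hs, h0, mul_zero])
    field_simp
    rw [pow_two, pow_two, ← hr, hs]
  · rw [H57.isSquare_mul_nonsquare ha hb h]
    tauto

/-- Every signed partition has an element with those invariants. -/
theorem exists_element (hodd : Odd (Fintype.card F)) {e : ℕ} (x : Signed m e) :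
    ∃ (u : Matrix.symplecticGroup (Fin m) F) (P : Matrix (Fin m ⊕ Fin m) (Idx (dd x.1.1)) F)
      (Q : Matrix (Idx (dd x.1.1)) (Fin m ⊕ Fin m) F),
      Frame (dd x.1.1) (u : Matrix (Fin m ⊕ Fin m) (Fin m ⊕ Fin m) F) P Q ∧
      ∀ j : {j // j ∈ x.1.1.parts.toFinset.filter fun j : ℕ => Even j},
        x.2 j = true ↔ IsSquare (botBlock (Pᵀ * Ω * P) (j : ℕ)).det := by
  classical
  obtain ⟨⟨μ, hμe, hev⟩, f⟩ := x
  have h2 := H57.card_odd_two_ne_zero hodd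
  obtain ⟨G, hG, hf⟩ := exists_with_classes (d := dd μ) hodd (dd_pos μ)
    (fun j hj => count_dd μ j ▸ hev j hj)
    (fun j => if h : j ∈ μ.parts.toFinset.filter (fun j : ℕ => Even j) then f ⟨j, h⟩ else false)
  obtain ⟨P, Q, hPQ, hQP, hP⟩ := exists_frame ((Matrix.isUnit_iff_isUnit_det _).1 hG.2.2).ne_zero
    (alt_of_inv h2 hG) (card_dd μ)
  have hGQ : Qᵀ * G * Q = Ω := by
    rw [← hP]
    calc Qᵀ * (Pᵀ * Ω * P) * Q = (P * Q)ᵀ * Ω * (P * Q) := by
          rw [Matrix.transpose_mul]; simp only [Matrix.mul_assoc]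
      _ = Ω := by rw [hPQ, Matrix.transpose_one, Matrix.one_mul, Matrix.mul_one]
  refine ⟨⟨P * jordanTypeMatrix (dd μ) F * Q, SymplecticGroup.mem_iff'.2 ?_⟩, P, Q, ⟨hPQ, hQP, rfl⟩, fun j => ?_⟩
  · calc (P * jordanTypeMatrix (dd μ) F * Q)ᵀ * Ω * (P * jordanTypeMatrix (dd μ) F * Q)
        = Qᵀ * ((jordanTypeMatrix (dd μ) F)ᵀ * (Pᵀ * Ω * P) * jordanTypeMatrix (dd μ) F) * Q := by
          rw [Matrix.transpose_mul, Matrix.transpose_mul]; simp only [Matrix.mul_assoc]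
      _ = Qᵀ * G * Q := by rw [hP, hG.1]
      _ = Ω := hGQ
  · rw [hP]
    obtain ⟨hj1, hj2⟩ := Finset.mem_filter.1 j.2
    rw [← hf _ hj2 (exists_dd μ (Multiset.mem_toFinset.1 hj1)), dif_pos j.2]

/-- The classes with `(g - 1) ^ e = 0` correspond to the signed partitions. -/
theorem card_classes (hodd : Odd (Fintype.card F)) (e : ℕ) :
    Nat.card {C : ConjClasses ↥(Matrix.symplecticGroup (Fin m) F) // ∃ g : Matrix.symplecticGroup (Fin m) F,
      ConjClasses.mk g = C ∧ ((g : Matrix (Fin m ⊕ Fin m) (Fin m ⊕ Fin m) F) - 1) ^ e = 0} =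
    Nat.card (Signed m e) := by
  classical
  have h2 := H57.card_odd_two_ne_zero hodd
  symm
  choose u P Q hF hsign using fun x : Signed m e => exists_element (F := F) (m := m) hodd x
  have hd : ∀ x : Signed m e, ∀ k, 0 < dd x.1.1 k ∧ dd x.1.1 k ≤ e := fun x k =>
    ⟨dd_pos _ k, x.1.2.1 _ (mem_dd _ k)⟩
  refine Nat.card_eq_of_bijective (fun x => ⟨ConjClasses.mk (u x), u x, rfl,
    (hF x).pow_eq_zero fun k => (hd x k).2⟩) ⟨?_, ?_⟩
  · intro x y hxy
    obtain ⟨c, hc⟩ := isConj_iff.1 (ConjClasses.mk_eq_mk_iff_isConj.1 (congrArg Subtype.val hxy))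
    have hc' : (c : Matrix (Fin m ⊕ Fin m) (Fin m ⊕ Fin m) F) * (u x : Matrix (Fin m ⊕ Fin m) (Fin m ⊕ Fin m) F) =
        (u y : Matrix (Fin m ⊕ Fin m) (Fin m ⊕ Fin m) F) * (c : Matrix (Fin m ⊕ Fin m) (Fin m ⊕ Fin m) F) := by
      rw [← Submonoid.coe_mul, ← Submonoid.coe_mul]
      exact congrArg Subtype.val (mul_inv_eq_iff_eq_mul.1 hc)
    have hcΩ := SymplecticGroup.mem_iff'.1 c.2
    obtain ⟨A, hA, hA'⟩ : ∃ A, (c : Matrix (Fin m ⊕ Fin m) (Fin m ⊕ Fin m) F) * A = 1 ∧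
        A * (c : Matrix (Fin m ⊕ Fin m) (Fin m ⊕ Fin m) F) = 1 :=
      ⟨((c⁻¹ : Matrix.symplecticGroup (Fin m) F) : Matrix (Fin m ⊕ Fin m) (Fin m ⊕ Fin m) F),
        by rw [← Submonoid.coe_mul, mul_inv_cancel]; rfl,
        by rw [← Submonoid.coe_mul, inv_mul_cancel]; rfl⟩
    have hF' : Frame (dd x.1.1) (u y : Matrix (Fin m ⊕ Fin m) (Fin m ⊕ Fin m) F)
        ((c : Matrix (Fin m ⊕ Fin m) (Fin m ⊕ Fin m) F) * P x) (Q x * A) := by
      refine ⟨?_, ?_, ?_⟩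
      · rw [Matrix.mul_assoc, ← Matrix.mul_assoc (P x), (hF x).1, Matrix.one_mul, hA]
      · rw [Matrix.mul_assoc, ← Matrix.mul_assoc A, hA', Matrix.one_mul, (hF x).2.1]
      · calc (u y : Matrix (Fin m ⊕ Fin m) (Fin m ⊕ Fin m) F)
            = (u y : Matrix (Fin m ⊕ Fin m) (Fin m ⊕ Fin m) F) * (c : Matrix (Fin m ⊕ Fin m) (Fin m ⊕ Fin m) F) * A := by rw [Matrix.mul_assoc, hA, Matrix.mul_one]
          _ = _ := by rw [← hc', (hF x).2.2]; simp only [Matrix.mul_assoc]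
    have hparts : x.1.1.parts = y.1.1.parts := by
      rw [← map_dd x.1.1, ← map_dd y.1.1, ← hF'.blockParts_eq (hd x), ← (hF y).blockParts_eq (hd y)]
    obtain ⟨⟨μ, hμ⟩, f⟩ := x
    obtain ⟨⟨ν, hν⟩, g⟩ := y
    obtain rfl : μ = ν := Nat.Partition.ext hparts
    simp only [Sigma.mk.injEq, heq_eq_eq, true_and]
    set P' := P ⟨⟨μ, hν⟩, g⟩
    set Q' := Q ⟨⟨μ, hν⟩, g⟩
    set P₁ := (c : Matrix (Fin m ⊕ Fin m) (Fin m ⊕ Fin m) F) * P ⟨⟨μ, hμ⟩, f⟩
    set Q₁ := Q ⟨⟨μ, hμ⟩, f⟩ * A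
    have hY := hF ⟨⟨μ, hν⟩, g⟩
    have hG := inv_of_frame h2 (SymplecticGroup.mem_iff'.1 (u ⟨⟨μ, hν⟩, g⟩).2) hY
    have hcomm : (Q' * P₁) * jordanTypeMatrix (dd μ) F = jordanTypeMatrix (dd μ) F * (Q' * P₁) := by
      rw [Matrix.mul_assoc, ← hF'.mul_left, hY.2.2]
      simp only [← Matrix.mul_assoc]
      rw [hY.2.1, Matrix.one_mul]
    have hu' : IsUnit (Q' * P₁) :=
      ⟨⟨Q' * P₁, Q₁ * P', by rw [Matrix.mul_assoc, ← Matrix.mul_assoc P₁, hF'.1, Matrix.one_mul, hY.2.1],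
        by rw [Matrix.mul_assoc, ← Matrix.mul_assoc P', hY.1, Matrix.one_mul, hF'.2.1]⟩, rfl⟩
    have hGG : (Q' * P₁)ᵀ * (P'ᵀ * Ω * P') * (Q' * P₁) =
        (P ⟨⟨μ, hμ⟩, f⟩)ᵀ * Ω * P ⟨⟨μ, hμ⟩, f⟩ := by
      calc (Q' * P₁)ᵀ * (P'ᵀ * Ω * P') * (Q' * P₁) = P₁ᵀ * ((P' * Q')ᵀ * Ω * (P' * Q')) * P₁ := by
            simp only [Matrix.transpose_mul, Matrix.mul_assoc]
        _ = (P ⟨⟨μ, hμ⟩, f⟩)ᵀ * ((c : Matrix (Fin m ⊕ Fin m) (Fin m ⊕ Fin m) F)ᵀ * Ω *
              (c : Matrix (Fin m ⊕ Fin m) (Fin m ⊕ Fin m) F)) * P ⟨⟨μ, hμ⟩, f⟩ := by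
            rw [hY.1, Matrix.transpose_one, Matrix.one_mul, Matrix.mul_one]
            simp only [P₁, Matrix.transpose_mul, Matrix.mul_assoc]
        _ = _ := by rw [hcΩ]
    funext j
    have hsq := isSquare_of_congr (dd_pos μ) hG hu' hcomm (j : ℕ)
    rw [hGG] at hsq
    have hG1 := inv_of_frame h2 (SymplecticGroup.mem_iff'.1 (u ⟨⟨μ, hμ⟩, f⟩).2) (hF ⟨⟨μ, hμ⟩, f⟩)
    rw [isSquare_mul_iff (botBlock_det_ne_zero (dd_pos μ) hG _) (botBlock_det_ne_zero (dd_pos μ) hG1 _)] at hsq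
    exact Bool.eq_iff_iff.2 ((hsign ⟨⟨μ, hμ⟩, f⟩ j).trans (hsq.symm.trans (hsign ⟨⟨μ, hν⟩, g⟩ j).symm))
  · rintro ⟨C, g, rfl, hg⟩
    obtain ⟨L, d₀, hd₀, hfr⟩ := exists_frame_of_pow (g : Matrix (Fin m ⊕ Fin m) (Fin m ⊕ Fin m) F) hg
    obtain ⟨P₀, Q₀, h₀⟩ := hfr L d₀ rfl
    have hG₀ := inv_of_frame h2 (SymplecticGroup.mem_iff'.1 g.2) h₀
    have hcard : Fintype.card (Idx d₀) = 2 * m := by
      have hrc : (Module.finrank F (Idx d₀ → F)) = Module.finrank F (Fin m ⊕ Fin m → F) :=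
        LinearEquiv.finrank_eq (frameEquiv h₀.1 h₀.2.1)
      rw [Module.finrank_fintype_fun_eq_card, Module.finrank_fintype_fun_eq_card, Fintype.card_sum,
        Fintype.card_fin] at hrc
      omega
    let μ : Nat.Partition (2 * m) :=
      ⟨Finset.univ.val.map d₀, fun {i} hi => by
        obtain ⟨k, -, rfl⟩ := Multiset.mem_map.1 hi
        exact (hd₀ k).1, by
        rw [← hcard, Fintype.card_sigma]
        simp [Finset.sum]⟩
    have hgood : (∀ a ∈ μ.parts, a ≤ e) ∧ ∀ j : ℕ, Odd j → Even (μ.parts.count j) := by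
      refine ⟨fun a ha => ?_, fun j hj => ?_⟩
      · obtain ⟨k, -, rfl⟩ := Multiset.mem_map.1 (show a ∈ Finset.univ.val.map d₀ from ha)
        exact (hd₀ k).2
      · have h := H72.UnipotentForm.even_of_alt (fun k => (hd₀ k).1)
          ((Matrix.isUnit_iff_isUnit_det _).1 hG₀.2.2).ne_zero (alt_of_inv h2 hG₀) hG₀.1 j hj
        rw [Multiset.count_map, ← Finset.filter_val, Finset.card_val]
        simpa only [eq_comm] using h
    obtain ⟨P₁, Q₁, h₁⟩ := hfr _ (dd μ) (map_dd μ)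
    have hG₁ := inv_of_frame h2 (SymplecticGroup.mem_iff'.1 g.2) h₁
    let x : Signed m e := ⟨⟨μ, hgood⟩, fun j => decide (IsSquare (botBlock (P₁ᵀ * Ω * P₁) (j : ℕ)).det)⟩
    have hx := hF x
    have hGx := inv_of_frame h2 (SymplecticGroup.mem_iff'.1 (u x).2) hx
    obtain ⟨X, hXu, hXc, hX⟩ := exists_congr hodd (dd_pos μ) hG₁ hGx fun j hj => by
      by_cases hmem : j ∈ μ.parts
      · have hj' : j ∈ μ.parts.toFinset.filter fun j : ℕ => Even j :=
          Finset.mem_filter.2 ⟨Multiset.mem_toFinset.2 hmem, hj⟩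
        rw [isSquare_mul_iff (botBlock_det_ne_zero (dd_pos μ) hG₁ _) (botBlock_det_ne_zero (dd_pos μ) hGx _)]
        have := hsign x ⟨j, hj'⟩
        simp only [x, decide_eq_true_eq] at this
        exact this
      · haveI : IsEmpty {k : Fin μ.parts.toList.length // dd μ k = j} :=
          ⟨fun k => hmem (k.2 ▸ mem_dd μ k.1)⟩
        simp [Matrix.det_isEmpty]
    refine ⟨x, Subtype.ext (ConjClasses.mk_eq_mk_iff_isConj.2 (isConj_iff.2
      ⟨⟨P₁ * X * Q x, SymplecticGroup.mem_iff'.2 ?_⟩, mul_inv_eq_iff_eq_mul.2 (Subtype.ext ?_)⟩))⟩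
    · calc (P₁ * X * Q x)ᵀ * Ω * (P₁ * X * Q x)
          = (Q x)ᵀ * (Xᵀ * (P₁ᵀ * Ω * P₁) * X) * Q x := by
            simp only [Matrix.transpose_mul, Matrix.mul_assoc]
        _ = ((P x) * Q x)ᵀ * Ω * (P x * Q x) := by
            rw [hX]; simp only [Matrix.transpose_mul, Matrix.mul_assoc]
        _ = Ω := by rw [hx.1, Matrix.transpose_one, Matrix.one_mul, Matrix.mul_one]
    · show P₁ * X * Q x * (u x : Matrix (Fin m ⊕ Fin m) (Fin m ⊕ Fin m) F) =
        (g : Matrix (Fin m ⊕ Fin m) (Fin m ⊕ Fin m) F) * (P₁ * X * Q x)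
      rw [hx.2.2, ← Matrix.mul_assoc (g : Matrix (Fin m ⊕ Fin m) (Fin m ⊕ Fin m) F), ← Matrix.mul_assoc (g : Matrix (Fin m ⊕ Fin m) (Fin m ⊕ Fin m) F), h₁.mul_left]
      simp only [Matrix.mul_assoc]
      rw [← Matrix.mul_assoc (Q x) (P x), hx.2.1, Matrix.one_mul, ← Matrix.mul_assoc X, hXc]
      simp only [Matrix.mul_assoc]

theorem sub_pow_char_iff (p : ℕ) [Fact p.Prime] [CharP F p] (g : Matrix.symplecticGroup (Fin m) F) :
    g ^ p = 1 ↔ ((g : Matrix (Fin m ⊕ Fin m) (Fin m ⊕ Fin m) F) - 1) ^ p = 0 := by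
  rcases Nat.eq_zero_or_pos m with rfl | hm
  · exact iff_of_true (Subsingleton.elim _ _) (Subsingleton.elim _ _)
  haveI : Nonempty (Fin m) := ⟨⟨0, hm⟩⟩
  rw [sub_pow_char_of_commute (p := p) (h := Commute.one_right _), one_pow, sub_eq_zero, Subtype.ext_iff,
    SubmonoidClass.coe_pow, Submonoid.coe_one]

open Classical in
/-- Elements of order `p`. -/
theorem card_classes_order (p : ℕ) [Fact p.Prime] [CharP F p] (hp : p ≠ 2) :
    Nat.card {C : ConjClasses ↥(Matrix.symplecticGroup (Fin m) F) //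
      ∃ g : Matrix.symplecticGroup (Fin m) F, ConjClasses.mk g = C ∧ orderOf g = p} =
    (∑ μ ∈ Finset.univ.filter (fun μ : Nat.Partition (2 * m) =>
      (∀ a ∈ μ.parts, a ≤ p) ∧ ∀ j : ℕ, Odd j → Even (μ.parts.count j)),
      2 ^ ((μ.parts.toFinset.filter (fun j : ℕ => Even j)).card)) - 1 := by
  classical
  have hodd : Odd (Fintype.card F) := by
    obtain ⟨n, -, hn⟩ := FiniteField.card F p
    rw [hn]
    exact ((Fact.out : p.Prime).odd_of_ne_two hp).pow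
  rw [← card_signed, ← card_classes (F := F) hodd p]
  set S := {C : ConjClasses ↥(Matrix.symplecticGroup (Fin m) F) | ∃ g : Matrix.symplecticGroup (Fin m) F,
    ConjClasses.mk g = C ∧ ((g : Matrix (Fin m ⊕ Fin m) (Fin m ⊕ Fin m) F) - 1) ^ p = 0}
  have hone : ConjClasses.mk (1 : Matrix.symplecticGroup (Fin m) F) ∈ S := ⟨1, rfl, by
    simp [zero_pow (Fact.out : p.Prime).ne_zero]⟩
  have hset : {C : ConjClasses ↥(Matrix.symplecticGroup (Fin m) F) | ∃ g : Matrix.symplecticGroup (Fin m) F,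
      ConjClasses.mk g = C ∧ orderOf g = p} = S \ {ConjClasses.mk 1} := by
    ext C
    constructor
    · rintro ⟨g, rfl, hg⟩
      rw [orderOf_eq_prime_iff, sub_pow_char_iff] at hg
      exact ⟨⟨g, rfl, hg.1⟩, fun h =>
        hg.2 (isConj_one_right.1 (ConjClasses.mk_eq_mk_iff_isConj.1 h).symm)⟩
    · rintro ⟨⟨g, rfl, hg⟩, hne⟩
      refine ⟨g, rfl, ?_⟩
      rw [orderOf_eq_prime_iff, sub_pow_char_iff]
      exact ⟨hg, fun h => hne (h ▸ rfl)⟩
  show Nat.card {C : ConjClasses ↥(Matrix.symplecticGroup (Fin m) F) | ∃ g : Matrix.symplecticGroup (Fin m) F,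
    ConjClasses.mk g = C ∧ orderOf g = p} = Nat.card S - 1
  rw [hset, Nat.card_coe_set_eq, Nat.card_coe_set_eq, Set.ncard_sdiff_singleton_of_mem hone]

end Sp

end Cfsg.Agent.H57.SpUnipotentClasses
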