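import Mathlib
import Cfsg.Agent.H54.CompLabel

/-!
The alternating sum of permutation characters on flags as a sum over invariant chains.
-/

set_option autoImplicit false
set_option linter.unusedSectionVars false

namespace Cfsg.Agent.H57.SteinbergChains

open Finset Cfsg

/-! ### The permutations occurring -/

/-- The sign of one step. -/
def step (a x y : ℕ) : ℤ := if y = x then -1 else if y = a + 1 then 1 else 0

/-- A permutation and a dimension sequence fit. -/
def Fits {n : ℕ} (κ : Equiv.Perm (Fin n)) (s : ℕ → ℕ) : Prop :=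
  ∀ a : Fin n, (κ a).val ≤ a.val + 1 ∧ s (a.val + 1) = s a.val + (a.val + 1 - (κ a).val)

theorem fits_props {n : ℕ} {κ : Equiv.Perm (Fin n)} {s : ℕ → ℕ} (h0 : s 0 = 0) (h : Fits κ s) :
    ∀ a, a ≤ n → s a ≤ a ∧
      (univ.filter fun i : Fin n => i.val < a).image (fun i => (κ i).val) = (Finset.range (a + 1)).erase (s a) ∧
      ∀ b, b < a → (s (b + 1) = s b ∨ s (b + 1) = b + 1) := by
  intro a
  induction a with
  | zero =>
    intro _
    refine ⟨h0.le, ?_, fun b hb => absurd hb (by omega)⟩
    rw [h0]
    simp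
  | succ a ih =>
    intro ha
    obtain ⟨hle, him, hst⟩ := ih (by omega)
    obtain ⟨h1, h2⟩ := h ⟨a, ha⟩
    simp only at h1 h2
    have hnew : (κ ⟨a, ha⟩).val = s a ∨ (κ ⟨a, ha⟩).val = a + 1 := by
      by_contra hc
      push Not at hc
      have hm : (κ ⟨a, ha⟩).val ∈ (univ.filter fun i : Fin n => i.val < a).image (fun i => (κ i).val) := by
        rw [him, mem_erase, mem_range]
        omega
      obtain ⟨i, hi, hie⟩ := mem_image.1 hm
      have := κ.injective (Fin.ext hie)
      rw [this] at hi
      simp at hi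
    have hins : (univ.filter fun i : Fin n => i.val < a + 1) =
        insert ⟨a, ha⟩ (univ.filter fun i : Fin n => i.val < a) := by
      ext i
      simp [Fin.ext_iff]
      omega
    rw [hins, image_insert, him]
    rcases hnew with hk | hk
    · refine ⟨by omega, ?_, ?_⟩
      · ext v
        simp only [mem_insert, mem_erase, mem_range]
        omega
      · intro b hb
        rcases Nat.lt_succ_iff_lt_or_eq.1 hb with hb | rfl
        · exact hst b hb
        · omega
    · refine ⟨by omega, ?_, ?_⟩
      · ext v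
        simp only [mem_insert, mem_erase, mem_range]
        omega
      · intro b hb
        rcases Nat.lt_succ_iff_lt_or_eq.1 hb with hb | rfl
        · exact hst b hb
        · omega

theorem valid_le {s : ℕ → ℕ} (h0 : s 0 = 0) :
    ∀ a, (∀ b, b < a → (s (b + 1) = s b ∨ s (b + 1) = b + 1)) → s a ≤ a
  | 0, _ => h0.le
  | a + 1, hv => by
    have := valid_le h0 a fun b hb => hv b (by omega)
    rcases hv a (by omega) with h | h <;> omega

theorem exists_perm {n : ℕ} {s : ℕ → ℕ} (h0 : s 0 = 0) (hn : s n = n)
    (hv : ∀ b, b < n → (s (b + 1) = s b ∨ s (b + 1) = b + 1)) :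
    ∀ a, a < n → ∃ π : Equiv.Perm (Fin n),
      (∀ i : Fin n, i.val < a → (π i).val = s i.val + (i.val + 1) - s (i.val + 1)) ∧
      (∀ i : Fin n, i.val = a → (π i).val = s a) ∧ (∀ i : Fin n, a < i.val → π i = i) ∧
      (Equiv.Perm.sign π : ℤ) = ∏ b ∈ Finset.range a, step b (s b) (s (b + 1)) := by
  intro a
  induction a with
  | zero =>
    intro _
    refine ⟨1, fun i hi => absurd hi (by omega), fun i hi => ?_, fun i _ => rfl, by simp⟩
    simp [hi, h0]
  | succ a ih =>
    intro ha
    obtain ⟨π, p1, p2, p3, p4⟩ := ih (by omega)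
    have hle := valid_le h0 a fun b hb => hv b (by omega)
    rw [Finset.prod_range_succ]
    rcases hv a (by omega) with hs | hs
    · refine ⟨π * Equiv.swap ⟨a, by omega⟩ ⟨a + 1, ha⟩, fun i hi => ?_, fun i hi => ?_, fun i hi => ?_, ?_⟩
      · rcases Nat.lt_succ_iff_lt_or_eq.1 hi with hi | hi
        · rw [Equiv.Perm.mul_apply, Equiv.swap_apply_of_ne_of_ne (by simp [Fin.ext_iff]; omega)
            (by simp [Fin.ext_iff]; omega)]
          exact p1 i hi
        · rw [Equiv.Perm.mul_apply, show i = ⟨a, by omega⟩ from Fin.ext hi, Equiv.swap_apply_left,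
            p3 _ (by simp)]
          simp only
          omega
      · rw [Equiv.Perm.mul_apply, show i = ⟨a + 1, ha⟩ from Fin.ext hi, Equiv.swap_apply_right, p2 _ rfl, hs]
      · rw [Equiv.Perm.mul_apply, Equiv.swap_apply_of_ne_of_ne (by simp [Fin.ext_iff]; omega)
          (by simp [Fin.ext_iff]; omega)]
        exact p3 i (by omega)
      · rw [map_mul, Equiv.Perm.sign_swap (by simp [Fin.ext_iff]), step, if_pos hs, Units.val_mul, p4]
        simp
    · refine ⟨π, fun i hi => ?_, fun i hi => ?_, fun i hi => p3 i (by omega), ?_⟩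
      · rcases Nat.lt_succ_iff_lt_or_eq.1 hi with hi | hi
        · exact p1 i hi
        · rw [p2 i hi, hi]; omega
      · rw [p3 i (by omega), hi, hs]
      · rw [step, if_neg (by omega), if_pos hs, mul_one, p4]

theorem valid_of_prod_ne {n : ℕ} {s : ℕ → ℕ} (hp : ∏ b ∈ Finset.range n, step b (s b) (s (b + 1)) ≠ 0)
    (b : ℕ) (hb : b < n) : s (b + 1) = s b ∨ s (b + 1) = b + 1 := by
  have h := Finset.prod_ne_zero_iff.1 hp b (Finset.mem_range.2 hb)
  unfold step at h
  split_ifs at h with h1 h2
  · exact Or.inl h1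
  · exact Or.inr h2
  · exact absurd rfl h

theorem fits_unique {n : ℕ} {κ κ' : Equiv.Perm (Fin n)} {s : ℕ → ℕ} (h : Fits κ s) (h' : Fits κ' s) : κ = κ' := by
  refine Equiv.ext fun a => Fin.ext ?_
  have := h a
  have := h' a
  omega

open Classical in
/-- The permutations fitting a dimension sequence. -/
theorem sum_fits {n : ℕ} {s : ℕ → ℕ} (h0 : s 0 = 0) (hn : s n = n) :
    ∑ κ : Equiv.Perm (Fin n), (if Fits κ s then (Equiv.Perm.sign κ : ℤ) else 0) =
      ∏ b ∈ Finset.range n, step b (s b) (s (b + 1)) := by
  by_cases hp : ∏ b ∈ Finset.range n, step b (s b) (s (b + 1)) = 0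
  · rw [hp]
    refine Finset.sum_eq_zero fun κ _ => if_neg fun hf => ?_
    obtain ⟨b, hb, hb0⟩ := Finset.prod_eq_zero_iff.1 hp
    rw [Finset.mem_range] at hb
    have := (fits_props h0 hf n le_rfl).2.2 b hb
    unfold step at hb0
    split_ifs at hb0 <;> omega
  · have hv := valid_of_prod_ne hp
    rcases Nat.eq_zero_or_pos n with rfl | hn0
    · rw [Fintype.sum_unique, if_pos (show Fits default s from fun a => Fin.elim0 a)]
      simp
    obtain ⟨π, p1, p2, -, p4⟩ := exists_perm h0 hn hv (n - 1) (by omega)
    have hle := valid_le h0 (n - 1) fun b hb => hv b (by omega)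
    have hlast : s (n - 1 + 1) = n := by rw [show n - 1 + 1 = n by omega]; exact hn
    have hfit : Fits π s := by
      intro a
      have hla := valid_le h0 a.val fun b hb => hv b (by omega)
      have hst := hv a.val a.isLt
      by_cases ha : a.val < n - 1
      · have := p1 a ha
        omega
      · have hav : a.val = n - 1 := by omega
        have := p2 a hav
        rw [hav]
        omega
    rw [Finset.sum_eq_single π (fun κ _ hne => if_neg fun hf => hne (fits_unique hf hfit)) (by simp), if_pos hfit, p4]
    conv_rhs => rw [show n = n - 1 + 1 by omega, Finset.prod_range_succ, hlast]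
    rw [step, if_neg (by omega), if_pos (by omega), mul_one]

/-! ### Fixed cosets of parabolic subgroups and chains -/

variable {n : ℕ} {F : Type*} [Field F]

/-- The first `k` coordinates. -/
def stdSub (n : ℕ) (F : Type*) [Field F] (k : ℕ) : Submodule F (Fin n → F) where
  carrier := {v | ∀ i : Fin n, k ≤ i.val → v i = 0}
  add_mem' := fun ha hb i hi => by simp [ha i hi, hb i hi]
  zero_mem' := fun i _ => rfl
  smul_mem' := fun c a ha i hi => by simp [ha i hi]

theorem finrank_stdSub {k : ℕ} (hk : k ≤ n) : Module.finrank F (stdSub n F k) = k := by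
  let e : stdSub n F k ≃ₗ[F] (Fin k → F) :=
    { toFun := fun v i => (v : Fin n → F) (i.castLE hk)
      map_add' := fun _ _ => rfl
      map_smul' := fun _ _ => rfl
      invFun := fun w => ⟨fun i => if h : i.val < k then w ⟨i.val, h⟩ else 0, fun i hi => dif_neg (by omega)⟩
      left_inv := fun v => Subtype.ext (funext fun i => by
        by_cases h : i.val < k
        · simp only [dif_pos h]; rfl
        · simp only [dif_neg h]; exact (v.2 i (by omega)).symm)
      right_inv := fun w => funext fun i => by simp }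
  rw [e.finrank_eq, Module.finrank_fintype_fun_eq_card, Fintype.card_fin]

theorem stdSub_le {k : ℕ} (W : Submodule F (Fin n → F)) (h : ∀ j : Fin n, j.val < k → Pi.single j 1 ∈ W) :
    stdSub n F k ≤ W := by
  intro v hv
  rw [pi_eq_sum_univ v]
  refine W.sum_mem fun j _ => ?_
  by_cases hj : j.val < k
  · refine W.smul_mem _ ?_
    convert h j hj using 1
    funext i
    simp [Pi.single_apply, eq_comm]
  · rw [hv j (by omega), zero_smul]
    exact W.zero_mem

/-- A basis adapted to a chain. -/
theorem exists_adapted (P : ℕ → Submodule F (Fin n → F)) (hmono : ∀ a, a < n → P a ≤ P (a + 1)) (hP0 : P 0 = ⊥) :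
    ∀ a, a ≤ n → ∃ v : ℕ → (Fin n → F), ∀ b, b ≤ a →
      LinearIndependent F (fun i : Fin (Module.finrank F (P b)) => v i.val) ∧
      Submodule.span F (Set.range fun i : Fin (Module.finrank F (P b)) => v i.val) = P b := by
  intro a
  induction a with
  | zero =>
    intro _
    refine ⟨fun _ => 0, fun b hb => ?_⟩
    obtain rfl : b = 0 := by omega
    have h0 : Module.finrank F (P 0) = 0 := by rw [hP0, finrank_bot]
    haveI : IsEmpty (Fin (Module.finrank F (P 0))) := by rw [h0]; infer_instance
    refine ⟨linearIndependent_empty_type, ?_⟩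
    rw [Set.range_eq_empty, Submodule.span_empty, hP0]
  | succ a ih =>
    intro ha
    obtain ⟨v, hv⟩ := ih (by omega)
    obtain ⟨hli, hsp⟩ := hv a le_rfl
    obtain ⟨C, hC⟩ := ((P a).comap (P (a + 1)).subtype).exists_isCompl
    set k := Module.finrank F (P a)
    set C' := C.map (P (a + 1)).subtype
    have hsup : P a ⊔ C' = P (a + 1) := by
      have h := congrArg (Submodule.map (P (a + 1)).subtype) hC.sup_eq_top
      rwa [Submodule.map_sup, Submodule.map_comap_subtype, inf_eq_right.2 (hmono a ha), Submodule.map_subtype_top] at h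
    have hinf : P a ⊓ C' = ⊥ := by
      have h := congrArg (Submodule.map (P (a + 1)).subtype) hC.inf_eq_bot
      rwa [Submodule.map_inf _ (P (a + 1)).injective_subtype, Submodule.map_comap_subtype,
        inf_eq_right.2 (hmono a ha), Submodule.map_bot] at h
    let c := Module.finBasis F C'
    have hdim : Module.finrank F (P (a + 1)) = k + Module.finrank F C' := by
      have h := Submodule.finrank_sup_add_finrank_inf_eq (P a) C'
      rw [hsup, hinf, finrank_bot, add_zero] at h
      exact h
    let v' : ℕ → (Fin n → F) := fun i =>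
      if i < k then v i else if h : i - k < Module.finrank F C' then (c ⟨i - k, h⟩ : Fin n → F) else 0
    refine ⟨v', fun b hb => ?_⟩
    rcases Nat.lt_or_ge b (a + 1) with hb' | hb'
    · have hkb : Module.finrank F (P b) ≤ k := by
        have : ∀ d, b + d ≤ a → P b ≤ P (b + d) := by
          intro d
          induction d with
          | zero => intro _; exact le_rfl
          | succ d ihd => intro hd; exact (ihd (by omega)).trans (hmono _ (by omega))
        have h := Submodule.finrank_mono (this (a - b) (by omega))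
        rwa [show b + (a - b) = a by omega] at h
      have : (fun i : Fin (Module.finrank F (P b)) => v' i.val) = fun i => v i.val :=
        funext fun i => if_pos (by omega)
      rw [this]
      exact hv b (by omega)
    · obtain rfl : b = a + 1 := by omega
      have hspan : Submodule.span F (Set.range fun i : Fin (Module.finrank F (P (a + 1))) => v' i.val) = P (a + 1) := by
        refine le_antisymm (Submodule.span_le.2 ?_) ?_
        · rintro _ ⟨i, rfl⟩
          simp only [v']
          split_ifs with h1 h2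
          · exact hmono a ha (hsp ▸ Submodule.subset_span ⟨⟨i.val, h1⟩, rfl⟩)
          · exact hsup.le (Submodule.mem_sup_right (c _).2)
          · exact zero_mem _
        · have h1 : Submodule.span F (Set.range fun i : Fin k => v i.val) ≤
              Submodule.span F (Set.range fun i : Fin (Module.finrank F (P (a + 1))) => v' i.val) :=
            Submodule.span_mono fun _ ⟨i, hi⟩ => ⟨⟨i.val, by omega⟩, (if_pos i.isLt).trans hi⟩
          have h2 : C' ≤ Submodule.span F (Set.range fun i : Fin (Module.finrank F (P (a + 1))) => v' i.val) := by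
            intro x hx
            have h3 := congrArg Subtype.val (c.sum_repr ⟨x, hx⟩)
            rw [show x = _ from h3.symm, Submodule.coe_sum]
            refine Submodule.sum_mem _ fun i _ => Submodule.smul_mem _ _ (Submodule.subset_span
              ⟨⟨k + i.val, by omega⟩, ?_⟩)
            simp [v']
          rw [hsp] at h1
          exact hsup.ge.trans (sup_le h1 h2)
      refine ⟨?_, hspan⟩
      rw [linearIndependent_iff_card_le_finrank_span, Set.finrank, hspan, Fintype.card_fin]

/-- The parabolic subgroup is the stabiliser of the coordinate flag. -/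
theorem mem_parabolic_iff (μ : Fin n → ℕ) (g : GL (Fin n) F) :
    g ∈ parabolicGL n F μ ↔ ∀ a : Fin (n + 1),
      (stdSub n F (H54.psum μ a)).map (Matrix.toLin' (g : Matrix (Fin n) (Fin n) F)) ≤ stdSub n F (H54.psum μ a) := by
  rw [H54.mem_parabolicGL_iff]
  constructor
  · intro h a w hw
    obtain ⟨v, hv, rfl⟩ := Submodule.mem_map.1 hw
    intro i hi
    show ∑ j, (g : Matrix (Fin n) (Fin n) F) i j * v j = 0
    refine Finset.sum_eq_zero fun j _ => ?_
    by_cases hj : j.val < H54.psum μ a
    · rw [h i j ?_, zero_mul]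
      have h1 := (H54.le_compLabel_iff μ i a (by omega)).2 hi
      have h2 : ¬ (a : ℕ) ≤ compLabel μ j := fun h2 => by
        have := (H54.le_compLabel_iff μ j a (by omega)).1 h2
        omega
      omega
    · rw [hv j (by omega), mul_zero]
  · intro h i j hij
    have hln : compLabel μ i ≤ n := by
      unfold compLabel
      exact (Finset.card_filter_le _ _).trans (by simp)
    have hij' : ¬ compLabel μ j + 1 ≤ compLabel μ j := by omega
    rw [H54.le_compLabel_iff μ j (compLabel μ j + 1) (by omega)] at hij'
    have hi : H54.psum μ (compLabel μ j + 1) ≤ i.val := (H54.le_compLabel_iff μ i _ (by omega)).1 hij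
    have := h ⟨compLabel μ j + 1, by omega⟩ (Submodule.mem_map_of_mem (f := Matrix.toLin' (g : Matrix (Fin n) (Fin n) F))
      (show Pi.single j (1 : F) ∈ stdSub n F (H54.psum μ (compLabel μ j + 1)) from fun l hl =>
        Pi.single_eq_of_ne (by intro hlj; subst hlj; omega) 1)) i hi
    rw [Matrix.toLin'_apply, Matrix.mulVec_single_one] at this
    simpa using this

/-- Chains with prescribed dimensions, invariant under `g`. -/
abbrev Chain (μ : Fin n → ℕ) (g : GL (Fin n) F) : Type _ :=
  {P : Fin (n + 1) → Submodule F (Fin n → F) // (∀ a : Fin n, P a.castSucc ≤ P a.succ) ∧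
    (∀ a, Module.finrank F (P a) = H54.psum μ a) ∧
    ∀ a, (P a).map (Matrix.toLin' (g : Matrix (Fin n) (Fin n) F)) ≤ P a}

/-- The flag of a matrix. -/
def flagOf (μ : Fin n → ℕ) (h : GL (Fin n) F) : Fin (n + 1) → Submodule F (Fin n → F) :=
  fun a => (stdSub n F (H54.psum μ a)).map (Matrix.toLin' (h : Matrix (Fin n) (Fin n) F))

theorem toLin_injective (h : GL (Fin n) F) : Function.Injective (Matrix.toLin' (h : Matrix (Fin n) (Fin n) F)) := by
  intro v w hvw
  rw [Matrix.toLin'_apply, Matrix.toLin'_apply] at hvw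
  simpa [Matrix.mulVec_mulVec] using congrArg (fun u => ((h⁻¹ : GL (Fin n) F) : Matrix (Fin n) (Fin n) F).mulVec u) hvw

theorem flagOf_mul (μ : Fin n → ℕ) (g h : GL (Fin n) F) (a : Fin (n + 1)) :
    flagOf μ (g * h) a = (flagOf μ h a).map (Matrix.toLin' (g : Matrix (Fin n) (Fin n) F)) := by
  rw [flagOf, flagOf, ← Submodule.map_comp, ← Matrix.toLin'_mul, Units.val_mul]

theorem finrank_flagOf {μ : Fin n → ℕ} (hμ : ∑ k, μ k = n) (h : GL (Fin n) F) (a : Fin (n + 1)) :
    Module.finrank F (flagOf μ h a) = H54.psum μ a := by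
  rw [flagOf, ← LinearEquiv.finrank_eq (Submodule.equivMapOfInjective _ (toLin_injective h) _), finrank_stdSub]
  calc H54.psum μ a ≤ H54.psum μ n := H54.psum_mono μ (by omega)
    _ = n := by rw [H54.psum_last, hμ]

theorem flagOf_mul_parabolic {μ : Fin n → ℕ} (h : GL (Fin n) F) {p : GL (Fin n) F} (hp : p ∈ parabolicGL n F μ) :
    flagOf μ (h * p) = flagOf μ h := by
  funext a
  have hmem : ∀ x : GL (Fin n) F, x ∈ parabolicGL n F μ →
      flagOf μ x a ≤ flagOf μ 1 a := fun x hx => by
    rw [flagOf, flagOf, Units.val_one, Matrix.toLin'_one, Submodule.map_id]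
    exact (mem_parabolic_iff μ x).1 hx a
  rw [flagOf_mul, show flagOf μ h a = (flagOf μ 1 a).map (Matrix.toLin' (h : Matrix (Fin n) (Fin n) F)) by
    rw [← flagOf_mul, mul_one]]
  congr 1
  refine le_antisymm (hmem p hp) ?_
  have h1 := Submodule.map_mono (f := Matrix.toLin' (p : Matrix (Fin n) (Fin n) F)) (hmem p⁻¹ (inv_mem hp))
  rwa [← flagOf_mul, ← flagOf_mul, mul_inv_cancel, mul_one] at h1

theorem exists_flagOf_eq {μ : Fin n → ℕ} (hμ : ∑ k, μ k = n) {P : Fin (n + 1) → Submodule F (Fin n → F)}
    (hmono : ∀ a : Fin n, P a.castSucc ≤ P a.succ) (hdim : ∀ a, Module.finrank F (P a) = H54.psum μ a) :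
    ∃ h : GL (Fin n) F, flagOf μ h = P := by
  let P' : ℕ → Submodule F (Fin n → F) := fun b => if hb : b < n + 1 then P ⟨b, hb⟩ else ⊤
  have hP' : ∀ a : Fin (n + 1), P' a = P a := fun a => dif_pos a.isLt
  have hP0 : P' 0 = ⊥ := by
    rw [show P' 0 = P 0 from hP' 0, ← Submodule.finrank_eq_zero (R := F), hdim]
    exact H54.psum_zero μ
  obtain ⟨v, hv⟩ := exists_adapted P' (fun a ha => by
    rw [show P' a = P (⟨a, ha⟩ : Fin n).castSucc from hP' (⟨a, ha⟩ : Fin n).castSucc,
      show P' (a + 1) = P (⟨a, ha⟩ : Fin n).succ from hP' (⟨a, ha⟩ : Fin n).succ]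
    exact hmono _) hP0 n le_rfl
  let A : Matrix (Fin n) (Fin n) F := Matrix.of fun i j => v j.val i
  have hn' : Module.finrank F (P' n) = n := by
    rw [show P' n = P (Fin.last n) from hP' (Fin.last n), hdim, Fin.val_last, H54.psum_last, hμ]
  have hli : LinearIndependent F (fun j : Fin n => v j.val) :=
    (linearIndependent_equiv' (finCongr hn') (by funext i; rfl)).1 (hv n le_rfl).1
  have hA : IsUnit A := Matrix.linearIndependent_cols_iff_isUnit.1 hli
  refine ⟨hA.unit, funext fun a => ?_⟩
  have hk : H54.psum μ a ≤ n := by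
    calc H54.psum μ a ≤ H54.psum μ n := H54.psum_mono μ (by omega)
      _ = n := by rw [H54.psum_last, hμ]
  obtain ⟨-, hsp⟩ := hv a.val (by omega)
  rw [hP'] at hsp
  have hcol : ∀ j : Fin n, Matrix.toLin' A (Pi.single j 1) = v j.val := fun j => by
    rw [Matrix.toLin'_apply, Matrix.mulVec_single_one]; rfl
  refine Submodule.eq_of_le_of_finrank_eq ?_ (by rw [finrank_flagOf hμ, hdim])
  rw [flagOf, IsUnit.unit_spec, Submodule.map_le_iff_le_comap]
  refine stdSub_le _ fun j hj => ?_
  rw [Submodule.mem_comap, hcol, ← hsp]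
  exact Submodule.subset_span ⟨⟨j.val, by rw [hdim]; exact hj⟩, rfl⟩

/-- Fixed cosets of a parabolic subgroup. -/
theorem fixedPointCharacter_parabolic [Finite F] {μ : Fin n → ℕ} (hμ : ∑ k, μ k = n) (g : GL (Fin n) F) :
    fixedPointCharacter (parabolicGL n F μ) g = (Nat.card (Chain μ g) : ℂ) := by
  unfold fixedPointCharacter
  congr 1
  have hwd : ∀ h h' : GL (Fin n) F, h⁻¹ * h' ∈ parabolicGL n F μ → flagOf μ h = flagOf μ h' := fun h h' hh => by
    rw [← flagOf_mul_parabolic h hh, mul_inv_cancel_left]
  let Φ : GL (Fin n) F ⧸ parabolicGL n F μ → (Fin (n + 1) → Submodule F (Fin n → F)) :=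
    Quotient.lift (flagOf μ) fun h h' hh => hwd h h' (QuotientGroup.leftRel_apply.1 hh)
  have hΦ : ∀ h : GL (Fin n) F, Φ (QuotientGroup.mk h) = flagOf μ h := fun h => rfl
  have hsm : ∀ h : GL (Fin n) F, g • (QuotientGroup.mk h : GL (Fin n) F ⧸ parabolicGL n F μ) =
      QuotientGroup.mk (g * h) := fun h => rfl
  have hinj : Function.Injective Φ := by
    intro x y hxy
    induction x using QuotientGroup.induction_on with
    | _ h =>
      induction y using QuotientGroup.induction_on with
      | _ h' =>
        rw [hΦ, hΦ] at hxy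
        refine QuotientGroup.eq.2 ((mem_parabolic_iff μ _).2 fun a => le_of_eq ?_)
        calc (stdSub n F (H54.psum μ a)).map (Matrix.toLin' ((h⁻¹ * h' : GL (Fin n) F) : Matrix (Fin n) (Fin n) F))
            = flagOf μ (h⁻¹ * h') a := rfl
          _ = flagOf μ (h⁻¹ * h) a := by rw [flagOf_mul, flagOf_mul, hxy]
          _ = stdSub n F (H54.psum μ a) := by
            rw [inv_mul_cancel, flagOf, Units.val_one, Matrix.toLin'_one, Submodule.map_id]
  have hfix : ∀ x, x ∈ MulAction.fixedBy (GL (Fin n) F ⧸ parabolicGL n F μ) g ↔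
      ∀ a, (Φ x a).map (Matrix.toLin' (g : Matrix (Fin n) (Fin n) F)) ≤ Φ x a := by
    intro x
    induction x using QuotientGroup.induction_on with
    | _ h =>
      rw [MulAction.mem_fixedBy, hsm, hΦ]
      constructor
      · intro hx a
        rw [← flagOf_mul, ← hΦ, hx, hΦ]
      · intro hx
        refine hinj ?_
        rw [hΦ, hΦ]
        funext a
        refine Submodule.eq_of_le_of_finrank_eq (flagOf_mul μ g h a ▸ hx a) ?_
        rw [finrank_flagOf hμ, finrank_flagOf hμ]
  refine Nat.card_eq_of_bijective (fun x => ⟨Φ x.1, ?_, ?_, (hfix x.1).1 x.2⟩) ⟨?_, ?_⟩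
  · intro a
    induction x.1 using QuotientGroup.induction_on with
    | _ h =>
      rw [hΦ]
      refine Submodule.map_mono fun v hv i hi => hv i (le_trans (H54.psum_mono μ ?_) hi)
      simp
  · intro a
    induction x.1 using QuotientGroup.induction_on with
    | _ h => rw [hΦ, finrank_flagOf hμ]
  · intro x y h
    exact Subtype.ext (hinj (congrArg Subtype.val h))
  · rintro ⟨P, hmono, hdim, hinv⟩
    obtain ⟨h, rfl⟩ := exists_flagOf_eq hμ hmono hdim
    exact ⟨⟨QuotientGroup.mk h, (hfix _).2 hinv⟩, Subtype.ext rfl⟩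

end Cfsg.Agent.H57.SteinbergChains
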