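import Mathlib
import Cfsg.Agent.H57.LatticeMu
import Cfsg.Agent.H57.SteinbergChains
import Cfsg.Agent.H54.UnipotentInner

/-!
Values of the Steinberg character of `GL n` at semisimple elements.
-/

set_option autoImplicit false
set_option linter.unusedSectionVars false

namespace Cfsg.Agent.H57.SteinbergValues

open Polynomial UniqueFactorizationMonoid Finset Cfsg Cfsg.Agent.H57.LatticeMu

/-! ### Sums over chains in a lattice with a dimension -/

section Lattice

variable {L : Type*} [Lattice L] [BoundedOrder L] [Fintype L] [DecidableEq L] (dim : L → ℕ)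

open Classical in
/-- The weight of a step. -/
noncomputable def stepL (a : ℕ) (X Y : L) : ℤ :=
  if Y = X then -1 else if X < Y ∧ dim Y = a + 1 then 1 else 0

/-- The weighted number of chains. -/
noncomputable def sumQ (a : ℕ) (U : L) : ℤ :=
  ∑ Q : Fin (a + 1) → L, if Q 0 = ⊥ ∧ Q (Fin.last a) = U then
    ∏ b : Fin a, stepL dim b.val (Q b.castSucc) (Q b.succ) else 0

theorem sumQ_zero (U : L) : sumQ dim 0 U = if U = ⊥ then 1 else 0 := by
  rw [sumQ, ← (Equiv.funUnique (Fin 1) L).symm.sum_comp, Finset.sum_eq_single U]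
  · simp
  · intro W _ hW
    exact if_neg fun h => hW (by simpa using h.2)
  · simp

theorem sumQ_succ (a : ℕ) (U : L) : sumQ dim (a + 1) U = ∑ W, sumQ dim a W * stepL dim a W U := by
  simp only [sumQ, Finset.sum_mul, ite_mul, zero_mul]
  rw [← (Fin.snocEquiv fun _ : Fin (a + 2) => L).sum_comp, Fintype.sum_prod_type, Finset.sum_eq_single U]
  · rw [Finset.sum_comm]
    refine Finset.sum_congr rfl fun Q _ => ?_
    rw [Finset.sum_eq_single (Q (Fin.last a))]
    · simp only [Fin.snocEquiv_apply]
      rw [show (0 : Fin (a + 2)) = Fin.castSucc 0 from rfl, Fin.snoc_castSucc, Fin.snoc_last]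
      simp only [and_true]
      refine if_congr Iff.rfl ?_ rfl
      rw [Fin.prod_univ_castSucc]
      simp only [Fin.val_castSucc, Fin.val_last, Fin.succ_castSucc, Fin.succ_last, Fin.snoc_castSucc, Fin.snoc_last]
    · intro W _ hW
      exact if_neg fun h => hW h.2.symm
    · simp
  · intro W _ hW
    refine Finset.sum_eq_zero fun Q _ => if_neg fun h => hW ?_
    simpa using h.2
  · simp

variable (hmono : StrictMono dim) (hbot : dim ⊥ = 0)

/-- The Moebius function. -/
noncomputable def muL (U : L) : ℤ := (-1) ^ dim U * sumQ dim (dim U) U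

include hmono hbot in
theorem sumQ_eq (a : ℕ) : ∀ U, sumQ dim a U = if dim U ≤ a then (-1) ^ a * muL dim U else 0 := by
  induction a with
  | zero =>
    intro U
    by_cases hU : U = ⊥
    · subst hU
      simp [sumQ_zero, muL, hbot]
    · rw [sumQ_zero, if_neg hU, if_neg]
      have := hmono (bot_lt_iff_ne_bot.2 hU)
      omega
  | succ a ih =>
    intro U
    rcases lt_trichotomy (dim U) (a + 1) with h | h | h
    · rw [sumQ_succ, if_pos h.le, Finset.sum_eq_single U]
      · rw [stepL, if_pos rfl, ih, if_pos (by omega)]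
        ring
      · intro W _ hW
        rw [stepL, if_neg (Ne.symm hW), if_neg (fun hh => by omega), mul_zero]
      · simp
    · rw [if_pos h.le, muL, h, ← mul_assoc, ← pow_add, Even.neg_one_pow ⟨a + 1, rfl⟩, one_mul]
    · rw [sumQ_succ, if_neg (by omega)]
      refine Finset.sum_eq_zero fun W _ => ?_
      by_cases hW : U = W
      · rw [ih, if_neg (show ¬ dim W ≤ a by subst hW; omega), zero_mul]
      · rw [stepL, if_neg hW, if_neg (fun hh => by omega), mul_zero]

open Classical in
include hmono hbot in
theorem sum_muL (U : L) (hU : U ≠ ⊥) : ∑ W ∈ univ.filter (fun W => W ≤ U), muL dim W = 0 := by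
  obtain ⟨a, ha⟩ : ∃ a, dim U = a + 1 := ⟨dim U - 1, by have := hmono (bot_lt_iff_ne_bot.2 hU); omega⟩
  have h : muL dim U = (-1) ^ (a + 1) * ∑ W, sumQ dim a W * stepL dim a W U := by rw [muL, ha, sumQ_succ]
  have h2 : ∑ W, sumQ dim a W * stepL dim a W U = ∑ W ∈ univ.filter (fun W => W < U), (-1) ^ a * muL dim W := by
    rw [Finset.sum_filter]
    refine Finset.sum_congr rfl fun W _ => ?_
    rw [sumQ_eq dim hmono hbot]
    rcases eq_or_ne U W with rfl | hne
    · rw [if_neg (show ¬ dim U ≤ a by omega), if_neg (lt_irrefl U), zero_mul]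
    by_cases hlt : W < U
    · rw [if_pos (show dim W ≤ a by have := hmono hlt; omega), if_pos hlt, stepL, if_neg hne, if_pos ⟨hlt, ha⟩, mul_one]
    · rw [if_neg hlt, stepL, if_neg hne, if_neg (show ¬ (W < U ∧ dim U = a + 1) from fun hh => hlt hh.1), mul_zero]
  rw [h2, ← Finset.mul_sum, ← mul_assoc, ← pow_add, Odd.neg_one_pow ⟨a, by omega⟩, neg_one_mul] at h
  have h3 : univ.filter (fun W => W ≤ U) = insert U (univ.filter fun W => W < U) := by
    ext W
    simp [le_iff_eq_or_lt]
  rw [h3, Finset.sum_insert (by simp), h]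
  ring

include hmono hbot in
theorem muL_bot : muL dim (⊥ : L) = 1 := by
  simp [muL, hbot, sumQ_zero]

end Lattice

variable {F : Type*} [Field F] [Fintype F] {n : ℕ}

open Classical in
/-- The Steinberg character as a Moebius function. -/
theorem steinberg_eq_mu (g : GL (Fin n) F)
    [Fintype (Submodule F[X] (Module.AEval' (Matrix.toLin' (g : Matrix (Fin n) (Fin n) F))))] :
    unipotentCharacterGL n F (fun _ => 1) g =
      (-1 : ℂ) ^ n * (muL (fun U : Submodule F[X] (Module.AEval' (Matrix.toLin' (g : Matrix (Fin n) (Fin n) F))) =>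
        Module.finrank F U) ⊤ : ℤ) := by
  set φ := Matrix.toLin' (g : Matrix (Fin n) (Fin n) F)
  set dim := fun U : Submodule F[X] (Module.AEval' φ) => Module.finrank F U
  haveI : Module.Finite F (Module.AEval' φ) := Module.Finite.equiv (Module.AEval'.of φ)
  haveI : Finite (Module.AEval' φ) := Module.finite_of_finite F
  have hmono : StrictMono dim := fun X Y h =>
    Submodule.finrank_lt_finrank_of_lt (show X.restrictScalars F < Y.restrictScalars F from h)
  have hdimbot : dim ⊥ = 0 := Module.finrank_zero_of_subsingleton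
  have hn : Module.finrank F (Module.AEval' φ) = n := by
    rw [← (Module.AEval'.of φ).finrank_eq, Module.finrank_fintype_fun_eq_card, Fintype.card_fin]
  have hdimtop : dim ⊤ = n := by
    show Module.finrank F ((⊤ : Submodule F[X] (Module.AEval' φ)).restrictScalars F) = n
    rw [Submodule.restrictScalars_top, finrank_top, hn]
  -- chains in the two lattices
  have hchain : ∀ μ : Fin n → ℕ, Nat.card (SteinbergChains.Chain μ g) =
      Nat.card {Q : Fin (n + 1) → Submodule F[X] (Module.AEval' φ) //
        (∀ a : Fin n, Q a.castSucc ≤ Q a.succ) ∧ ∀ a, dim (Q a) = H54.psum μ a} := by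
    intro μ
    have hinv : ∀ W : Submodule F (Fin n → F), W.map φ ≤ W → W ∈ (Algebra.lsmul F F (Fin n → F) φ).invtSubmodule :=
      fun W hW v hv => hW (Submodule.mem_map_of_mem hv)
    have hdim : ∀ (W : Submodule F (Fin n → F)) (h : W ∈ (Algebra.lsmul F F (Fin n → F) φ).invtSubmodule),
        dim (Module.AEval.mapSubmodule F (Fin n → F) φ ⟨W, h⟩) = Module.finrank F W := fun W h =>
      (Module.AEval.equiv_mapSubmodule φ W h).finrank_eq.symm
    set e := Module.AEval.mapSubmodule F (Fin n → F) φ
    refine Nat.card_congr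
      { toFun := fun P => ⟨fun a => e ⟨P.1 a, hinv _ (P.2.2.2 a)⟩, fun a => ?_, fun a => ?_⟩
        invFun := fun Q => ⟨fun a => (e.symm (Q.1 a) : Submodule F (Fin n → F)), fun a => ?_, fun a => ?_, fun a => ?_⟩
        left_inv := fun P => Subtype.ext (funext fun a => by simp)
        right_inv := fun Q => Subtype.ext (funext fun a => by simp) }
    · exact e.monotone (P.2.1 a)
    · rw [hdim]; exact P.2.2.1 a
    · exact e.symm.monotone (Q.2.1 a)
    · rw [← hdim _ (e.symm (Q.1 a)).2]
      simpa using Q.2.2 a
    · rw [Submodule.map_le_iff_le_comap]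
      exact (e.symm (Q.1 a)).2
  -- the sum
  have hterm : ∀ κ : Equiv.Perm (Fin n),
      (if ∀ i : Fin n, (κ i).val ≤ 1 + i.val then ((Equiv.Perm.sign κ : ℤ) : ℂ) *
        fixedPointCharacter (parabolicGL n F fun i => 1 + i.val - (κ i).val) g else 0) =
      ((∑ Q : Fin (n + 1) → Submodule F[X] (Module.AEval' φ),
        if (∀ a : Fin n, Q a.castSucc ≤ Q a.succ) ∧ dim (Q 0) = 0 ∧
          SteinbergChains.Fits κ (fun b => if h : b < n + 1 then dim (Q ⟨b, h⟩) else 0)
        then (Equiv.Perm.sign κ : ℤ) else 0 : ℤ) : ℂ) := by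
    intro κ
    by_cases hκ : ∀ i : Fin n, (κ i).val ≤ 1 + i.val
    · rw [if_pos hκ]
      have hsum : ∑ i : Fin n, (1 + i.val - (κ i).val) = n :=
        H54.comp_sum (ν := fun _ : Fin n => 1) (by simp) κ hκ
      rw [SteinbergChains.fixedPointCharacter_parabolic hsum, hchain, ← Finset.sum_filter, Finset.sum_const,
        Nat.card_eq_fintype_card, Fintype.card_subtype, nsmul_eq_mul]
      push_cast
      rw [mul_comm]
      congr 3
      refine Finset.filter_congr fun Q _ => and_congr_right fun _ => ?_
      constructor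
      · intro hd
        refine ⟨by simpa [H54.psum_zero] using hd 0, fun a => ⟨by have := hκ a; omega, ?_⟩⟩
        beta_reduce
        rw [dif_pos (show a.val + 1 < n + 1 by omega), dif_pos (show a.val < n + 1 by omega),
          show (⟨a.val + 1, by omega⟩ : Fin (n + 1)) = a.succ from rfl,
          show (⟨a.val, by omega⟩ : Fin (n + 1)) = a.castSucc from rfl, hd, hd, Fin.val_succ, H54.psum_succ,
          Fin.val_castSucc, add_comm 1 a.val]
      · rintro ⟨hd0, hd⟩ a
        induction a using Fin.induction with
        | zero => simpa [H54.psum_zero] using hd0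
        | succ b ih =>
          have := (hd b).2
          beta_reduce at this
          rw [dif_pos (show b.val + 1 < n + 1 by omega), dif_pos (show b.val < n + 1 by omega),
            show (⟨b.val + 1, by omega⟩ : Fin (n + 1)) = b.succ from rfl,
            show (⟨b.val, by omega⟩ : Fin (n + 1)) = b.castSucc from rfl, ih] at this
          rw [this, Fin.val_succ, H54.psum_succ, Fin.val_castSucc, add_comm 1 b.val]
    · rw [if_neg hκ, Finset.sum_eq_zero, Int.cast_zero]
      intro Q _
      exact if_neg fun h => hκ fun i => by have := (h.2.2 i).1; omega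
  rw [unipotentCharacterGL]
  beta_reduce
  rw [Finset.sum_congr rfl fun κ _ => hterm κ, ← Int.cast_sum, Finset.sum_comm]
  have hQ : ∀ Q : Fin (n + 1) → Submodule F[X] (Module.AEval' φ),
      (∑ κ : Equiv.Perm (Fin n), if (∀ a : Fin n, Q a.castSucc ≤ Q a.succ) ∧ dim (Q 0) = 0 ∧
          SteinbergChains.Fits κ (fun b => if h : b < n + 1 then dim (Q ⟨b, h⟩) else 0)
        then (Equiv.Perm.sign κ : ℤ) else 0) =
      if Q 0 = ⊥ ∧ Q (Fin.last n) = ⊤ then ∏ b : Fin n, stepL dim b.val (Q b.castSucc) (Q b.succ) else 0 := by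
    intro Q
    have hbot_iff : dim (Q 0) = 0 ↔ Q 0 = ⊥ := by
      refine ⟨fun h => ?_, fun h => h ▸ hdimbot⟩
      by_contra hne
      have := hmono (bot_lt_iff_ne_bot.2 hne)
      omega
    by_cases hm : ∀ a : Fin n, Q a.castSucc ≤ Q a.succ
    · by_cases h0 : dim (Q 0) = 0
      · set s := fun b => if h : b < n + 1 then dim (Q ⟨b, h⟩) else 0 with hs
        have hsn : s n = dim (Q (Fin.last n)) := by
          rw [hs]; beta_reduce; rw [dif_pos (by omega)]; rfl
        by_cases hl : Q (Fin.last n) = ⊤
        · rw [Finset.sum_congr rfl fun κ _ => if_congr (show _ ↔ SteinbergChains.Fits κ s from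
              ⟨fun h => h.2.2, fun h => ⟨hm, h0, h⟩⟩) rfl rfl,
            SteinbergChains.sum_fits (by rw [hs]; simpa using h0) (by rw [hsn, hl, hdimtop]),
            if_pos ⟨hbot_iff.1 h0, hl⟩, ← Fin.prod_univ_eq_prod_range]
          refine Finset.prod_congr rfl fun b _ => ?_
          have e1 : s b.val = dim (Q b.castSucc) := by
            rw [hs]; beta_reduce; rw [dif_pos (show b.val < n + 1 by omega)]; rfl
          have e2 : s (b.val + 1) = dim (Q b.succ) := by
            rw [hs]; beta_reduce; rw [dif_pos (show b.val + 1 < n + 1 by omega)]; rfl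
          rw [e1, e2, SteinbergChains.step, stepL]
          rcases eq_or_lt_of_le (hm b) with he | hlt
          · rw [if_pos (by rw [he]), if_pos he.symm]
          · rw [if_neg (hmono hlt).ne', if_neg hlt.ne']
            exact if_congr ⟨fun h => ⟨hlt, h⟩, fun h => h.2⟩ rfl rfl
        · rw [if_neg (fun h => hl h.2), Finset.sum_eq_zero]
          intro κ _
          refine if_neg fun h => hl ?_
          have hps : ∀ b, b ≤ n → s b = H54.psum (fun i : Fin n => 1 + i.val - (κ i).val) b := by
            intro b
            induction b with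
            | zero => intro _; rw [H54.psum_zero, hs]; simpa using h0
            | succ b ihb =>
              intro hb
              obtain ⟨-, h2⟩ := h.2.2 ⟨b, hb⟩
              have h3 := H54.psum_succ (fun i : Fin n => 1 + i.val - (κ i).val) ⟨b, hb⟩
              simp only at h2 h3
              rw [h3, ← ihb (by omega), h2, add_comm 1 b]
          have hd : dim (Q (Fin.last n)) = n := by
            rw [← hsn, hps n le_rfl, H54.psum_last]
            exact H54.comp_sum (ν := fun _ : Fin n => 1) (by simp) κ fun i => by have := (h.2.2 i).1; omega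
          by_contra hne
          have := hmono (lt_top_iff_ne_top.2 hne)
          omega
      · rw [if_neg (fun h => h0 (hbot_iff.2 h.1)), Finset.sum_eq_zero]
        exact fun κ _ => if_neg fun h => h0 h.2.1
    · rw [Finset.sum_eq_zero (fun κ _ => if_neg fun h => hm h.1)]
      push Not at hm
      obtain ⟨b, hb⟩ := hm
      split_ifs with h
      · refine (Finset.prod_eq_zero (Finset.mem_univ b) ?_).symm
        rw [stepL, if_neg (fun he => hb he.ge), if_neg (fun hh => hb hh.1.le)]
      · rfl
  rw [Finset.sum_congr rfl fun Q _ => hQ Q]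
  have h := sumQ_eq dim hmono hdimbot n ⊤
  rw [sumQ, if_pos hdimtop.le] at h
  rw [h]
  push_cast
  congr!

variable [DecidableEq F]

/-- The value at a semisimple element. -/
theorem steinberg_value (p : ℕ) [Fact p.Prime] [CharP F p] (g : GL (Fin n) F) (hg : (orderOf g).Coprime p) :
    unipotentCharacterGL n F (fun _ => 1) g =
      (-1 : ℂ) ^ n * phi (Fintype.card F) (normalizedFactors (g : Matrix (Fin n) (Fin n) F).charpoly) := by
  classical
  set φ := Matrix.toLin' (g : Matrix (Fin n) (Fin n) F)
  haveI : Module.Finite F (Module.AEval' φ) := Module.Finite.equiv (Module.AEval'.of φ)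
  haveI : Finite (Module.AEval' φ) := Module.finite_of_finite F
  haveI : Finite (Submodule F[X] (Module.AEval' φ)) :=
    Finite.of_injective (fun U => (U : Set (Module.AEval' φ))) SetLike.coe_injective
  letI := Fintype.ofFinite (Submodule F[X] (Module.AEval' φ))
  haveI : IsSemisimpleModule F[X] (Module.AEval' φ) := by
    have hk : ((orderOf g : ℕ) : F) ≠ 0 := fun h0 => by
      have h1 := (CharP.cast_eq_zero_iff F p _).1 h0
      exact (Fact.out : p.Prime).one_lt.ne' (Nat.eq_one_of_dvd_coprimes hg h1 dvd_rfl)
    have hsq : Squarefree (X ^ orderOf g - C (1 : F) : F[X]) :=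
      (Polynomial.separable_X_pow_sub_C 1 hk one_ne_zero).squarefree
    refine Module.End.isSemisimple_of_squarefree_aeval_eq_zero (f := φ) hsq ?_
    rw [map_sub, aeval_X_pow, aeval_C, map_one, sub_eq_zero]
    have h1 := congrArg Units.val (pow_orderOf_eq_one g)
    rw [Units.val_pow_eq_pow_val, Units.val_one] at h1
    show Matrix.toLinAlgEquiv' (g : Matrix (Fin n) (Fin n) F) ^ orderOf g = 1
    rw [← map_pow, h1, map_one]
  set dim := fun U : Submodule F[X] (Module.AEval' φ) => Module.finrank F U
  have hmono : StrictMono dim := fun X Y h =>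
    Submodule.finrank_lt_finrank_of_lt (show X.restrictScalars F < Y.restrictScalars F from h)
  have hdimbot : dim ⊥ = 0 := Module.finrank_zero_of_subsingleton
  have hμ := mu_eq (f := fun U => ((muL dim U : ℤ) : ℂ)) (by simp [muL_bot dim hmono hdimbot]) (fun U hU => by
    rw [← Int.cast_sum, sum_muL dim hmono hdimbot U hU, Int.cast_zero]) ⊤
  rw [steinberg_eq_mu g, hμ, cf]
  congr 3
  rw [charpoly_of_equiv (Submodule.topEquiv (R := F[X]) (M := Module.AEval' φ)).symm,
    show op (F := F) (Module.AEval' φ) = (Module.AEval'.of φ).conj φ from ?_, LinearEquiv.charpoly_conj,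
    Matrix.charpoly_toLin']
  refine LinearMap.ext fun v => ?_
  obtain ⟨w, rfl⟩ := (Module.AEval'.of φ).surjective v
  rw [LinearEquiv.conj_apply, LinearMap.comp_apply, LinearMap.comp_apply, LinearEquiv.coe_coe, LinearEquiv.coe_coe,
    LinearEquiv.symm_apply_apply, op, Algebra.lsmul_coe]
  exact Module.AEval.X_smul_of φ w

end Cfsg.Agent.H57.SteinbergValues
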