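import Mathlib
import Cfsg.Prelude.Def_Classical
import Cfsg.Prelude.Def_LieClassical
import Cfsg.Agent.H57.QuadExt
import Cfsg.Agent.Unitary.Form
import Cfsg.Agent.Symplectic.Std

set_option autoImplicit false

namespace Cfsg.Agent.H57

variable {K F : Type*} [Field K] [Fintype K] [Field F] [Fintype F] {q : ℕ}

section

variable {ι : F →+* K} {θ : K} (hK : Fintype.card K = q ^ 2) (hF : Fintype.card F = q)
  (hθ : ∀ c, ι c ≠ θ)

include hK hF hθ in
theorem theta_conj_ne : θ ^ q ≠ θ := fun h => by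
  obtain ⟨c, hc⟩ := mem_range_of_pow_q ι hK hF h
  exact hθ c hc

/-- the pairing `x ↦ Tr(x y')` in coordinates -/
theorem trace_crd (x y : K) {w₁ w₂ : F} (h₁ : ι w₁ = y + y ^ q)
    (h₂ : ι w₂ = θ * y + (θ * y) ^ q) :
    ι ((crd hK hF hθ x).1 * w₁ + (crd hK hF hθ x).2 * w₂) = x * y + (x * y) ^ q := by
  conv_rhs => rw [← crd_spec hK hF hθ x]
  rw [map_add, map_mul, map_mul, h₁, h₂, mul_pow, mul_pow, Unitary.add_pow_q hK, mul_pow,
    incl_pow_q ι hF, incl_pow_q ι hF]
  ring

/-- second coordinate of `u * w^q` -/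
theorem crd_snd_mul_conj (u w : K) :
    (crd hK hF hθ (u * w ^ q)).2
      = (crd hK hF hθ u).2 * (crd hK hF hθ w).1 - (crd hK hF hθ u).1 * (crd hK hF hθ w).2 := by
  obtain ⟨s, hs⟩ := mem_range_of_pow_q ι hK hF (Unitary.trace_pow_q hK θ)
  obtain ⟨n, hn⟩ := mem_range_of_pow_q ι hK hF (Unitary.norm_pow_q hK θ)
  set a := crd hK hF hθ u with ha
  set b := crd hK hF hθ w with hb
  rw [crd_eq hK hF hθ (x := u * w ^ q) (a := a.1 * b.1 + n * (a.2 * b.2) + s * (a.1 * b.2))
    (b := a.2 * b.1 - a.1 * b.2) ?_]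
  have hu := crd_spec hK hF hθ u
  have hw := crd_spec hK hF hθ w
  rw [← ha] at hu
  rw [← hb] at hw
  rw [← hu, ← hw, Unitary.add_pow_q hK, mul_pow, incl_pow_q ι hF, incl_pow_q ι hF]
  simp only [map_add, map_mul, map_sub, hn, hs]
  ring

end

theorem exists_pairing (ι : F →+* K) (hK : Fintype.card K = q ^ 2) (hF : Fintype.card F = q) :
    ∃ ψ : K × K ≃+ (F × F) × (F × F),
      (∀ (c : F) (a b : K), ψ (ι c * a, ι c * b)
        = ((c * (ψ (a, b)).1.1, c * (ψ (a, b)).1.2), (c * (ψ (a, b)).2.1, c * (ψ (a, b)).2.2))) ∧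
      ∀ a b, ι ((ψ (a, b)).1.1 * (ψ (a, b)).2.1 + (ψ (a, b)).1.2 * (ψ (a, b)).2.2)
        = a * a ^ q + b * b ^ q := by
  classical
  obtain ⟨θ, hθ⟩ := exists_not_range ι hK hF
  obtain ⟨ν, hν⟩ := Unitary.exists_norm_eq_neg_one hK
  obtain ⟨ν', hν', hne⟩ : ∃ ν' : K, ν' * ν' ^ q = -1 ∧ ν' ≠ ν := by
    by_contra hc
    push Not at hc
    have h1 : Nat.card {x : K // x * x ^ q = -1} ≤ 1 := by
      rw [Finite.card_le_one_iff_subsingleton]
      exact ⟨fun x y => Subtype.ext ((hc _ x.2).trans (hc _ y.2).symm)⟩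
    rw [Unitary.card_norm_eq hK (neg_ne_zero.2 one_ne_zero)
      (by rw [Unitary.neg_pow_q hK, one_pow])] at h1
    have := Unitary.two_le_q hK
    omega
  have hd : ν' - ν ≠ 0 := sub_ne_zero.2 hne
  set μ : K := 1 + ν * ν' ^ q with hμ
  have hμ0 : μ ≠ 0 := fun h => hne <| by
    linear_combination ν' * h - ν * hν'
  -- the two auxiliary coordinates
  let yv : K → K → K := fun a b => (b - ν * a) / (ν' - ν)
  let xv : K → K → K := fun a b => a - yv a b
  have hex : ∀ y : K, ∃ w : F × F, ι w.1 = μ * y ^ q + (μ * y ^ q) ^ q ∧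
      ι w.2 = θ * (μ * y ^ q) + (θ * (μ * y ^ q)) ^ q := fun y => by
    obtain ⟨w₁, h₁⟩ := mem_range_of_pow_q ι hK hF (Unitary.trace_pow_q hK (μ * y ^ q))
    obtain ⟨w₂, h₂⟩ := mem_range_of_pow_q ι hK hF (Unitary.trace_pow_q hK (θ * (μ * y ^ q)))
    exact ⟨(w₁, w₂), h₁, h₂⟩
  choose wv hw₁ hw₂ using hex
  have yadd : ∀ a b a' b', yv (a + a') (b + b') = yv a b + yv a' b' := fun a b a' b' => by
    simp only [yv]; field_simp; ring
  have ysmul : ∀ (c : F) a b, yv (ι c * a) (ι c * b) = ι c * yv a b := fun c a b => by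
    simp only [yv]; field_simp
  have wadd : ∀ y y', wv (y + y') = wv y + wv y' := fun y y' => by
    refine Prod.ext (ι.injective ?_) (ι.injective ?_)
    · simp only [Prod.fst_add, map_add, hw₁, Unitary.add_pow_q hK, mul_add]; ring
    · simp only [Prod.snd_add, map_add, hw₂, Unitary.add_pow_q hK, mul_add]; ring
  have wsmul : ∀ (c : F) y, wv (ι c * y) = (c * (wv y).1, c * (wv y).2) := fun c y => by
    refine Prod.ext (ι.injective ?_) (ι.injective ?_)
    · simp only [map_mul, hw₁, mul_pow, incl_pow_q ι hF]; ring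
    · simp only [map_mul, hw₂, mul_pow, incl_pow_q ι hF]; ring
  let f : K × K →+ (F × F) × (F × F) :=
    AddMonoidHom.mk' (fun p => (crd hK hF hθ (xv p.1 p.2), wv (yv p.1 p.2))) (fun p p' => by
      refine Prod.ext ?_ ?_
      · show crd hK hF hθ (xv (p.1 + p'.1) (p.2 + p'.2))
          = crd hK hF hθ (xv p.1 p.2) + crd hK hF hθ (xv p'.1 p'.2)
        rw [← map_add]; congr 1
        simp only [xv, yadd]; ring
      · show wv (yv (p.1 + p'.1) (p.2 + p'.2)) = wv (yv p.1 p.2) + wv (yv p'.1 p'.2)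
        rw [yadd, wadd])
  have hinj : Function.Injective f := by
    refine (injective_iff_map_eq_zero f).2 ?_
    rintro ⟨a, b⟩ h
    have hx : xv a b = 0 := by
      have h1 : crd hK hF hθ (xv a b) = 0 := congrArg Prod.fst h
      exact (map_eq_zero_iff _ (crd hK hF hθ).injective).1 h1
    have hy : wv (yv a b) = 0 := congrArg Prod.snd h
    have e1 := hw₁ (yv a b)
    have e2 := hw₂ (yv a b)
    rw [hy] at e1 e2
    simp only [Prod.fst_zero, Prod.snd_zero, map_zero] at e1 e2
    rw [mul_pow θ] at e2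
    have : (θ - θ ^ q) * (μ * yv a b ^ q) = 0 := by linear_combination θ ^ q * e1 - e2
    rcases mul_eq_zero.1 this with h' | h'
    · exact absurd (sub_eq_zero.1 h').symm (theta_conj_ne hK hF hθ)
    rcases mul_eq_zero.1 h' with h'' | h''
    · exact absurd h'' hμ0
    have hy0 : yv a b = 0 := (Unitary.pow_q_eq_zero_iff hK).1 h''
    simp only [xv] at hx
    rw [hy0, sub_zero] at hx
    subst hx
    simp only [yv, mul_zero, sub_zero, div_eq_zero_iff] at hy0
    exact Prod.ext rfl (hy0.resolve_right hd)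
  have hbij : Function.Bijective f :=
    (Fintype.bijective_iff_injective_and_card f).2 ⟨hinj, by
      simp only [Fintype.card_prod, hK, hF]; ring⟩
  refine ⟨AddEquiv.ofBijective f hbij, fun c a b => ?_, fun a b => ?_⟩
  · show ((crd hK hF hθ (xv _ _), wv (yv _ _)) : (F × F) × (F × F)) = _
    simp only [xv, ysmul, wsmul, ← mul_sub, crd_smul]
    rfl
  · show ι ((crd hK hF hθ (xv a b)).1 * (wv (yv a b)).1
      + (crd hK hF hθ (xv a b)).2 * (wv (yv a b)).2) = _
    rw [trace_crd hK hF hθ (xv a b) (μ * yv a b ^ q) (hw₁ _) (hw₂ _)]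
    set y := yv a b with hy
    set x := xv a b with hx
    have ea : a = x + y := by simp [hx, hy, xv]
    have eb : b = ν * x + ν' * y := by simp only [hx, hy, xv, yv]; field_simp; ring
    rw [ea, eb, Unitary.add_pow_q hK, Unitary.add_pow_q hK, hμ]
    simp only [mul_pow, Unitary.add_pow_q hK, one_pow, Unitary.pow_q_q hK]
    linear_combination (-(x * x ^ q)) * hν - (y * y ^ q) * hν'

/-! ### coordinates on `K^m` -/

/-- `K^m ≅ F^(2m)` carrying `Σ N(v_i)` to the hyperbolic form, `m` even -/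
theorem exists_coords_plus (ι : F →+* K) (hK : Fintype.card K = q ^ 2) (hF : Fintype.card F = q)
    (k : ℕ) : ∃ L : (Fin (k + k) → K) ≃+ (Fin (k + k) ⊕ Fin (k + k) → F),
      (∀ (c : F) v, L (ι c • v) = c • L v) ∧
      ∀ v, ι (Cfsg.quadFormPlus (k + k) F (L v)) = Cfsg.hermForm (k + k) K q v v := by
  classical
  obtain ⟨ψ, hψs, hψ⟩ := exists_pairing ι hK hF
  let e : Fin k ⊕ Fin k ≃ Fin (k + k) := finSumFinEquiv
  let P : (Fin (k + k) → K) → Fin k → (F × F) × (F × F) :=
    fun v j => ψ (v (e (.inl j)), v (e (.inr j)))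
  let f : (Fin (k + k) → K) →+ (Fin (k + k) ⊕ Fin (k + k) → F) :=
    AddMonoidHom.mk' (fun v => Sum.elim
      (fun i => Sum.elim (fun j => (P v j).1.1) (fun j => (P v j).1.2) (e.symm i))
      (fun i => Sum.elim (fun j => (P v j).2.1) (fun j => (P v j).2.2) (e.symm i)))
      (fun v w => by
        have hP : ∀ j, P (v + w) j = P v j + P w j := fun j => by
          simp only [P, ← map_add]; rfl
        funext s
        rcases s with i | i <;> rcases hi : e.symm i with j | j <;> simp [hi, hP])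
  have hinj : Function.Injective f := by
    intro v w h
    funext i
    have hj : ∀ j, P v j = P w j := fun j => by
      refine Prod.ext (Prod.ext ?_ ?_) (Prod.ext ?_ ?_)
      · simpa [f] using congrFun h (.inl (e (.inl j)))
      · simpa [f] using congrFun h (.inl (e (.inr j)))
      · simpa [f] using congrFun h (.inr (e (.inl j)))
      · simpa [f] using congrFun h (.inr (e (.inr j)))
    obtain ⟨s, rfl⟩ := e.surjective i
    rcases s with j | j
    · exact congrArg Prod.fst (ψ.injective (hj j))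
    · exact congrArg Prod.snd (ψ.injective (hj j))
  have hbij : Function.Bijective f := (Fintype.bijective_iff_injective_and_card f).2 ⟨hinj, by
    simp only [Fintype.card_pi, Finset.prod_const, Finset.card_univ, hK, hF, Fintype.card_sum,
      Fintype.card_fin]
    rw [← pow_mul]; ring_nf⟩
  refine ⟨AddEquiv.ofBijective f hbij, fun c v => ?_, fun v => ?_⟩
  · show f (ι c • v) = c • f v
    have hP : ∀ j, P (ι c • v) j = ((c * (P v j).1.1, c * (P v j).1.2),
        (c * (P v j).2.1, c * (P v j).2.2)) := fun j => by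
      simp only [P, Pi.smul_apply, smul_eq_mul, hψs]
    funext s
    rcases s with i | i <;> rcases hi : e.symm i with j | j <;> simp [f, hi, hP]
  · show ι (Cfsg.quadFormPlus (k + k) F (f v)) = _
    simp only [Cfsg.quadFormPlus, Cfsg.hermForm, map_sum]
    rw [← e.sum_comp, ← e.sum_comp (fun i => v i * v i ^ q), Fintype.sum_sum_type,
      Fintype.sum_sum_type, ← Finset.sum_add_distrib, ← Finset.sum_add_distrib]
    refine Finset.sum_congr rfl fun j _ => ?_
    simp only [f, AddMonoidHom.mk'_apply, Sum.elim_inl, Sum.elim_inr, e.symm_apply_apply]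
    rw [← map_add]
    exact hψ _ _

/-- `K^m ≅ F^(2m)` carrying `Σ N(v_i)` to an elliptic form, `m` odd -/
theorem exists_coords_minus (ι : F →+* K) (hK : Fintype.card K = q ^ 2) (hF : Fintype.card F = q)
    (k : ℕ) (a b : F) (hr : ∀ t : F, t ^ 2 + a * t + b ≠ 0) :
    ∃ L : (Fin (k + k + 1) → K) ≃+ ((Fin (k + k) ⊕ Fin (k + k)) ⊕ Fin 2 → F),
      (∀ (c : F) v, L (ι c • v) = c • L v) ∧
      ∀ v, ι (Cfsg.quadFormMinus (k + k) F a b (L v)) = Cfsg.hermForm (k + k + 1) K q v v := by
  classical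
  obtain ⟨L, hL, hLq⟩ := exists_coords_plus ι hK hF k
  obtain ⟨θ, hroot, hθ⟩ := exists_root_quadratic ι hK hF a b hr
  have hω : ∀ c, ι c ≠ -θ := fun c hc => hθ (-c) (by rw [map_neg, hc, neg_neg])
  obtain ⟨hs, hn⟩ := conj_root hK hF hroot hθ
  let f : (Fin (k + k + 1) → K) →+ ((Fin (k + k) ⊕ Fin (k + k)) ⊕ Fin 2 → F) :=
    AddMonoidHom.mk' (fun v => Sum.elim (L (fun i : Fin (k + k) => v i.castSucc))
      ![(crd hK hF hω (v (Fin.last _))).1, (crd hK hF hω (v (Fin.last _))).2])
      (fun v w => by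
        funext s
        rcases s with s | j
        · simp only [Sum.elim_inl, Pi.add_apply]
          rw [← Pi.add_apply (L _) (L _) s, ← map_add]; rfl
        · fin_cases j <;> simp)
  have hinj : Function.Injective f := by
    intro v w h
    have h1 : (fun i : Fin (k + k) => v i.castSucc) = fun i : Fin (k + k) => w i.castSucc :=
      L.injective (funext fun s => congrFun h (.inl s))
    have h2 : crd hK hF hω (v (Fin.last _)) = crd hK hF hω (w (Fin.last _)) :=
      Prod.ext (congrFun h (.inr 0)) (congrFun h (.inr 1))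
    funext i
    induction i using Fin.lastCases with
    | last => exact (crd hK hF hω).injective h2
    | cast i => exact congrFun h1 i
  have hbij : Function.Bijective f := (Fintype.bijective_iff_injective_and_card f).2 ⟨hinj, by
    simp only [Fintype.card_pi, Finset.prod_const, Finset.card_univ, hK, hF, Fintype.card_sum,
      Fintype.card_fin]
    rw [← pow_mul]; ring_nf⟩
  refine ⟨AddEquiv.ofBijective f hbij, fun c v => ?_, fun v => ?_⟩
  · show f (ι c • v) = c • f v
    funext s
    rcases s with s | j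
    · show L (ι c • fun i : Fin (k + k) => v i.castSucc) s = c * L (fun i : Fin (k + k) => v i.castSucc) s
      rw [hL]; rfl
    · fin_cases j <;> simp [f, crd_smul]
  · show ι (Cfsg.quadFormMinus (k + k) F a b (f v)) = _
    have h0 : Cfsg.quadFormMinus (k + k) F a b (f v)
        = Cfsg.quadFormPlus (k + k) F (L fun i : Fin (k + k) => v i.castSucc)
          + ((crd hK hF hω (v (Fin.last _))).1 ^ 2
            + a * (crd hK hF hω (v (Fin.last _))).1 * (crd hK hF hω (v (Fin.last _))).2
            + b * (crd hK hF hω (v (Fin.last _))).2 ^ 2) := rfl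
    rw [h0, map_add, hLq, Cfsg.hermForm, Cfsg.hermForm, Fin.sum_univ_castSucc]
    congr 1
    set z := crd hK hF hω (v (Fin.last (k + k))) with hz
    have hv := crd_spec hK hF hω (v (Fin.last (k + k)))
    rw [← hz] at hv
    rw [← hv, Unitary.add_pow_q hK, mul_pow, incl_pow_q ι hF, incl_pow_q ι hF,
      Unitary.neg_pow_q hK]
    simp only [map_add, map_mul, map_pow]
    linear_combination (ι z.1 * ι z.2) * hs - (ι z.2 ^ 2) * hn

end Cfsg.Agent.H57
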