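import Mathlib
import Cfsg.Agent.H57.UnitaryUnipotent
import Cfsg.Agent.Unitary.Order

/-!
# Regular unipotent classes of `SU_n(q)`
-/

set_option autoImplicit false
set_option linter.unusedSectionVars false

namespace Cfsg.Agent.H57.UnitaryRegular

open Matrix Cfsg Cfsg.Agent.Unitary Cfsg.Agent.Arith.UnipotentClasses Cfsg.Agent.H99
  Cfsg.Agent.H57.UnitaryUnipotent

variable {F : Type*} [Field F] [Fintype F] {n q : ℕ}

/-- regular unipotent -/
def Regular (g : GL (Fin n) F) : Prop :=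
  ((g : Matrix (Fin n) (Fin n) F) - 1) ^ n = 0 ∧ ((g : Matrix (Fin n) (Fin n) F) - 1).rank = n - 1

omit [Fintype F] in
theorem imDim_bounds (g : GL (Fin n) F) (hg : ((g : Matrix (Fin n) (Fin n) F) - 1) ^ n = 0) :
    imDim (nilEnd g) ⊤ 0 = n ∧ imDim (nilEnd g) ⊤ n = 0 := by
  rw [imDim_nilEnd, imDim_nilEnd, hg, pow_zero, Matrix.rank_one, Fintype.card_fin, Matrix.rank_zero]
  exact ⟨rfl, rfl⟩

omit [Fintype F] in
/-- The ranks of the powers of a regular nilpotent matrix. -/
theorem Regular.rank_pow {g : GL (Fin n) F} (hg : Regular g) (j : ℕ) :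
    (((g : Matrix (Fin n) (Fin n) F) - 1) ^ j).rank = n - j := by
  rcases Nat.eq_zero_or_pos n with h0 | hn
  · subst h0
    rw [Nat.zero_sub]
    exact Nat.le_zero.1 (Matrix.rank_le_width (A := ((g : Matrix (Fin 0) (Fin 0) F) - 1) ^ j))
  obtain ⟨h0, hn0⟩ := imDim_bounds g hg.1
  have h1 : imDim (nilEnd g) ⊤ 1 = n - 1 := by rw [imDim_nilEnd, pow_one, hg.2]
  have hle : ∀ j, blockDelta (nilEnd g) ⊤ j ≤ 1 := by
    intro j
    induction j with
    | zero => have := imDim_succ (nilEnd g) ⊤ 0; rw [zero_add] at this; omega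
    | succ j ih => exact (blockDelta_anti _ _ le_top j).trans ih
  have hlow : ∀ j, n ≤ imDim (nilEnd g) ⊤ j + j := by
    intro j
    induction j with
    | zero => omega
    | succ j ih => have := imDim_succ (nilEnd g) ⊤ j; have := hle j; omega
  rw [← imDim_nilEnd]
  rcases le_or_gt n j with hj | hj
  · rw [Nat.sub_eq_zero_of_le hj, imDim_nilEnd,
      pow_eq_zero_of_le hj hg.1, Matrix.rank_zero]
  · have hup : ∀ i, j ≤ i → i ≤ n → imDim (nilEnd g) ⊤ j ≤ imDim (nilEnd g) ⊤ i + (i - j) := by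
      intro i hji
      induction i, hji using Nat.le_induction with
      | base => intro _; simp
      | succ i hji ih =>
        intro hin
        have := imDim_succ (nilEnd g) ⊤ i
        have := hle i
        have := ih (by omega)
        omega
    have := hup n hj.le le_rfl
    have := hlow j
    omega

/-- Regular unipotent elements exist. -/
theorem exists_regular (hn : 1 ≤ n) : ∃ g : GL (Fin n) F, Regular g := by
  classical
  obtain ⟨g, hg, hp⟩ := exists_parts (F := F) n (Nat.Partition.indiscrete n) (fun a ha => by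
    rw [Nat.Partition.indiscrete_parts (by omega)] at ha
    rw [Multiset.mem_singleton.1 ha])
  refine ⟨g, hg, ?_⟩
  obtain ⟨h0, hn0⟩ := imDim_bounds g hg
  have hc : (parts n g).count n = 1 := by
    rw [hp, Nat.Partition.indiscrete_parts (by omega), Multiset.count_singleton_self]
  have hc' := count_blockParts_succ (nilEnd g) ⊤ (p := n) (j := n - 1) (by omega)
  rw [Nat.sub_add_cancel hn] at hc'
  rw [parts, hc'] at hc
  have hge : ∀ j, j < n → 1 ≤ blockDelta (nilEnd g) ⊤ j := by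
    intro j hj
    have h : ∀ k, j + k = n - 1 → 1 ≤ blockDelta (nilEnd g) ⊤ j := by
      intro k hk
      have hanti : Antitone (blockDelta (nilEnd g) ⊤) :=
        antitone_nat_of_succ_le (blockDelta_anti _ _ le_top)
      have := hanti (show j ≤ n - 1 by omega)
      omega
    exact h (n - 1 - j) (by omega)
  have hup : ∀ j, j ≤ n → imDim (nilEnd g) ⊤ j + j ≤ n := by
    intro j
    induction j with
    | zero => intro _; omega
    | succ j ih => intro hj; have := imDim_succ (nilEnd g) ⊤ j; have := hge j (by omega); have := ih (by omega); omega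
  have hdown : ∀ k, k ≤ n → k ≤ imDim (nilEnd g) ⊤ (n - k) := by
    intro k
    induction k with
    | zero => intro _; omega
    | succ k ih =>
      intro hk
      have h1 := imDim_succ (nilEnd g) ⊤ (n - (k + 1))
      rw [show n - (k + 1) + 1 = n - k by omega] at h1
      have := hge (n - (k + 1)) (by omega)
      have := ih (by omega)
      omega
  have h1 := hup 1 hn
  have h2 := hdown (n - 1) (by omega)
  rw [show n - (n - 1) = 1 by omega] at h2
  rw [← pow_one ((g : Matrix (Fin n) (Fin n) F) - 1), ← imDim_nilEnd]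
  omega

theorem Regular.isConj {g g' : GL (Fin n) F} (hg : Regular g) (hg' : Regular g') : IsConj g g' :=
  isConj_of_parts_eq n g g' hg.1 hg'.1 (parts_eq_of_rank n fun j => by rw [hg.rank_pow, hg'.rank_pow])

theorem Regular.conj {g : GL (Fin n) F} (hg : Regular g) {g' : GL (Fin n) F} (h : IsConj g g') :
    Regular g' := by
  obtain ⟨c, rfl⟩ := isConj_iff.1 h
  refine ⟨pow_sub_one_conj g c n hg.1, ?_⟩
  have e : ((c * g * c⁻¹ : GL (Fin n) F) : Matrix (Fin n) (Fin n) F) - 1 =
      (c : Matrix (Fin n) (Fin n) F) * ((g : Matrix (Fin n) (Fin n) F) - 1) *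
        ((c⁻¹ : GL (Fin n) F) : Matrix (Fin n) (Fin n) F) := by
    simp [mul_sub, sub_mul, mul_assoc]
  rw [e, Matrix.rank_mul_eq_left_of_isUnit_det _ _ ((Matrix.isUnit_iff_isUnit_det _).1 (Units.isUnit _)),
    Matrix.rank_mul_eq_right_of_isUnit_det _ _ ((Matrix.isUnit_iff_isUnit_det _).1 c.isUnit), hg.2]

/-- The determinant of an element commuting with a regular unipotent one is an `n`-th power of a
norm one scalar. -/
theorem det_of_commute (hF : Fintype.card F = q ^ 2) (hn : 2 ≤ n) {u k : GU n F q}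
    (hu : Regular (u : GL (Fin n) F)) (hk : Commute k u) :
    ∃ c : Fˣ, c ^ (q + 1) = 1 ∧ c ^ n = detGU n F q k := by
  classical
  set U : Matrix (Fin n) (Fin n) F := gmat u with hU
  set K : Matrix (Fin n) (Fin n) F := gmat k with hKdef
  set N := U - 1 with hN
  have hKN : K * N = N * K := by
    have h1 := congrArg (fun g : GU n F q => gmat g) hk.eq
    simp only [gmat, Subgroup.coe_mul, Units.val_mul] at h1
    rw [hN, mul_sub, sub_mul, mul_one, one_mul]
    exact congrArg (· - K) h1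
  have hKNj : ∀ j, K * N ^ j = N ^ j * K := fun j => (Commute.pow_right hKN j).eq
  have hker : ∀ j, Module.finrank F (LinearMap.ker (N ^ j).mulVecLin) = n - (n - j) := by
    intro j
    have h := LinearMap.finrank_range_add_finrank_ker (N ^ j).mulVecLin
    rw [Module.finrank_fintype_fun_eq_card, Fintype.card_fin] at h
    have h2 : Module.finrank F (LinearMap.range (N ^ j).mulVecLin) = n - j := hu.rank_pow j
    omega
  obtain ⟨w, hwker, hw0⟩ := (LinearMap.ker (N ^ 1).mulVecLin).exists_mem_ne_zero_of_ne_bot (fun hb => by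
    have := hker 1
    rw [hb, finrank_bot] at this
    omega)
  have hspan : ∀ x, N *ᵥ x = 0 → ∃ a : F, a • w = x := by
    intro x hx
    have h1 : Module.finrank F (LinearMap.ker (N ^ 1).mulVecLin) = 1 := by rw [hker]; omega
    obtain ⟨a, ha⟩ := (finrank_eq_one_iff_of_nonzero' (⟨w, hwker⟩ : LinearMap.ker (N ^ 1).mulVecLin)
      (by simpa using hw0)).1 h1 ⟨x, by simp [hx]⟩
    exact ⟨a, congrArg Subtype.val ha⟩
  have hNw : N *ᵥ w = 0 := by simpa using hwker
  obtain ⟨c, hc⟩ := hspan (K *ᵥ w) (by rw [mulVec_mulVec, ← hKN, ← mulVec_mulVec, hNw, mulVec_zero])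
  have hdown : ∀ j x, (N ^ (j + 1)) *ᵥ x = 0 → (N ^ j) *ᵥ (K *ᵥ x - c • x) = 0 := by
    intro j x hx
    obtain ⟨a, ha⟩ := hspan ((N ^ j) *ᵥ x) (by rw [mulVec_mulVec, ← pow_succ', hx])
    rw [mulVec_sub, mulVec_smul, mulVec_mulVec, ← hKNj, ← mulVec_mulVec, ← ha, mulVec_smul, ← hc,
      smul_comm, sub_self]
  set M := scalar (Fin n) c - K with hM
  have hMx : ∀ x, M *ᵥ x = -(K *ᵥ x - c • x) := fun x => by
    rw [hM, sub_mulVec, scalar_apply, ← smul_one_eq_diagonal, smul_mulVec, one_mulVec, neg_sub]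
  have hnil : ∀ j x, (N ^ j) *ᵥ x = 0 → (M ^ j) *ᵥ x = 0 := by
    intro j
    induction j with
    | zero => intro x hx; simpa using hx
    | succ j ih =>
      intro x hx
      rw [pow_succ, ← mulVec_mulVec, hMx]
      exact ih _ (by rw [mulVec_neg, hdown j x hx, neg_zero])
  have hMn : M ^ n = 0 := Matrix.ext_iff_mulVec.2 fun x => by
    rw [hnil n x (by rw [hu.1]; exact zero_mulVec x), zero_mulVec]
  have hdet : K.det = c ^ n := by
    have hch : M.charpoly = Polynomial.X ^ n := by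
      have h := Matrix.isNilpotent_charpoly_sub_pow_of_isNilpotent (M := M) ⟨n, hMn⟩
      rw [Fintype.card_fin] at h
      exact sub_eq_zero.1 h.eq_zero
    have h := Matrix.eval_charpoly M c
    rw [hch, Polynomial.eval_pow, Polynomial.eval_X, hM, sub_sub_cancel] at h
    exact h.symm
  -- `w` is orthogonal to the range of `N`, hence pairs non-trivially with some `v`
  have horth : ∀ y, hermForm n F q w (N *ᵥ y) = 0 := by
    intro y
    have h1 := herm_gap u w y
    rw [gap, gap, ← hU, show U *ᵥ w = w by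
      rw [show U = N + 1 by rw [hN, sub_add_cancel], add_mulVec, hNw, zero_add, one_mulVec]] at h1
    rw [hN, sub_mulVec, one_mulVec, herm_sub_right hF, h1, sub_self]
  obtain ⟨v, hv⟩ : ∃ v, hermForm n F q w v ≠ 0 := by
    by_contra h
    push Not at h
    exact hw0 (eq_zero_of_forall_right hF h)
  have hrange : LinearMap.range N.mulVecLin = LinearMap.ker (N ^ (n - 1)).mulVecLin := by
    refine Submodule.eq_of_le_of_finrank_eq ?_ ?_
    · rintro _ ⟨y, rfl⟩
      show (N ^ (n - 1)) *ᵥ (N *ᵥ y) = 0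
      rw [mulVec_mulVec, ← pow_succ, Nat.sub_add_cancel (by omega), hu.1]
      exact zero_mulVec y
    · rw [hker, show Module.finrank F (LinearMap.range N.mulVecLin) = n - 1 from hu.2]
      omega
  obtain ⟨y, hy⟩ : ∃ y, N *ᵥ y = K *ᵥ v - c • v := by
    have : K *ᵥ v - c • v ∈ LinearMap.range N.mulVecLin := by
      rw [hrange]
      exact hdown (n - 1) v (by rw [Nat.sub_add_cancel (by omega), hu.1]; exact zero_mulVec v)
    exact this
  have hcc : c * c ^ q = 1 := by
    have h1 := herm_gap k w v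
    rw [gap, gap, ← hKdef, show K *ᵥ v = c • v + N *ᵥ y by rw [hy]; abel, ← hc, herm_smul_left,
      herm_add_right hF, horth, add_zero, herm_smul_right, ← mul_assoc] at h1
    exact mul_right_cancel₀ hv (h1.trans (one_mul _).symm)
  refine ⟨Units.mk0 c (left_ne_zero_of_mul_eq_one hcc), Units.ext ?_, Units.ext ?_⟩
  · simpa [pow_succ'] using hcc
  · rw [detGU_val]
    simpa [hKdef, gmat] using hdet.symm

/-- The scalars in `GU`. -/
theorem exists_scalar (hF : Fintype.card F = q ^ 2) {c : Fˣ} (hc : c ^ (q + 1) = 1) :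
    ∃ z : GU n F q, detGU n F q z = c ^ n ∧ ∀ g, Commute z g := by
  have hc' : (c : F) * (c : F) ^ q = 1 := by
    rw [← pow_succ', ← Units.val_pow_eq_pow_val, hc, Units.val_one]
  refine ⟨toGU hF (preserves_diagonal (d := fun _ => (c : F)) fun _ => hc'), Units.ext ?_, fun g => ?_⟩
  · rw [detGU_val, coe_toGU, det_diagonal]
    simp
  · refine Subtype.ext (Units.ext ?_)
    show (((toGU hF _ : GU n F q) : GL (Fin n) F) : Matrix (Fin n) (Fin n) F) * gmat g
      = gmat g * (((toGU hF _ : GU n F q) : GL (Fin n) F) : Matrix (Fin n) (Fin n) F)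
    rw [coe_toGU, ← smul_one_eq_diagonal, Matrix.smul_mul, one_mul, Matrix.mul_smul, mul_one]

/-- Regular unipotent classes of the kernel of the determinant. -/
theorem card_classes_ker (hF : Fintype.card F = q ^ 2) (hn : 2 ≤ n) :
    Nat.card {C : ConjClasses ↥((detGU n F q).ker) //
      ∃ u : (detGU n F q).ker, ConjClasses.mk u = C ∧ Regular ((u : GU n F q) : GL (Fin n) F)} =
    Nat.gcd n (q + 1) := by
  classical
  obtain ⟨g₁, hg₁⟩ := exists_regular (F := F) (n := n) (by omega)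
  obtain ⟨u₀, hu₀c⟩ := exists_similar hF n g₁ hg₁.1
  have hu₀ : Regular (u₀ : GL (Fin n) F) := hg₁.conj hu₀c
  have hdet1 : detGU n F q u₀ = 1 := Units.ext (by
    rw [detGU_val, Units.val_one]
    set M := 1 - ((u₀ : GL (Fin n) F) : Matrix (Fin n) (Fin n) F) with hM
    have hMn : IsNilpotent M := ⟨n, by
      rw [hM, ← neg_sub, ← neg_one_smul F, smul_pow, hu₀.1, smul_zero]⟩
    have hch := Matrix.isNilpotent_charpoly_sub_pow_of_isNilpotent hMn
    rw [Fintype.card_fin] at hch
    have h := Matrix.eval_charpoly M 1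
    rw [sub_eq_zero.1 hch.eq_zero, Polynomial.eval_pow, Polynomial.eval_X, one_pow, map_one, hM,
      sub_sub_cancel] at h
    exact h.symm)
  let μ : Subgroup Fˣ := (powMonoidHom (q + 1) : Fˣ →* Fˣ).ker
  let P : Subgroup Fˣ := (powMonoidHom n : μ →* μ).range.map μ.subtype
  have hP : ∀ x, x ∈ P ↔ ∃ c : Fˣ, c ^ (q + 1) = 1 ∧ c ^ n = x := fun x => by
    constructor
    · rintro ⟨_, ⟨c, rfl⟩, rfl⟩
      exact ⟨c, c.2, rfl⟩
    · rintro ⟨c, hc, rfl⟩
      exact ⟨⟨c ^ n, pow_mem (show c ∈ μ from hc) n⟩, ⟨⟨c, hc⟩, rfl⟩, rfl⟩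
  let H := P.comap (detGU n F q)
  have hHmem : ∀ g, g ∈ H ↔ ∃ k, Commute k u₀ ∧ detGU n F q k = detGU n F q g := by
    intro g
    refine (hP _).trans ⟨?_, ?_⟩
    · rintro ⟨c, hc, e⟩
      obtain ⟨z, hz, hzc⟩ := exists_scalar (n := n) hF hc
      exact ⟨z, hzc _, hz.trans e⟩
    · rintro ⟨k, hk, e⟩
      obtain ⟨c, hc, hck⟩ := det_of_commute hF hn hu₀ hk
      exact ⟨c, hc, hck.trans e⟩
  let cl : GU n F q → ConjClasses ↥((detGU n F q).ker) := fun g =>
    ConjClasses.mk ⟨g * u₀ * g⁻¹, by rw [MonoidHom.mem_ker, map_mul, map_mul, hdet1, mul_one, map_inv, mul_inv_cancel]⟩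
  have hcl : ∀ g g', cl g = cl g' ↔ g⁻¹ * g' ∈ H := by
    intro g g'
    rw [hHmem]
    constructor
    · intro h
      obtain ⟨⟨s, hs⟩, hsc⟩ := isConj_iff.1 (ConjClasses.mk_eq_mk_iff_isConj.1 h)
      have e : s * (g * u₀ * g⁻¹) * s⁻¹ = g' * u₀ * g'⁻¹ := congrArg Subtype.val hsc
      refine ⟨(g'⁻¹ * s * g)⁻¹, ?_, ?_⟩
      · refine Commute.inv_left ?_
        show g'⁻¹ * s * g * u₀ = u₀ * (g'⁻¹ * s * g)
        rw [show g'⁻¹ * s * g * u₀ = g'⁻¹ * (s * (g * u₀ * g⁻¹) * s⁻¹) * (s * g) by group, e]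
        group
      · rw [map_inv, map_mul, map_mul, map_mul, show detGU n F q s = 1 from hs, mul_one, map_inv, map_inv]
        rw [_root_.mul_inv_rev, inv_inv]
    · rintro ⟨k, hk, e⟩
      refine ConjClasses.mk_eq_mk_iff_isConj.2 (isConj_iff.2 ⟨⟨g' * k⁻¹ * g⁻¹, ?_⟩, Subtype.ext ?_⟩)
      · rw [MonoidHom.mem_ker, map_mul, map_mul, map_inv, map_inv, e, map_mul, map_inv]
        simp [mul_comm, mul_left_comm]
      · show g' * k⁻¹ * g⁻¹ * (g * u₀ * g⁻¹) * (g' * k⁻¹ * g⁻¹)⁻¹ = g' * u₀ * g'⁻¹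
        rw [show g' * k⁻¹ * g⁻¹ * (g * u₀ * g⁻¹) * (g' * k⁻¹ * g⁻¹)⁻¹ = g' * (k⁻¹ * u₀ * k) * g'⁻¹ by group,
          hk.inv_left.eq, inv_mul_cancel_right]
  let E : GU n F q ⧸ H → {C : ConjClasses ↥((detGU n F q).ker) //
      ∃ u : (detGU n F q).ker, ConjClasses.mk u = C ∧ Regular ((u : GU n F q) : GL (Fin n) F)} :=
    Quotient.lift (fun g => ⟨cl g, _, rfl, hu₀.conj (isConj_iff.2 ⟨(g : GL (Fin n) F), by simp⟩)⟩)
      fun a b hab => Subtype.ext ((hcl a b).2 (QuotientGroup.leftRel_apply.1 hab))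
  have hE : Function.Bijective E := by
    refine ⟨?_, ?_⟩
    · rintro ⟨a⟩ ⟨b⟩ h
      exact Quotient.sound (QuotientGroup.leftRel_apply.2 ((hcl a b).1 (congrArg Subtype.val h)))
    · rintro ⟨C, u, rfl, hu⟩
      obtain ⟨g, hg⟩ := isConj_iff.1 ((isConj_GU_iff hF u₀ u.1).2 (hu₀.isConj hu))
      refine ⟨QuotientGroup.mk g, Subtype.ext ?_⟩
      exact congrArg ConjClasses.mk (Subtype.ext hg)
  rw [← Nat.card_eq_of_bijective E hE, ← Subgroup.index_eq_card, Subgroup.index_comap, detGU_range hF (by omega)]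
  have hcardP : Nat.card P = (q + 1) / Nat.gcd (q + 1) n := by
    rw [Subgroup.card_map_of_injective μ.subtype_injective, IsCyclic.card_powMonoidHom_range,
      show Nat.card μ = q + 1 from card_ker_pow hF]
  have h := Subgroup.relIndex_mul_relIndex ⊥ P μ bot_le (by
    rintro x hx; obtain ⟨c, hc, rfl⟩ := (hP x).1 hx; exact pow_mem (show c ∈ μ from hc) n)
  rw [Subgroup.relIndex_bot_left, Subgroup.relIndex_bot_left, hcardP, show Nat.card μ = q + 1 from card_ker_pow hF] at h
  have hd : Nat.gcd (q + 1) n ∣ q + 1 := Nat.gcd_dvd_left _ _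
  have hpos : 0 < (q + 1) / Nat.gcd (q + 1) n := Nat.div_pos (Nat.le_of_dvd (by omega) hd) (Nat.gcd_pos_of_pos_left _ (by omega))
  rw [Nat.gcd_comm]
  exact Nat.eq_of_mul_eq_mul_left hpos (h.trans (Nat.div_mul_cancel hd).symm)

/-- Regular unipotent classes of `SU`. -/
theorem card_classes_SU (hF : Fintype.card F = q ^ 2) (hn : 2 ≤ n) :
    Nat.card {C : ConjClasses ↥(SU n F q) // ∃ u : ↥(SU n F q), ConjClasses.mk u = C ∧
      Regular ((u : Matrix.SpecialLinearGroup (Fin n) F) : GL (Fin n) F)} = Nat.gcd n (q + 1) := by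
  rw [← card_classes_ker (F := F) hF hn]
  let φ := suEquivKer n F q
  let e : ConjClasses ↥(SU n F q) ≃ ConjClasses ↥((detGU n F q).ker) :=
    { toFun := ConjClasses.map φ.toMonoidHom
      invFun := ConjClasses.map φ.symm.toMonoidHom
      left_inv := fun C => by
        obtain ⟨u, rfl⟩ := ConjClasses.mk_surjective C
        exact congrArg ConjClasses.mk (φ.symm_apply_apply u)
      right_inv := fun C => by
        obtain ⟨u, rfl⟩ := ConjClasses.mk_surjective C
        exact congrArg ConjClasses.mk (φ.apply_symm_apply u) }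
  refine Nat.card_congr (e.subtypeEquiv fun C => ⟨?_, ?_⟩)
  · rintro ⟨u, rfl, hu⟩
    exact ⟨φ u, rfl, hu⟩
  · rintro ⟨u, hu, hr⟩
    refine ⟨φ.symm u, ?_, hr⟩
    have := congrArg e.symm hu
    rwa [Equiv.symm_apply_apply] at this

end Cfsg.Agent.H57.UnitaryRegular
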