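import Mathlib
import Cfsg.Prelude.Def_Classical

set_option autoImplicit false

namespace Cfsg.Agent.H57

variable {F : Type*} [Field F] [Fintype F]

/-- number of solutions of `x * y = c` -/
theorem card_mul_eq [DecidableEq F] (c : F) :
    (Nat.card {p : F × F // p.1 * p.2 = c} : ℤ)
      = if c = 0 then 2 * (Fintype.card F : ℤ) - 1 else (Fintype.card F : ℤ) - 1 := by
  classical
  by_cases hc : c = 0
  · subst hc
    have h : Nat.card {p : F × F // p.1 * p.2 = 0} + Nat.card {p : F × F // p.1 * p.2 ≠ 0}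
        = Fintype.card F * Fintype.card F := by
      rw [← Nat.card_sum, Nat.card_congr (Equiv.sumCompl fun p : F × F => p.1 * p.2 = 0),
        Nat.card_eq_fintype_card, Fintype.card_prod]
    have e : {p : F × F // p.1 * p.2 ≠ 0} ≃ Fˣ × Fˣ :=
      { toFun := fun p => (Units.mk0 p.1.1 (left_ne_zero_of_mul p.2),
          Units.mk0 p.1.2 (right_ne_zero_of_mul p.2))
        invFun := fun u => ⟨((u.1 : F), (u.2 : F)), mul_ne_zero u.1.ne_zero u.2.ne_zero⟩
        left_inv := fun p => by simp
        right_inv := fun u => by simp }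
    rw [Nat.card_congr e, Nat.card_prod, Nat.card_eq_fintype_card (α := Fˣ),
      Fintype.card_units] at h
    have h1 : 1 ≤ Fintype.card F := Fintype.card_pos
    rw [if_pos rfl]
    have h' : (Nat.card {p : F × F // p.1 * p.2 = 0} : ℤ)
        + ((Fintype.card F : ℤ) - 1) * ((Fintype.card F : ℤ) - 1)
        = (Fintype.card F : ℤ) * Fintype.card F := by
      rw [← Nat.cast_one, ← Nat.cast_sub h1]; exact_mod_cast h
    linear_combination h'
  · have e : {p : F × F // p.1 * p.2 = c} ≃ Fˣ :=
      { toFun := fun p => Units.mk0 p.1.1 (fun h0 => hc (by rw [← p.2, h0, zero_mul]))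
        invFun := fun u => ⟨((u : F), (u : F)⁻¹ * c), by simp⟩
        left_inv := fun p => by
          have h0 : p.1.1 ≠ 0 := fun h0 => hc (by rw [← p.2, h0, zero_mul])
          apply Subtype.ext; apply Prod.ext
          · rfl
          · show p.1.1⁻¹ * c = p.1.2
            conv_lhs => arg 2; rw [← p.2]
            exact inv_mul_cancel_left₀ h0 _
        right_inv := fun u => by ext; rfl }
    rw [if_neg hc, Nat.card_congr e, Nat.card_eq_fintype_card, Fintype.card_units]
    have h1 : 1 ≤ Fintype.card F := Fintype.card_pos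
    omega

/-- Adding a hyperbolic plane to a function `f` on a finite set. -/
theorem card_zero_add_hyperbolic {W : Type*} [Finite W] (f : W → F) :
    (Nat.card {p : W × F × F // f p.1 + p.2.1 * p.2.2 = 0} : ℤ)
      = (Fintype.card F : ℤ) * Nat.card {w : W // f w = 0}
        + ((Fintype.card F : ℤ) - 1) * Nat.card W := by
  classical
  have : Fintype W := Fintype.ofFinite W
  have e : {p : W × F × F // f p.1 + p.2.1 * p.2.2 = 0}
      ≃ Σ w : W, {p : F × F // p.1 * p.2 = -f w} :=
    { toFun := fun p => ⟨p.1.1, p.1.2, eq_neg_of_add_eq_zero_right p.2⟩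
      invFun := fun s => ⟨(s.1, s.2.1), by
        show f s.1 + s.2.1.1 * s.2.1.2 = 0
        rw [s.2.2, add_neg_cancel]⟩
      left_inv := fun p => rfl
      right_inv := fun s => rfl }
  rw [Nat.card_congr e, Nat.card_sigma, Nat.cast_sum]
  simp only [card_mul_eq, neg_eq_zero]
  rw [Nat.card_eq_fintype_card, Nat.card_eq_fintype_card, Fintype.card_subtype,
    Finset.sum_ite, Finset.sum_const, Finset.sum_const, nsmul_eq_mul, nsmul_eq_mul]
  have hsplit := Finset.card_filter_add_card_filter_not (s := (Finset.univ : Finset W))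
    (fun w => f w = 0)
  rw [Finset.card_univ] at hsplit
  have hsplit' : (((Finset.univ.filter fun w => f w = 0).card : ℤ))
      + ((Finset.univ.filter fun w => ¬ f w = 0).card : ℤ) = Fintype.card W := by
    exact_mod_cast hsplit
  linear_combination ((Fintype.card F : ℤ) - 1) * hsplit'

/-- number of zeros of the plus form -/
theorem card_zero_plus (m : ℕ) :
    (Nat.card {v : Fin (m + 1) ⊕ Fin (m + 1) → F // Cfsg.quadFormPlus (m + 1) F v = 0} : ℤ)
      = (Fintype.card F : ℤ) * Nat.card {v : Fin m ⊕ Fin m → F // Cfsg.quadFormPlus m F v = 0}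
        + ((Fintype.card F : ℤ) - 1) * (Fintype.card F : ℤ) ^ (2 * m) := by
  let e : (Fin (m + 1) ⊕ Fin (m + 1) → F) ≃ (Fin m ⊕ Fin m → F) × F × F :=
    { toFun := fun v => (Sum.elim (fun i => v (.inl i.succ)) (fun i => v (.inr i.succ)),
        v (.inl 0), v (.inr 0))
      invFun := fun p => Sum.elim (Fin.cons p.2.1 (fun i => p.1 (.inl i)))
        (Fin.cons p.2.2 (fun i => p.1 (.inr i)))
      left_inv := fun v => by
        funext x; rcases x with i | i <;> refine Fin.cases ?_ (fun j => ?_) i <;> simp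
      right_inv := fun p => by
        refine Prod.ext ?_ (Prod.ext ?_ ?_)
        · funext x; rcases x with i | i <;> simp
        · simp
        · simp }
  have he : ∀ v, Cfsg.quadFormPlus (m + 1) F v
      = Cfsg.quadFormPlus m F (e v).1 + (e v).2.1 * (e v).2.2 := fun v => by
    simp [e, Cfsg.quadFormPlus, Fin.sum_univ_succ, add_comm]
  rw [Nat.card_congr (e.subtypeEquiv (p := fun v => Cfsg.quadFormPlus (m + 1) F v = 0)
    (q := fun p => Cfsg.quadFormPlus m F p.1 + p.2.1 * p.2.2 = 0) fun v => by rw [he]),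
    card_zero_add_hyperbolic (W := Fin m ⊕ Fin m → F)]
  simp [Nat.card_eq_fintype_card, two_mul]

/-- number of zeros of the minus form -/
theorem card_zero_minus (m : ℕ) (a b : F) :
    (Nat.card {v : (Fin (m + 1) ⊕ Fin (m + 1)) ⊕ Fin 2 → F //
        Cfsg.quadFormMinus (m + 1) F a b v = 0} : ℤ)
      = (Fintype.card F : ℤ) * Nat.card {v : (Fin m ⊕ Fin m) ⊕ Fin 2 → F //
          Cfsg.quadFormMinus m F a b v = 0}
        + ((Fintype.card F : ℤ) - 1) * (Fintype.card F : ℤ) ^ (2 * m + 2) := by
  let e : ((Fin (m + 1) ⊕ Fin (m + 1)) ⊕ Fin 2 → F) ≃ ((Fin m ⊕ Fin m) ⊕ Fin 2 → F) × F × F :=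
    { toFun := fun v => (Sum.elim (Sum.elim (fun i => v (.inl (.inl i.succ)))
          (fun i => v (.inl (.inr i.succ)))) (fun k => v (.inr k)),
        v (.inl (.inl 0)), v (.inl (.inr 0)))
      invFun := fun p => Sum.elim (Sum.elim (Fin.cons p.2.1 (fun i => p.1 (.inl (.inl i))))
        (Fin.cons p.2.2 (fun i => p.1 (.inl (.inr i))))) (fun k => p.1 (.inr k))
      left_inv := fun v => by
        funext x
        rcases x with (i | i) | i
        · refine Fin.cases ?_ (fun j => ?_) i <;> simp
        · refine Fin.cases ?_ (fun j => ?_) i <;> simp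
        · simp
      right_inv := fun p => by
        refine Prod.ext ?_ (Prod.ext ?_ ?_)
        · funext x; rcases x with (i | i) | i <;> simp
        · simp
        · simp }
  have he : ∀ v, Cfsg.quadFormMinus (m + 1) F a b v
      = Cfsg.quadFormMinus m F a b (e v).1 + (e v).2.1 * (e v).2.2 := fun v => by
    simp [e, Cfsg.quadFormMinus, Fin.sum_univ_succ]; ring
  rw [Nat.card_congr (e.subtypeEquiv (p := fun v => Cfsg.quadFormMinus (m + 1) F a b v = 0)
    (q := fun p => Cfsg.quadFormMinus m F a b p.1 + p.2.1 * p.2.2 = 0) fun v => by rw [he]),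
    card_zero_add_hyperbolic (W := (Fin m ⊕ Fin m) ⊕ Fin 2 → F)]
  simp [Nat.card_eq_fintype_card, two_mul]

/-- plus minus difference -/
theorem card_zero_plus_sub_minus (m : ℕ) (a b : F)
    (hab : ∀ z₁ z₂ : F, z₁ ^ 2 + a * z₁ * z₂ + b * z₂ ^ 2 = 0 → z₁ = 0 ∧ z₂ = 0) :
    (Nat.card {v : Fin (m + 1) ⊕ Fin (m + 1) → F // Cfsg.quadFormPlus (m + 1) F v = 0} : ℤ)
      - Nat.card {v : (Fin m ⊕ Fin m) ⊕ Fin 2 → F // Cfsg.quadFormMinus m F a b v = 0}
      = 2 * ((Fintype.card F : ℤ) - 1) * (Fintype.card F : ℤ) ^ m := by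
  induction m with
  | zero =>
    have h1 : Nat.card {v : Fin 0 ⊕ Fin 0 → F // Cfsg.quadFormPlus 0 F v = 0} = 1 := by
      have : Unique {v : Fin 0 ⊕ Fin 0 → F // Cfsg.quadFormPlus 0 F v = 0} :=
        { default := ⟨0, by simp [Cfsg.quadFormPlus]⟩
          uniq := fun v => Subtype.ext (Subsingleton.elim _ _) }
      exact Nat.card_unique
    have h2 : Nat.card {v : (Fin 0 ⊕ Fin 0) ⊕ Fin 2 → F //
        Cfsg.quadFormMinus 0 F a b v = 0} = 1 := by
      have : Unique {v : (Fin 0 ⊕ Fin 0) ⊕ Fin 2 → F // Cfsg.quadFormMinus 0 F a b v = 0} :=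
        { default := ⟨0, by simp [Cfsg.quadFormMinus]⟩
          uniq := fun v => by
            have h0 := v.2
            simp only [Cfsg.quadFormMinus, Finset.univ_eq_empty, Finset.sum_empty, zero_add] at h0
            have h3 := hab _ _ h0
            refine Subtype.ext (funext fun x => ?_)
            rcases x with (i | i) | i
            · exact i.elim0
            · exact i.elim0
            · fin_cases i
              · exact h3.1
              · exact h3.2 }
      exact Nat.card_unique
    rw [card_zero_plus 0, h1, h2]; simp; ring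
  | succ m ih =>
    rw [card_zero_plus (m + 1), card_zero_minus m, show 2 * (m + 1) = 2 * m + 2 by ring]
    linear_combination (Fintype.card F : ℤ) * ih

end Cfsg.Agent.H57
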